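import Cfsg.Agent.Lib.ExtraThirtyTwo.A0Fusion

/-!
The fusion pattern of alternating groups of degree nine: two classes of involutions, and the
centraliser of the second one in the normaliser of the elementary group of order sixteen.
-/

set_option autoImplicit false
set_option maxRecDepth 20000

namespace Cfsg.Agent.ExtraThirtyTwo

open Subgroup

universe u

/-- The six involutions of the elementary group which are not fused with the central one. -/
def sixL : List ℕ := [10, 11, 97, 99, 105, 106]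

theorem sixL_mem : ∀ x ∈ fL, x = 0 ∨ repF x = 1 ∨ repF x = 2 ∨ repF x = 8 ∨ repF x = 96 ∨
    (x ∈ sixL ∧ (repF x = 10 ∨ repF x = 97)) := by
  decide +kernel

theorem sixL_orbit : (([(10, 11), (97, 99), (97, 105), (97, 106)] : List (ℕ × ℕ)).all fun q =>
    sylL.any fun g => mul .A0 g q.1 == mul .A0 q.2 g) = true := by
  decide +kernel

theorem mul_ten : mul .A0 10 11 = 1 := by decide +kernel

variable {G : Type u} [Group G] [Finite G] {s : G}

namespace Local

theorem syl_moves (D : Local .A0 s) {q : ℕ × ℕ}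
    (hq : q ∈ ([(10, 11), (97, 99), (97, 105), (97, 106)] : List (ℕ × ℕ))) :
    ∃ n ∈ normalizer (D.fgrp : Set G), n * D.el q.1 * n⁻¹ = D.el q.2 := by
  have h := List.all_eq_true.1 sixL_orbit q hq
  simp only [List.any_eq_true, beq_iff_eq] at h
  obtain ⟨g, hg, e⟩ := h
  have h192 : q.1 < 192 ∧ q.2 < 192 := by
    simp only [List.mem_cons, List.not_mem_nil, or_false] at hq
    rcases hq with rfl | rfl | rfl | rfl <;> decide
  exact ⟨D.el g, (D.norm_cent (sylL_sub g hg)).2 hg,
    D.conj_eq (sylL_sub g hg) h192.1 h192.2 e⟩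

theorem six_trans {G : Type u} [Group G] [Finite G] {s : G} (D : Local Kind.A0 s)
    (h2 : IsConj s (D.el 2)) (h8 : IsConj s (D.el 8)) (h10 : ¬ IsConj s (D.el 10))
    (h96 : IsConj s (D.el 96)) (h97 : ¬ IsConj s (D.el 97)) :
    (∀ n ∈ normalizer (D.fgrp : Set G), ∀ x ∈ sixL, ∃ y ∈ sixL, n * D.el x * n⁻¹ = D.el y) ∧
      ∀ x ∈ sixL, ∃ n ∈ normalizer (D.fgrp : Set G), n * D.el 10 * n⁻¹ = D.el x := by
  classical
  set N := normalizer (D.fgrp : Set G) with hN
  have hsix : ∀ x ∈ sixL, x ∈ fL := by decide +kernel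
  have hne0 : ∀ x ∈ sixL, x ≠ 0 := by decide +kernel
  -- the six involutions are the only ones of the group not fused with `s`
  have hnot : ∀ x ∈ sixL, ¬ IsConj s (D.el x) := by
    intro x hx h
    have hc := D.isConj_repF (hsix x hx) (hne0 x hx)
    simp only [sixL, List.mem_cons, List.not_mem_nil, or_false] at hx
    rcases hx with rfl | rfl | rfl | rfl | rfl | rfl
    all_goals first
      | exact h10 (h.trans (by simpa [repF] using hc.symm))
      | exact h97 (h.trans (by simpa [repF] using hc.symm))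
  have hinv : ∀ n ∈ N, ∀ x ∈ sixL, ∃ y ∈ sixL, n * D.el x * n⁻¹ = D.el y := by
    intro n hn x hx
    obtain ⟨y, hy, e⟩ := (mem_normalizer_iff.1 hn _).1 (D.el_mem_fgrp (hsix x hx))
    have hconj : IsConj (D.el x) (D.el y) := isConj_iff.2 ⟨n, e.symm⟩
    have hs : ¬ IsConj s (D.el y) := fun h => hnot x hx (h.trans hconj.symm)
    rcases sixL_mem y hy with rfl | hr | hr | hr | hr | ⟨hr, -⟩
    · exfalso
      rw [D.el_one, eq_comm, mul_inv_eq_one, mul_eq_left] at e
      have hx0 : x ≠ 0 := by rintro rfl; revert hx; decide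
      exact hx0 ((D.el_eq_one (fL_lt x (hsix x hx))).1 e)
    any_goals
      exfalso
      have hy0 : y ≠ 0 := by rintro rfl; revert hr; decide
      have hc := D.isConj_repF hy hy0
      rw [hr] at hc
      refine hs (IsConj.trans ?_ hc)
      first | exact h2 | exact h8 | exact h96 | (rw [D.s_eq])
    exact ⟨y, hr, e.symm⟩
  -- the normaliser is transitive on them
  obtain ⟨n₁, hn₁, y₁, hy₁, e₁⟩ :
      ∃ n ∈ N, ∃ y ∈ [97, 99, 105, 106], n * D.el 10 * n⁻¹ = D.el y := by
    by_contra hcon
    push Not at hcon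
    have hpair : ∀ n ∈ N, n * D.el 10 * n⁻¹ = D.el 10 ∨ n * D.el 10 * n⁻¹ = D.el 11 := by
      intro n hn
      obtain ⟨y, hy, e⟩ := hinv n hn 10 (by decide)
      simp only [sixL, List.mem_cons, List.not_mem_nil, or_false] at hy
      rcases hy with rfl | rfl | rfl | rfl | rfl | rfl
      · exact Or.inl e
      · exact Or.inr e
      all_goals exact absurd e (hcon n hn _ (by simp))
    obtain ⟨m, hm, hms⟩ := D.exists_norm_map (f := 2) (by decide +kernel) h2
    obtain ⟨g, hg, hge⟩ := D.syl_moves (q := (10, 11)) (by simp)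
    have hmg := hpair (m * g) (mul_mem hm hg)
    have hm11 : m * D.el 11 * m⁻¹ = D.el 10 ∨ m * D.el 11 * m⁻¹ = D.el 11 := by
      have key : m * D.el 11 * m⁻¹ = m * g * D.el 10 * (m * g)⁻¹ := by rw [← hge]; group
      rw [key]
      exact hmg
    have hne : D.el 10 ≠ D.el 11 := fun h => by
      have := D.el_inj (by norm_num) (by norm_num) h
      omega
    have hs1 : s = D.el 10 * D.el 11 := by
      rw [← D.el_mul (by norm_num) (by norm_num), mul_ten, D.s_eq]
    have hcomm : D.el 11 * D.el 10 = D.el 10 * D.el 11 :=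
      D.fgrp_comm (D.el_mem_fgrp (by decide +kernel)) (D.el_mem_fgrp (by decide +kernel))
    have hfix : m * s * m⁻¹ = s := by
      have : m * s * m⁻¹ = (m * D.el 10 * m⁻¹) * (m * D.el 11 * m⁻¹) :=
        (congrArg (fun z => m * z * m⁻¹) hs1).trans (by group)
      rw [this]
      rcases hpair m hm with a | a <;> rcases hm11 with b | b <;> rw [a, b]
      · exact absurd (mul_left_cancel (mul_right_cancel (a.trans b.symm))) hne
      · exact hs1.symm
      · rw [hcomm]; exact hs1.symm
      · exact absurd (mul_left_cancel (mul_right_cancel (a.trans b.symm))) hne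
    have := D.el_inj (by norm_num) (by norm_num) ((hms.symm.trans hfix).trans D.s_eq.symm)
    omega
  have htrans : ∀ x ∈ sixL, ∃ n ∈ N, n * D.el 10 * n⁻¹ = D.el x := by
    have comp : ∀ a b c : G, (∃ n ∈ N, n * a * n⁻¹ = b) → (∃ n ∈ N, n * b * n⁻¹ = c) →
        ∃ n ∈ N, n * a * n⁻¹ = c := by
      rintro a _ _ ⟨n, hn, rfl⟩ ⟨m, hm, rfl⟩
      exact ⟨m * n, mul_mem hm hn, by group⟩
    have symm : ∀ a b : G, (∃ n ∈ N, n * a * n⁻¹ = b) → ∃ n ∈ N, n * b * n⁻¹ = a := by
      rintro a _ ⟨n, hn, rfl⟩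
      exact ⟨n⁻¹, inv_mem hn, by group⟩
    have h1 : ∀ y ∈ [99, 105, 106], ∃ n ∈ N, n * D.el 97 * n⁻¹ = D.el y := by
      intro y hy
      simp only [List.mem_cons, List.not_mem_nil, or_false] at hy
      rcases hy with rfl | rfl | rfl
      · exact D.syl_moves (q := (97, 99)) (by simp)
      · exact D.syl_moves (q := (97, 105)) (by simp)
      · exact D.syl_moves (q := (97, 106)) (by simp)
    have h97' : ∃ n ∈ N, n * D.el 10 * n⁻¹ = D.el 97 := by
      simp only [List.mem_cons, List.not_mem_nil, or_false] at hy₁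
      rcases hy₁ with rfl | hy₁
      · exact ⟨n₁, hn₁, e₁⟩
      · exact comp _ _ _ ⟨n₁, hn₁, e₁⟩ (symm _ _ (h1 y₁ (by simpa using hy₁)))
    intro x hx
    simp only [sixL, List.mem_cons, List.not_mem_nil, or_false] at hx
    rcases hx with rfl | rfl | rfl | hx
    · exact ⟨1, one_mem _, by group⟩
    · exact D.syl_moves (q := (10, 11)) (by simp)
    · exact h97'
    · exact comp _ _ _ h97' (h1 x (by simpa using hx))
  exact ⟨hinv, htrans⟩

theorem two_classes {G : Type u} [Group G] [Finite G] {s : G} (D : Local Kind.A0 s)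
    (h2 : IsConj s (D.el 2)) (h8 : IsConj s (D.el 8)) (h10 : ¬ IsConj s (D.el 10))
    (h96 : IsConj s (D.el 96)) (h97 : ¬ IsConj s (D.el 97)) :
    (∀ g : G, orderOf g = 2 → IsConj s g ∨ IsConj (D.el 10) g) ∧
      Nat.card ↥(Subgroup.normalizer (D.fgrp : Set G) ⊓
        Subgroup.centralizer ({D.el 10} : Set G)) = 96 := by
  classical
  obtain ⟨hinv, htrans⟩ := D.six_trans h2 h8 h10 h96 h97
  set N := normalizer (D.fgrp : Set G) with hN
  have hcardN : Nat.card N = 576 := by
    rw [hN, D.card_norm_count, decide_eq_true h2, decide_eq_true h8, decide_eq_false h10,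
      decide_eq_true h96, decide_eq_false h97]
    decide +kernel
  have hsix : ∀ x ∈ sixL, x ∈ fL := by decide +kernel
  refine ⟨fun g hg => ?_, ?_⟩
  · have hz : IsPGroup 2 (Subgroup.zpowers g) :=
      IsPGroup.of_card (n := 1) (by rw [Nat.card_zpowers, hg, pow_one])
    obtain ⟨P, hP⟩ := hz.exists_le_sylow
    obtain ⟨c, hc⟩ := MulAction.exists_smul_eq G P D.sylow
    have hmem : c * g * c⁻¹ ∈ (D.sylow : Subgroup G) := by
      rw [← hc]
      exact ⟨g, hP (Subgroup.mem_zpowers g), rfl⟩
    rw [D.coe_sylow] at hmem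
    obtain ⟨x, hx, hxe⟩ := hmem
    have hgx : IsConj g (D.el x) := isConj_iff.2 ⟨c, hxe.symm⟩
    obtain ⟨r, hr, hrx⟩ := D.exists_rep (sylL_sub x hx) ((D.orderOf_two (sylL_sub x hx)).1 (by
      rw [hxe, Involutions.Basic.orderOf_conj, hg]))
    have hrg : IsConj (D.el r) g := hrx.trans hgx.symm
    simp only [reps, List.mem_cons, List.not_mem_nil, or_false] at hr
    rcases hr with rfl | rfl | rfl | rfl | rfl | rfl
    · exact Or.inl (by rwa [D.s_eq] at hrg)
    · exact Or.inl (h2.trans hrg)
    · exact Or.inl (h8.trans hrg)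
    · exact Or.inr hrg
    · exact Or.inl (h96.trans hrg)
    · obtain ⟨n, -, e⟩ := htrans 97 (by decide)
      exact Or.inr ((isConj_iff.2 ⟨n, e⟩).trans hrg)
  · letI : MulAction N G := MulAction.compHom G (ConjAct.toConjAct.toMonoidHom.comp N.subtype)
    have hsmul : ∀ (n : N) (g : G), n • g = (n : G) * g * (n : G)⁻¹ := fun _ _ => rfl
    have horb : MulAction.orbit N (D.el 10) = D.el '' (sixL.toFinset : Set ℕ) := by
      ext g
      simp only [MulAction.mem_orbit_iff, hsmul, Set.mem_image, Finset.mem_coe, List.mem_toFinset]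
      constructor
      · rintro ⟨⟨n, hn⟩, rfl⟩
        obtain ⟨y, hy, e⟩ := hinv n hn 10 (by decide)
        exact ⟨y, hy, e.symm⟩
      · rintro ⟨x, hx, rfl⟩
        obtain ⟨n, hn, e⟩ := htrans x hx
        exact ⟨⟨n, hn⟩, e⟩
    have hcard : Nat.card (MulAction.orbit N (D.el 10)) = 6 := by
      rw [horb, Nat.card_coe_set_eq, Set.InjOn.ncard_image, Set.ncard_coe_finset]
      · decide +kernel
      · intro x hx y hy h
        exact D.el_inj (fL_lt x (hsix x (List.mem_toFinset.1 hx)))
          (fL_lt y (hsix y (List.mem_toFinset.1 hy))) h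
    have hmul := (MulAction.stabilizer N (D.el 10)).card_mul_index
    rw [MulAction.index_stabilizer, ← Nat.card_coe_set_eq, hcard, hcardN] at hmul
    have e : Nat.card (MulAction.stabilizer N (D.el 10)) =
        Nat.card ↥(N ⊓ centralizer ({D.el 10} : Set G)) := by
      refine Nat.card_congr
        { toFun := fun n => ⟨((n : N) : G), (n : N).2, mem_centralizer_singleton_iff.2
            (mul_inv_eq_iff_eq_mul.1 (MulAction.mem_stabilizer_iff.1 n.2))⟩
          invFun := fun x => ⟨⟨(x : G), x.2.1⟩, MulAction.mem_stabilizer_iff.2 (by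
            rw [hsmul, mem_centralizer_singleton_iff.1 x.2.2, mul_inv_cancel_right])⟩
          left_inv := fun _ => rfl
          right_inv := fun _ => rfl }
    rw [← e]
    omega

end Local

end Cfsg.Agent.ExtraThirtyTwo
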