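import Cfsg.Agent.Lib.ExtraThirtyTwo.AltEightData
import Cfsg.Agent.Lib.CharTheory.AltPresentation

/-!
# The alternating group of degree eight by eight involutions

A finite group generated by eight involutions with the relators of `AltEight.rels`, in which the first seven
generate a proper subgroup whose nontrivial normal subgroups of the whole group contain the first generator, is the
group of the fifteen-point table; so is the alternating group of degree eight, hence the two are isomorphic.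
-/

set_option autoImplicit false

namespace Cfsg.Agent.ExtraThirtyTwo.AltEight

open Cfsg.Agent.CosetCert

theorem steps_ok : rangeOK cert 0 cert.N = true := by decide +kernel

theorem start_ok : fM (cert.F.get 0) = 1 := by decide +kernel

theorem edge_ok : ∀ (x : Fin 8) (c : Fin 15), edge x c < cert.N ∧ fX (cert.F.get (edge x c)) = x.1 ∧
    fU (cert.F.get (edge x c)) = rep c ∧ fV (cert.F.get (edge x c)) = rep (img x c) := by decide +kernel

theorem img_img : ∀ (x : Fin 8) (c : Fin 15), img x (img x c) = c := by decide +kernel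

theorem rep_zero : rep 0 = 0 := by decide +kernel

theorem img_fix : ∀ x : Fin 8, x ≠ 7 → img x 0 = 0 := by decide +kernel

theorem img_seven : img 7 0 = 1 := by decide +kernel

theorem descend : ∀ c : Fin 15, c ≠ 0 → ∃ x, img x c < c := by decide +kernel

theorem descend_sub : ∀ c : Fin 15, c ≠ 0 → c ≠ 1 → ∃ x, x ≠ 7 ∧ img x c < c ∧ img x c ≠ 0 := by decide +kernel

/-- The permutation of the fifteen cosets given by a generator. -/
def perm (x : Fin 8) : Equiv.Perm (Fin 15) := ⟨img x, img x, img_img x, img_img x⟩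

/-- The group of the table. -/
def table : Subgroup (Equiv.Perm (Fin 15)) := Subgroup.closure (Set.range perm)

theorem perm_zero_ne : perm 0 ≠ 1 := fun h => by
  have := congrArg (fun p : Equiv.Perm (Fin 15) => p 2) h
  revert this
  decide +kernel

/-- The hypotheses. -/
structure Hyp {G : Type*} [Group G] (g : ℕ → G) : Prop where
  sq : ∀ x, g x * g x = 1
  rel : ∀ w ∈ rels, (w.map g).prod = 1
  gen : Subgroup.closure (g '' {x | x < 8}) = ⊤
  notMem : g 7 ∉ Subgroup.closure (g '' {x | x < 7})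
  min : ∀ N : Subgroup G, N.Normal → N ≠ ⊥ → N ≤ Subgroup.closure (g '' {x | x < 7}) → g 0 ∈ N

section Main

variable {G : Type*} [Group G] {g : ℕ → G}

theorem act_prod {Q : Type*} [MulAction G Q] : ∀ (w : List ℕ) (q : Q), act g w q = (w.reverse.map g).prod • q
  | [], q => by simp [act]
  | y :: w, q => by
    rw [act, act_prod w, List.reverse_cons, List.map_append, List.prod_append, List.map_singleton,
      List.prod_singleton, mul_smul]

/-- The group is the group of the table. -/
theorem equiv_table [Finite G] (h : Hyp g) : Nonempty (G ≃* table) := by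
  classical
  set H := Subgroup.closure (g '' {x | x < 7}) with hH
  have hgH : ∀ x, x < 7 → g x ∈ H := fun x hx => Subgroup.subset_closure ⟨x, hx, rfl⟩
  have hfix : ∀ a, a ∈ H ↔ a • ((1 : G) : G ⧸ H) = ((1 : G) : G ⧸ H) := fun a => by
    rw [MulAction.Quotient.smul_coe, QuotientGroup.eq, smul_eq_mul, mul_one, mul_one, inv_mem_iff]
  have hS : Sat g cert ((1 : G) : G ⧸ H) := by
    refine ⟨h.sq, fun w hw q => ?_, fun w hw => ?_⟩
    · rw [act_prod]
      rcases List.mem_append.1 hw with hw | hw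
      · obtain ⟨v, hv, rfl⟩ := List.mem_map.1 hw
        rw [List.reverse_reverse, h.rel v hv, one_smul]
      · obtain ⟨i, -, rfl⟩ := List.mem_map.1 hw
        simp [h.sq i]
    · obtain ⟨i, hi, rfl⟩ := List.mem_map.1 hw
      exact (hfix _).1 (hgH i (List.mem_range.1 hi))
  obtain ⟨q, hq0, hq⟩ := exists_naming g cert ((1 : G) : G ⧸ H) hS start_ok fun i hi =>
    rangeOK_spec cert cert.N 0 steps_ok i (Nat.zero_le i) (by simpa using hi)
  set f : Fin 15 → G ⧸ H := fun c => q (rep c) with hf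
  have hmove : ∀ x c, g (x : Fin 8).1 • f c = f (img x c) := fun x c => by
    obtain ⟨hlt, hx, hu, hv⟩ := edge_ok x c
    have e := hq _ hlt
    unfold Valid at e
    rw [hx, hu, hv] at e
    have hb : Nat.beq x.1 cert.K = false := by
      cases hb : Nat.beq x.1 cert.K with
      | false => rfl
      | true =>
        have := Nat.eq_of_beq_eq_true hb
        have h8 : cert.K = 8 := rfl
        omega
    simpa [consLetter, hb, act] using e
  have hf0 : f 0 = ((1 : G) : G ⧸ H) := by rw [hf]; simp only [rep_zero, hq0]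
  have hmem : ∀ a : G, a ∈ Submonoid.closure (g '' {x | x < 8}) → ∀ c, ∃ d, a • f c = f d := by
    intro a ha
    induction ha using Submonoid.closure_induction with
    | mem a ha =>
      obtain ⟨x, hx, rfl⟩ := ha
      exact fun c => ⟨img ⟨x, hx⟩ c, hmove ⟨x, hx⟩ c⟩
    | one => exact fun c => ⟨c, one_smul _ _⟩
    | mul a b _ _ iha ihb =>
      intro c
      obtain ⟨d, hd⟩ := ihb c
      obtain ⟨e, he⟩ := iha d
      exact ⟨e, by rw [mul_smul, hd, he]⟩
  have hsurj : Function.Surjective f := by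
    intro p
    induction p using QuotientGroup.induction_on with | _ a => ?_
    have ha : a ∈ Submonoid.closure (g '' {x | x < 8}) := by
      rw [← Subgroup.closure_toSubmonoid_of_finite, h.gen]
      trivial
    obtain ⟨d, hd⟩ := hmem a ha 0
    refine ⟨d, ?_⟩
    rw [← hd, hf0, MulAction.Quotient.smul_coe, smul_eq_mul, mul_one]
  have hconst : ∀ d, d ≠ 0 → f d ≠ f 0 := by
    intro d hd0 hd
    have down : ∀ d : Fin 15, d ≠ 0 → f d = f 0 → f 1 = f 0 := by
      intro d
      induction d using WellFoundedLT.induction with | ind d ih => ?_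
      intro hd0 hd
      by_cases h1 : d = 1
      · rw [← h1, hd]
      obtain ⟨x, hx, hlt, hne⟩ := descend_sub d hd0 h1
      refine ih _ hlt hne ?_
      rw [← hmove, hd, hmove, img_fix x hx]
    have h1 := down d hd0 hd
    refine h.notMem ((hfix _).2 ?_)
    rw [← hf0, show g 7 = g (7 : Fin 8).1 from rfl, hmove, img_seven, h1]
  have hinj : Function.Injective f := by
    have key : ∀ c d : Fin 15, c ≠ d → f c ≠ f d := by
      intro c
      induction c using WellFoundedLT.induction with | ind c ih => ?_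
      intro d hcd e
      by_cases hc : c = 0
      · exact hconst d (fun hd => hcd (hc.trans hd.symm)) (by rw [← e, hc])
      obtain ⟨x, hx⟩ := descend c hc
      exact ih _ hx (img x d) (fun e' => hcd ((perm x).injective e')) (by rw [← hmove, ← hmove, e])
    exact fun c d e => not_ne_iff.1 fun hne => key c d hne e
  let e : Fin 15 ≃ G ⧸ H := Equiv.ofBijective f ⟨hinj, hsurj⟩
  let φ : G →* Equiv.Perm (Fin 15) := e.symm.permCongrHom.toMonoidHom.comp (MulAction.toPermHom G (G ⧸ H))
  have hφ : ∀ x : Fin 8, φ (g x) = perm x := fun x => Equiv.ext fun c => by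
    apply e.injective
    show e (e.symm (g x.1 • e c)) = e (img x c)
    rw [Equiv.apply_symm_apply]
    exact hmove x c
  have hker : φ.ker = ⊥ := by
    by_contra hne
    refine perm_zero_ne ?_
    rw [← hφ 0]
    refine h.min φ.ker inferInstance hne fun a ha => (hfix a).2 ?_
    have e1 := congrArg (fun p : Equiv.Perm (Fin 15) => e (p 0)) (MonoidHom.mem_ker.1 ha)
    simp only [Equiv.Perm.one_apply] at e1
    have e2 : e (e.symm (a • e 0)) = e 0 := e1
    rw [Equiv.apply_symm_apply] at e2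
    rw [← hf0]
    exact e2
  have hrange : φ.range = table := by
    rw [MonoidHom.range_eq_map, ← h.gen, MonoidHom.map_closure, table]
    congr 1
    ext p
    constructor
    · rintro ⟨-, ⟨x, hx, rfl⟩, rfl⟩
      exact ⟨⟨x, hx⟩, (hφ ⟨x, hx⟩).symm⟩
    · rintro ⟨x, rfl⟩
      exact ⟨g x, ⟨x, x.2, rfl⟩, hφ x⟩
  exact ⟨(MonoidHom.ofInjective ((MonoidHom.ker_eq_bot_iff φ).1 hker)).trans (MulEquiv.subgroupCongr hrange)⟩

end Main

section Model

/-- The images of the eight points under the model of the generators. -/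
def mdl : Fin 8 → Fin 8 → Fin 8 :=
  ![![2, 3, 0, 1, 6, 7, 4, 5], ![3, 2, 1, 0, 6, 7, 4, 5], ![1, 0, 3, 2, 7, 6, 5, 4], ![1, 0, 7, 6, 5, 4, 3, 2],
    ![4, 5, 6, 7, 0, 1, 2, 3], ![5, 4, 6, 7, 1, 0, 2, 3], ![4, 6, 5, 7, 0, 2, 1, 3], ![5, 6, 4, 7, 2, 0, 1, 3]]

theorem mdl_mdl : ∀ x i, mdl x (mdl x i) = i := by decide +kernel

/-- The model of a generator as a permutation. -/
def mdlPerm (x : Fin 8) : Equiv.Perm (Fin 8) := ⟨mdl x, mdl x, mdl_mdl x, mdl_mdl x⟩

theorem mdl_sign : ∀ x, Equiv.Perm.sign (mdlPerm x) = 1 := by decide +kernel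

/-- The model, extended by the identity. -/
def mdlAlt (x : ℕ) : alternatingGroup (Fin 8) :=
  if hx : x < 8 then ⟨mdlPerm ⟨x, hx⟩, Equiv.Perm.mem_alternatingGroup.2 (mdl_sign _)⟩ else 1

theorem mdl_rel : ∀ w ∈ rels, ((w.map mdlAlt).prod : alternatingGroup (Fin 8)) = 1 := by decide +kernel

/-- The fourteen planes of the affine space on the eight points. -/
def planes : Finset (Finset (Fin 8)) :=
  {{0, 1, 2, 3}, {0, 1, 4, 5}, {0, 1, 6, 7}, {0, 2, 4, 6}, {0, 2, 5, 7}, {0, 3, 4, 7}, {0, 3, 5, 6}, {1, 2, 4, 7},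
    {1, 2, 5, 6}, {1, 3, 4, 6}, {1, 3, 5, 7}, {2, 3, 4, 5}, {2, 3, 6, 7}, {4, 5, 6, 7}}

theorem planes_fixed : ∀ x : Fin 8, x ≠ 7 → planes.image (Finset.image (mdlPerm x)) = planes := by decide +kernel

theorem planes_moved : planes.image (Finset.image (mdlPerm 7)) ≠ planes := by decide +kernel

open Cfsg.Agent.CharTheory.AltPresentation in
theorem moore : gen 6 0 = mdlPerm 6 * mdlPerm 5 * mdlPerm 7 * mdlPerm 4 ∧ gen 6 1 = mdlPerm 0 * mdlPerm 1 ∧
    gen 6 2 = mdlPerm 3 * mdlPerm 5 * mdlPerm 6 * mdlPerm 5 * mdlPerm 7 * mdlPerm 3 ∧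
    gen 6 3 = mdlPerm 4 * mdlPerm 5 ∧ gen 6 4 = mdlPerm 5 * mdlPerm 6 * mdlPerm 5 * mdlPerm 7 ∧
    gen 6 5 = mdlPerm 0 * mdlPerm 4 * mdlPerm 1 * mdlPerm 5 := by
  decide +kernel

theorem mdl_hyp : Hyp mdlAlt := by
  refine ⟨fun x => ?_, mdl_rel, ?_, fun hmem => planes_moved ?_, fun N hN hne _ => ?_⟩
  · unfold mdlAlt
    split
    · next hx => exact Subtype.ext (Equiv.ext fun i => mdl_mdl ⟨x, hx⟩ i)
    · exact one_mul 1
  · refine Subgroup.map_injective (alternatingGroup (Fin 8)).subtype_injective ?_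
    rw [MonoidHom.map_closure, ← MonoidHom.range_eq_map, Subgroup.range_subtype]
    set S := Subgroup.closure ((alternatingGroup (Fin 8)).subtype '' (mdlAlt '' {x | x < 8}))
    refine le_antisymm ((Subgroup.closure_le _).2 ?_) ?_
    · rintro _ ⟨a, -, rfl⟩
      exact a.2
    have hm : ∀ x : Fin 8, mdlPerm x ∈ S := fun x =>
      Subgroup.subset_closure ⟨mdlAlt x, ⟨x, x.2, rfl⟩, by simp [mdlAlt, x.2]⟩
    rw [← Cfsg.Agent.CharTheory.AltPresentation.closure_gen 6]
    refine (Subgroup.closure_le _).2 ?_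
    obtain ⟨e0, e1, e2, e3, e4, e5⟩ := moore
    rintro _ ⟨i, hi, rfl⟩
    simp only [Set.mem_Iio] at hi
    interval_cases i <;> simp only [SetLike.mem_coe, e0, e1, e2, e3, e4, e5] <;>
      repeat first | apply Subgroup.mul_mem | exact hm _
  · have hstab : ∀ a ∈ Submonoid.closure (mdlAlt '' {x | x < 7}),
        planes.image (Finset.image (a : Equiv.Perm (Fin 8))) = planes := by
      intro a ha
      induction ha using Submonoid.closure_induction with
      | mem a ha =>
        obtain ⟨x, hx, rfl⟩ := ha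
        have hx7 : x < 7 := hx
        simp only [mdlAlt, dif_pos (show x < 8 by omega)]
        exact planes_fixed _ fun e => by
          have := congrArg Fin.val e
          simp at this
          omega
      | one =>
        rw [show Finset.image ((1 : alternatingGroup (Fin 8)) : Equiv.Perm (Fin 8)) = id from
          funext fun s => Finset.image_id, Finset.image_id]
      | mul a b _ _ iha ihb =>
        conv_rhs => rw [← iha, ← ihb]
        rw [Finset.image_image]
        refine Finset.image_congr fun s _ => ?_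
        simp only [Function.comp, Finset.image_image, Subgroup.coe_mul, Equiv.Perm.coe_mul]
    have := hstab (mdlAlt 7) (by rwa [← Subgroup.closure_toSubmonoid_of_finite])
    simpa [mdlAlt] using this
  · have : IsSimpleGroup (alternatingGroup (Fin 8)) := alternatingGroup.isSimpleGroup (by simp)
    rw [(hN.eq_bot_or_eq_top).resolve_left hne]
    trivial

end Model

end Cfsg.Agent.ExtraThirtyTwo.AltEight

namespace Cfsg.Agent.ExtraThirtyTwo

universe u

/-- A presentation of the alternating group of degree eight. -/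
theorem equiv_alternating_eight {G : Type u} [Group G] [Finite G] (a1 a2 t t2 b1 b2 u v : G)
    (h1 : a1*a1=1) (h2 : a2*a2=1) (h3 : t*t=1) (h4 : t2*t2=1) (h5 : b1*b1=1) (h6 : b2*b2=1) (h7 : u*u=1)
    (h8 : v*v=1)
    (r1 : a1*t*b1*t*b1=1) (r2 : a1*t*v*a1*v=1) (r3 : a1*t2*a1*t2*b1=1) (r4 : (a2*t)^2=1)
    (r5 : a2*t2*a2*t2*b2=1) (r6 : a2*u*t*u=1) (r7 : (t*t2)^3=1) (r8 : (t2*u)^4=1) (r9 : (t2*v)^4=1)
    (r10 : (b1*u)^2=1) (r11 : (b1*v)^3=1) (r12 : (b2*u)^3=1) (r13 : (b2*v)^2=1) (r14 : (u*v)^2=1)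
    (gen : Subgroup.closure ({a1,a2,t,t2,b1,b2,u,v} : Set G) = ⊤)
    (hv : v ∉ Subgroup.closure ({a1,a2,t,t2,b1,b2,u} : Set G))
    (hmin : ∀ N : Subgroup G, N.Normal → N ≠ ⊥ → N ≤ Subgroup.closure ({a1,a2,t,t2,b1,b2,u} : Set G) → a1 ∈ N) :
    Nonempty (G ≃* alternatingGroup (Fin 8)) := by
  let g : ℕ → G := fun x => [a1, a2, t, t2, b1, b2, u, v].getD x 1
  have e8 : g '' {x | x < 8} = {a1,a2,t,t2,b1,b2,u,v} := by
    ext z
    constructor
    · rintro ⟨x, hx, rfl⟩
      simp only [Set.mem_ofPred_eq] at hx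
      interval_cases x <;> simp [g]
    · simp only [Set.mem_insert_iff, Set.mem_singleton_iff]
      rintro (rfl | rfl | rfl | rfl | rfl | rfl | rfl | rfl)
      exacts [⟨0, by simp, rfl⟩, ⟨1, by simp, rfl⟩, ⟨2, by simp, rfl⟩, ⟨3, by simp, rfl⟩, ⟨4, by simp, rfl⟩,
        ⟨5, by simp, rfl⟩, ⟨6, by simp, rfl⟩, ⟨7, by simp, rfl⟩]
  have e7 : g '' {x | x < 7} = {a1,a2,t,t2,b1,b2,u} := by
    ext z
    constructor
    · rintro ⟨x, hx, rfl⟩
      simp only [Set.mem_ofPred_eq] at hx
      interval_cases x <;> simp [g]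
    · simp only [Set.mem_insert_iff, Set.mem_singleton_iff]
      rintro (rfl | rfl | rfl | rfl | rfl | rfl | rfl)
      exacts [⟨0, by simp, rfl⟩, ⟨1, by simp, rfl⟩, ⟨2, by simp, rfl⟩, ⟨3, by simp, rfl⟩, ⟨4, by simp, rfl⟩,
        ⟨5, by simp, rfl⟩, ⟨6, by simp, rfl⟩]
  have hg : AltEight.Hyp g := by
    refine ⟨fun x => ?_, ?_, by rw [e8, gen], by rw [e7]; exact hv, by rw [e7]; exact hmin⟩
    · rcases x with _|_|_|_|_|_|_|_|x <;> simp [g, h1, h2, h3, h4, h5, h6, h7, h8]
    · simp only [pow_succ, pow_zero, one_mul, mul_assoc] at r4 r7 r8 r9 r10 r11 r12 r13 r14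
      simp only [mul_assoc] at r1 r2 r3 r5 r6
      simp [AltEight.rels, g, r1, r2, r3, r4, r5, r6, r7, r8, r9, r10, r11, r12, r13, r14]
  obtain ⟨e⟩ := AltEight.equiv_table hg
  obtain ⟨e'⟩ := AltEight.equiv_table AltEight.mdl_hyp
  exact ⟨e.trans e'.symm⟩

end Cfsg.Agent.ExtraThirtyTwo
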