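import Cfsg.Agent.Lib.ExtraThirtyTwo.A0HClasses
import Cfsg.Agent.Lib.ExtraThirtyTwo.AltEightPres

/-!
# The alternating group of degree eight inside the split configuration

With nine conjugates of the central involution in the elementary group of order sixteen, the centraliser of the
involution and the normaliser of that group lie in a subgroup isomorphic to the alternating group of degree eight.
-/

set_option autoImplicit false
set_option maxRecDepth 20000
set_option linter.style.haveILetI false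

namespace Cfsg.Agent.ExtraThirtyTwo

open Subgroup

universe u

namespace EightFacts

/-- The conjugates of `s` in the elementary group. -/
def s9 : List ℕ := [1, 2, 3, 8, 9, 96, 98, 104, 107]

/-- The endomorphism of the elementary group with given images of `1`, `2`, `8`, `96`. -/
def ext (q : ℕ × ℕ × ℕ × ℕ) (f : ℕ) : ℕ :=
  Nat.xor (Nat.xor (Nat.xor (f % 2 * q.1) (f / 2 % 2 * q.2.1)) (f / 8 % 2 * q.2.2.1)) (f / 96 * q.2.2.2)

/-- The generators of the elementary group. -/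
def fG : List ℕ := [1, 2, 8, 96]

/-- The nine automorphisms of three-power order. -/
def nineL : List (ℕ × ℕ × ℕ × ℕ) :=
  [(1, 2, 8, 96), (2, 3, 96, 104), (3, 1, 104, 8), (8, 96, 9, 98), (9, 98, 1, 2), (96, 104, 98, 107),
    (98, 107, 2, 3), (104, 8, 107, 9), (107, 9, 3, 1)]

/-- The first generator of the group of order nine. -/
def qy1 : ℕ × ℕ × ℕ × ℕ := (3, 1, 104, 8)

/-- The second generator of the group of order nine. -/
def qy3 : ℕ × ℕ × ℕ × ℕ := (8, 96, 9, 98)

/-- The inverse of the first generator. -/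
def qy1i : ℕ × ℕ × ℕ × ℕ := (2, 3, 96, 104)

/-- The inverse of the second generator. -/
def qy3i : ℕ × ℕ × ℕ × ℕ := (9, 98, 1, 2)

/-- Conjugation by a code of square one. -/
def cj (c z : ℕ) : ℕ := mul .A0 (mul .A0 c z) c

theorem fL_xor : (fL.all fun x => fL.all fun y =>
    (mul .A0 x y == Nat.xor x y) && fL.contains (Nat.xor x y)) = true := by decide +kernel

theorem ext_id : (fL.all fun f => ext (1, 2, 8, 96) f == f) = true := by decide +kernel

theorem auto_nine : (s9.all fun a => s9.all fun b => s9.all fun c => s9.all fun d =>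
    !((s9.all fun f => s9.contains (ext (a, b, c, d) f)) &&
      ((fL.all fun f => f == 0 || !(ext (a, b, c, d) f == 0)) &&
        fG.all fun f => (ext (a, b, c, d))^[9] f == f)) || nineL.contains (a, b, c, d)) = true := by
  decide +kernel

theorem nine_mem : (nineL.all fun q =>
    fL.contains q.1 && fL.contains q.2.1 && fL.contains q.2.2.1 && fL.contains q.2.2.2) = true := by decide +kernel

theorem nine_fix : (fL.all fun f => f == 0 || nineL.any fun q => !(ext q f == f)) = true := by decide +kernel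

theorem nine_gen : (nineL.all fun q => [0, 1, 2].any fun i => [0, 1, 2].any fun j =>
    fG.all fun f => (ext qy1)^[i] ((ext qy3)^[j] f) == ext q f) = true := by decide +kernel

theorem nine_nodup : nineL.Nodup := by decide +kernel

theorem pair_conj : (fL.all fun f => fL.all fun f' =>
    !(mul .A0 (mul .A0 f 4) (mul .A0 f 4) == 0) || !(mul .A0 (mul .A0 f' 16) (mul .A0 f' 16) == 0) ||
      !comm .A0 (mul .A0 f 4) (mul .A0 f' 16) || fL.any fun g =>
        (mul .A0 g (mul .A0 f 4) == mul .A0 4 g) && (mul .A0 g (mul .A0 f' 16) == mul .A0 16 g)) = true := by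
  decide +kernel

theorem pair_mod : (fL.all fun f => fL.all fun f' =>
    fL.contains (mul .A0 (mul .A0 f 4) (mul .A0 f 4)) && fL.contains (mul .A0 (mul .A0 f' 16) (mul .A0 f' 16)) &&
      fL.any fun g => mul .A0 (mul .A0 f 4) (mul .A0 f' 16) ==
        mul .A0 g (mul .A0 (mul .A0 f' 16) (mul .A0 f 4))) = true := by
  decide +kernel

theorem nine_power : ∀ f ∈ fG, (ext qy1)^[3] f = f ∧ (ext qy3)^[3] f = f ∧
    ext qy1 (ext qy1 f) = ext qy1i f ∧ ext qy3 (ext qy3 f) = ext qy3i f ∧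
    ext qy1 (ext qy3 f) = ext qy3 (ext qy1 f) ∧
    cj 4 (ext qy1 (cj 4 f)) = ext qy1 f ∧ cj 16 (ext qy3 (cj 16 f)) = ext qy3 f ∧
    cj 16 (ext qy1 (cj 16 f)) = ext qy1i f ∧ cj 4 (ext qy3 (cj 4 f)) = ext qy3i f ∧
    fL.contains (cj 4 f) ∧ fL.contains (cj 16 f) := by
  decide +kernel

theorem cent_E : ((List.range 192).all fun g =>
    !(comm .A0 g 1 && comm .A0 g 2 && comm .A0 g 4) || eL.contains g) = true := by decide +kernel

theorem eL_facts : closedL .A0 eL = true ∧ (∀ z ∈ eL, z = mul .A0 (mul .A0 (z % 2) (z / 2 % 2 * 2)) (z / 4 * 4)) ∧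
    ∀ c ∈ [2, 4, 8, 16, 96, 160], ∀ z ∈ [1, 2, 4], cj c z ∈ eL := by decide +kernel

theorem cent_four_u : ((List.range 192).all fun g =>
    !(comm .A0 g 1 && comm .A0 g 6 && comm .A0 g 5 && comm .A0 g 2 && comm .A0 g 4) ||
      mul .A0 g g == 0) = true := by decide +kernel

theorem cent_four_v : ((List.range 192).all fun g =>
    !(comm .A0 g 1 && comm .A0 g 25 && comm .A0 g 17 && comm .A0 g 9 && comm .A0 g 16) ||
      mul .A0 g g == 0) = true := by decide +kernel

theorem syl_exponent : (sylL.all fun y => mul .A0 (mul .A0 y y) (mul .A0 y y) == 0) = true := by decide +kernel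

theorem code_decomp : ((List.range 192).all fun g =>
    g == prodL .A0 [dig 0 g, 2 * dig 1 g, 4 * dig 2 g, 8 * dig 3 g, 16 * dig 4 g,
      32 * min 1 (iOf g), 32 * (iOf g / 2), 96 * jOf g]) = true := by decide +kernel

end EightFacts

open EightFacts

/-- An element whose cyclic group is a 2-group has a conjugate in a given Sylow 2-subgroup. -/
theorem exists_conj_mem_sylow {K : Type u} [Group K] [Finite K] (S : Sylow 2 K) {w : K}
    (hw : IsPGroup 2 (zpowers w)) : ∃ c : K, c * w * c⁻¹ ∈ (S : Subgroup K) := by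
  haveI : Fact (Nat.Prime 2) := ⟨Nat.prime_two⟩
  obtain ⟨Q, hQ⟩ := hw.exists_le_sylow
  obtain ⟨c, rfl⟩ := MulAction.exists_smul_eq K Q S
  refine ⟨c, ?_⟩
  rw [Sylow.coe_subgroup_smul]
  exact ⟨w, hQ (mem_zpowers w), rfl⟩

variable {G : Type u} [Group G] [Finite G] {s : G}

namespace Local

variable (D : Local .A0 s)

/-- An element induces the given endomorphism on the elementary group. -/
def Acts (n : G) (q : ℕ × ℕ × ℕ × ℕ) : Prop := ∀ f ∈ fL, n * D.el f * n⁻¹ = D.el (ext q f)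

theorem xor_mem {x y : ℕ} (hx : x ∈ fL) (hy : y ∈ fL) :
    Nat.xor x y ∈ fL ∧ D.el (Nat.xor x y) = D.el x * D.el y := by
  have h := List.all_eq_true.1 (List.all_eq_true.1 fL_xor x hx) y hy
  simp only [Bool.and_eq_true, beq_iff_eq, List.contains_iff_mem] at h
  exact ⟨h.2, by rw [← h.1, D.el_mul (fL_lt x hx) (fL_lt y hy)]⟩

include D in
theorem ext_mem {q : ℕ × ℕ × ℕ × ℕ} (ha : q.1 ∈ fL) (hb : q.2.1 ∈ fL) (hc : q.2.2.1 ∈ fL) (hd : q.2.2.2 ∈ fL)
    {f : ℕ} (hf : f ∈ fL) : ext q f ∈ fL := by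
  have h0 : ∀ k x, k < 2 → x ∈ fL → k * x ∈ fL := fun k x hk hx => by
    interval_cases k
    · rw [zero_mul]; decide
    · rwa [one_mul]
  have hf' := fL_lt f hf
  exact (D.xor_mem (D.xor_mem (D.xor_mem (h0 _ _ (by omega) ha) (h0 _ _ (by omega) hb)).1
    (h0 _ _ (by omega) hc)).1 (h0 _ _ (by omega) hd)).1

include D in
theorem ext_mem_nine {q : ℕ × ℕ × ℕ × ℕ} (hq : q ∈ nineL) {f : ℕ} (hf : f ∈ fL) : ext q f ∈ fL := by
  have h := List.all_eq_true.1 nine_mem q hq
  simp only [Bool.and_eq_true, List.contains_iff_mem] at h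
  exact D.ext_mem h.1.1.1 h.1.1.2 h.1.2 h.2 hf

theorem fG_sub {f : ℕ} (hf : f ∈ fG) : f ∈ fL := by
  revert f
  decide

theorem conj_xor {n : G} {x y x' y' : ℕ} (hx : x ∈ fL) (hy : y ∈ fL) (hx' : x' ∈ fL) (hy' : y' ∈ fL)
    (e1 : n * D.el x * n⁻¹ = D.el x') (e2 : n * D.el y * n⁻¹ = D.el y') :
    n * D.el (Nat.xor x y) * n⁻¹ = D.el (Nat.xor x' y') := by
  rw [(D.xor_mem hx hy).2, (D.xor_mem hx' hy').2, ← e1, ← e2]
  group

theorem acts_of_gens {n : G} {q : ℕ × ℕ × ℕ × ℕ} (ha : q.1 ∈ fL) (hb : q.2.1 ∈ fL) (hc : q.2.2.1 ∈ fL)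
    (hd : q.2.2.2 ∈ fL) (h1 : n * D.el 1 * n⁻¹ = D.el q.1) (h2 : n * D.el 2 * n⁻¹ = D.el q.2.1)
    (h3 : n * D.el 8 * n⁻¹ = D.el q.2.2.1) (h4 : n * D.el 96 * n⁻¹ = D.el q.2.2.2) : D.Acts n q := by
  have h0 : ∀ k x x', k < 2 → x ∈ fL → x' ∈ fL → n * D.el x * n⁻¹ = D.el x' →
      k * x ∈ fL ∧ k * x' ∈ fL ∧ n * D.el (k * x) * n⁻¹ = D.el (k * x') := fun k x x' hk hx hx' e => by
    interval_cases k
    · simp only [zero_mul, D.el_one, mul_one, mul_inv_cancel, and_true]
      exact ⟨by decide, by decide⟩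
    · simp only [one_mul]
      exact ⟨hx, hx', e⟩
  intro f hf
  have hf' := fL_lt f hf
  obtain ⟨p1, q1, e1⟩ := h0 (f % 2) 1 _ (by omega) (by decide) ha h1
  obtain ⟨p2, q2, e2⟩ := h0 (f / 2 % 2) 2 _ (by omega) (by decide) hb h2
  obtain ⟨p3, q3, e3⟩ := h0 (f / 8 % 2) 8 _ (by omega) (by decide) hc h3
  obtain ⟨p4, q4, e4⟩ := h0 (f / 96) 96 _ (by omega) (by decide) hd h4
  have e := D.conj_xor (D.xor_mem (D.xor_mem p1 p2).1 p3).1 p4 (D.xor_mem (D.xor_mem q1 q2).1 q3).1 q4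
    (D.conj_xor (D.xor_mem p1 p2).1 p3 (D.xor_mem q1 q2).1 q3 (D.conj_xor p1 p2 q1 q2 e1 e2) e3) e4
  have hid := List.all_eq_true.1 ext_id f hf
  rw [beq_iff_eq] at hid
  exact (congrArg (fun z => n * D.el z * n⁻¹) hid).symm.trans e

omit [Finite G] in
theorem cj_el {c z : ℕ} (hc : c < 192) (hz : z < 192) (hcc : mul .A0 c c = 0) :
    D.el (cj c z) = D.el c * D.el z * (D.el c)⁻¹ := by
  rw [cj, D.el_mul (mul_lt _ _ _) hc, D.el_mul hc hz, inv_eq_of_mul_eq_one_right
    (show D.el c * D.el c = 1 by rw [← D.el_mul hc hc, hcc, D.el_one])]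

section Nine

variable {D} (h2 : IsConj s (D.el 2)) (h8 : IsConj s (D.el 8)) (h10 : ¬ IsConj s (D.el 10))
  (h96 : IsConj s (D.el 96)) (h97 : ¬ IsConj s (D.el 97))

include h2 h8 h10 h96 h97 in
theorem mem_s9 {x : ℕ} (hx : x ∈ fL) : IsConj s (D.el x) ↔ x ∈ s9 := by
  by_cases hx0 : x = 0
  · subst hx0
    rw [D.el_one, isConj_one_left]
    simp [s9, Involutions.Basic.ne_one D.orderOf_s]
  have hc := D.isConj_repF hx hx0
  rw [show IsConj s (D.el x) ↔ IsConj s (D.el (repF x)) from ⟨fun h => h.trans hc.symm, fun h => h.trans hc⟩]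
  have h1 : IsConj s (D.el 1) := by rw [D.s_eq]
  simp only [fL, List.mem_cons, List.not_mem_nil, or_false] at hx
  rcases hx with rfl | rfl | rfl | rfl | rfl | rfl | rfl | rfl | rfl | rfl | rfl | rfl | rfl | rfl | rfl | rfl <;>
    simp_all [repF, s9]

include h2 h8 h10 h96 h97 in
open scoped Classical in
theorem card_norm_nine : Nat.card (normalizer (D.fgrp : Set G)) = 576 := by
  rw [D.card_norm_count, decide_eq_true h2, decide_eq_true h8, decide_eq_false h10, decide_eq_true h96,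
    decide_eq_false h97]
  decide +kernel

omit h2 h8 h10 h96 h97 in
theorem mem_fgrp_of_fix {n : G} (h : ∀ f ∈ fG, n * D.el f * n⁻¹ = D.el f) : n ∈ D.fgrp := by
  have hall : D.Acts n (1, 2, 8, 96) :=
    D.acts_of_gens (by decide) (by decide) (by decide) (by decide) (h 1 (by decide)) (h 2 (by decide))
      (h 8 (by decide)) (h 96 (by decide))
  have hs := h 1 (by decide)
  rw [D.s_eq] at hs
  obtain ⟨g, hg, rfl⟩ := (D.mem' n).1 (mem_centralizer_singleton_iff.2 (mul_inv_eq_iff_eq_mul.1 hs))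
  refine D.el_mem_fgrp ?_
  have hfact := List.all_eq_true.1 fL_selfcent g (List.mem_range.2 hg)
  have hcom : fL.all (comm .A0 g) = true := by
    rw [List.all_eq_true]
    intro f hf
    have e := hall f hf
    have hid := List.all_eq_true.1 ext_id f hf
    rw [beq_iff_eq] at hid
    rw [hid] at e
    exact (D.commute_iff hg (fL_lt f hf)).1 (mul_inv_eq_iff_eq_mul.1 e)
  simpa [hcom] using hfact

omit h2 h8 h10 h96 h97 in
theorem acts_eq {a b : G} {q : ℕ × ℕ × ℕ × ℕ} (ha : D.Acts a q) (hb : D.Acts b q) : a⁻¹ * b ∈ D.fgrp := by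
  refine mem_fgrp_of_fix fun f hf => ?_
  calc a⁻¹ * b * D.el f * (a⁻¹ * b)⁻¹ = a⁻¹ * (b * D.el f * b⁻¹) * a := by group
    _ = a⁻¹ * (a * D.el f * a⁻¹) * a := by rw [hb f (fG_sub hf), ha f (fG_sub hf)]
    _ = D.el f := by group

omit h2 h8 h10 h96 h97 in
theorem acts_pow {n : G} {q : ℕ × ℕ × ℕ × ℕ} (hq : ∀ f ∈ fL, ext q f ∈ fL) (h : D.Acts n q) (k : ℕ) :
    ∀ f ∈ fL, n ^ k * D.el f * (n ^ k)⁻¹ = D.el ((ext q)^[k] f) := by
  induction k with
  | zero => intro f _; simp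
  | succ k ih =>
    intro f hf
    rw [Function.iterate_succ_apply, pow_succ]
    calc n ^ k * n * D.el f * (n ^ k * n)⁻¹ = n ^ k * (n * D.el f * n⁻¹) * (n ^ k)⁻¹ := by group
      _ = _ := by rw [h f hf, ih _ (hq f hf)]

include h2 h8 h10 h96 h97 in
theorem exists_acts_nine {n : G} (hn : n ∈ normalizer (D.fgrp : Set G)) (h9 : n ^ 9 = 1) :
    ∃ q ∈ nineL, D.Acts n q := by
  have him : ∀ f ∈ fL, ∃ f' ∈ fL, n * D.el f * n⁻¹ = D.el f' := fun f hf => by
    obtain ⟨f', hf', e⟩ := (mem_normalizer_iff.1 hn _).1 (D.el_mem_fgrp hf)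
    exact ⟨f', hf', e.symm⟩
  have hs9 : ∀ f ∈ fL, ∀ f' ∈ fL, f ∈ s9 → n * D.el f * n⁻¹ = D.el f' → f' ∈ s9 := fun f hf f' hf' hfs e =>
    (mem_s9 h2 h8 h10 h96 h97 hf').1
      (((mem_s9 h2 h8 h10 h96 h97 hf).2 hfs).trans (isConj_iff.2 ⟨n, e⟩))
  obtain ⟨a, ha, ea⟩ := him 1 (by decide)
  obtain ⟨b, hb, eb⟩ := him 2 (by decide)
  obtain ⟨c, hc, ec⟩ := him 8 (by decide)
  obtain ⟨d, hd, ed⟩ := him 96 (by decide)
  have hA : D.Acts n (a, b, c, d) := D.acts_of_gens ha hb hc hd ea eb ec ed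
  refine ⟨(a, b, c, d), ?_, hA⟩
  have hext : ∀ f ∈ fL, ext (a, b, c, d) f ∈ fL := fun f hf => D.ext_mem ha hb hc hd hf
  have h := List.all_eq_true.1 (List.all_eq_true.1 (List.all_eq_true.1 (List.all_eq_true.1 auto_nine
    a (hs9 1 (by decide) a ha (by decide) ea)) b (hs9 2 (by decide) b hb (by decide) eb))
    c (hs9 8 (by decide) c hc (by decide) ec)) d (hs9 96 (by decide) d hd (by decide) ed)
  have c1 : (s9.all fun f => s9.contains (ext (a, b, c, d) f)) = true := by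
    rw [List.all_eq_true]
    intro f hf
    have hfL : f ∈ fL := by revert f; decide
    rw [List.contains_iff_mem]
    exact hs9 f hfL _ (hext f hfL) hf (hA f hfL)
  have c2 : (fL.all fun f => f == 0 || !(ext (a, b, c, d) f == 0)) = true := by
    rw [List.all_eq_true]
    intro f hf
    simp only [Bool.or_eq_true, beq_iff_eq, Bool.not_eq_true', beq_eq_false_iff_ne, ne_eq]
    refine or_iff_not_imp_left.2 fun hf0 he => hf0 ((D.el_eq_one (fL_lt f hf)).1 ?_)
    have e := hA f hf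
    rw [he, D.el_one] at e
    exact conj_eq_one_iff.1 e
  have c3 : (fG.all fun f => (ext (a, b, c, d))^[9] f == f) = true := by
    rw [List.all_eq_true]
    intro f hf
    have e := acts_pow hext hA 9 f (fG_sub hf)
    rw [h9, one_mul, inv_one, mul_one] at e
    have hlt : ∀ k, (ext (a, b, c, d))^[k] f ∈ fL := fun k => by
      induction k with
      | zero => exact fG_sub hf
      | succ k ih => rw [Function.iterate_succ_apply']; exact hext _ ih
    exact beq_iff_eq.2 (D.el_inj (fL_lt _ (hlt 9)) (fL_lt f (fG_sub hf)) e.symm)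
  rw [c1, c2, c3] at h
  simpa using h

variable {P : Subgroup G} (hPN : P ≤ normalizer (D.fgrp : Set G)) (hP : Nat.card P = 9)

omit h2 h8 h10 h96 h97 hPN in
include hP in
theorem inter_fgrp {z : G} (hzP : z ∈ P) (hzF : z ∈ D.fgrp) : z = 1 := by
  rw [← orderOf_eq_one_iff]
  have h1 : orderOf z ∣ 9 := hP ▸ Subgroup.orderOf_dvd_natCard P hzP
  have h2 : orderOf z ∣ 16 := D.card_fgrp ▸ Subgroup.orderOf_dvd_natCard _ hzF
  exact Nat.eq_one_of_dvd_coprimes (by norm_num) h1 h2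

omit h2 h8 h10 h96 h97 in
include hP in
theorem eq_of_acts {a b : G} {q : ℕ × ℕ × ℕ × ℕ} (ha : a ∈ P) (hb : b ∈ P) (qa : D.Acts a q)
    (qb : D.Acts b q) : a = b :=
  inv_mul_eq_one.1 (inter_fgrp hP (mul_mem (inv_mem ha) hb) (acts_eq qa qb))

include h2 h8 h10 h96 h97 hPN hP in
theorem exists_of_nine {q : ℕ × ℕ × ℕ × ℕ} (hq : q ∈ nineL) : ∃ p ∈ P, D.Acts p q := by
  classical
  have hex : ∀ p : P, ∃ r : {r // r ∈ nineL.toFinset}, D.Acts (p : G) r.1 := fun p => by
    have hp9 : (p : G) ^ 9 = 1 := by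
      rw [← Subgroup.coe_pow, ← hP, pow_card_eq_one', Subgroup.coe_one]
    obtain ⟨r, hr, e⟩ := exists_acts_nine h2 h8 h10 h96 h97 (hPN p.2) hp9
    exact ⟨⟨r, List.mem_toFinset.2 hr⟩, e⟩
  choose Φ hΦ using hex
  have hinj : Function.Injective Φ := fun a b e =>
    Subtype.ext (eq_of_acts hP a.2 b.2 (hΦ a) (e ▸ hΦ b))
  have hbij : Function.Bijective Φ := by
    refine (Nat.bijective_iff_injective_and_card Φ).2 ⟨hinj, ?_⟩
    rw [hP, Nat.card_eq_fintype_card, Fintype.card_coe, List.toFinset_card_of_nodup nine_nodup]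
    rfl
  obtain ⟨p, hp⟩ := hbij.2 ⟨q, List.mem_toFinset.2 hq⟩
  exact ⟨p, p.2, by have := hΦ p; rwa [hp] at this⟩

include h2 h8 h10 h96 h97 hPN hP in
theorem exists_mod {n : G} (hn : n ∈ normalizer (D.fgrp : Set G)) (h9 : n ^ 9 = 1) :
    ∃ p ∈ P, p⁻¹ * n ∈ D.fgrp := by
  obtain ⟨q, hq, hnq⟩ := exists_acts_nine h2 h8 h10 h96 h97 hn h9
  obtain ⟨p, hp, hpq⟩ := exists_of_nine h2 h8 h10 h96 h97 hPN hP hq
  exact ⟨p, hp, acts_eq hpq hnq⟩

include h2 h8 h10 h96 h97 hPN hP in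
theorem norm_inter {f : G} (hf : f ∈ D.fgrp) (hn : ∀ p ∈ P, f * p * f⁻¹ ∈ P) : f = 1 := by
  obtain ⟨c, hc, rfl⟩ := hf
  by_contra hne
  have hc0 : c ≠ 0 := fun h => hne (by rw [h, D.el_one])
  have h := List.all_eq_true.1 nine_fix c hc
  simp only [Bool.or_eq_true, beq_iff_eq, List.any_eq_true, Bool.not_eq_true', beq_eq_false_iff_ne, ne_eq,
    hc0, false_or] at h
  obtain ⟨q, hq, hqc⟩ := h
  obtain ⟨p, hp, hpq⟩ := exists_of_nine h2 h8 h10 h96 h97 hPN hP hq
  have hz : D.el c * p * (D.el c)⁻¹ * p⁻¹ = 1 := by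
    refine inter_fgrp (D := D) hP (mul_mem (hn p hp) (inv_mem hp)) ?_
    rw [show D.el c * p * (D.el c)⁻¹ * p⁻¹ = D.el c * (p * (D.el c)⁻¹ * p⁻¹) by group]
    exact mul_mem (D.el_mem_fgrp hc)
      ((mem_normalizer_iff.1 (hPN hp) _).1 (inv_mem (D.el_mem_fgrp hc)))
  refine hqc (D.el_inj (fL_lt _ (D.ext_mem_nine hq hc)) (fL_lt c hc) ?_)
  rw [← hpq c hc, ← mul_inv_eq_one]
  calc p * D.el c * p⁻¹ * (D.el c)⁻¹ = (D.el c * p * (D.el c)⁻¹ * p⁻¹)⁻¹ := by group
    _ = 1 := by rw [hz, inv_one]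

end Nine

include D in
theorem four_sixteen_norm : D.el 4 ∈ normalizer (D.fgrp : Set G) ∧ D.el 16 ∈ normalizer (D.fgrp : Set G) :=
  ⟨(D.norm_cent (by norm_num)).2 (by decide +kernel), (D.norm_cent (by norm_num)).2 (by decide +kernel)⟩

/-- A group of order nine of the normaliser of the elementary group normalised by the two involutions `b₁`, `b₂`. -/
theorem exists_nine_group (h2 : IsConj s (D.el 2)) (h8 : IsConj s (D.el 8)) (h10 : ¬ IsConj s (D.el 10))
    (h96 : IsConj s (D.el 96)) (h97 : ¬ IsConj s (D.el 97)) :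
    ∃ P : Subgroup G, P ≤ normalizer (D.fgrp : Set G) ∧ Nat.card P = 9 ∧
      ∀ c ∈ [4, 16], ∀ p ∈ P, D.el c * p * (D.el c)⁻¹ ∈ P := by
  classical
  haveI : Fact (Nat.Prime 3) := ⟨Nat.prime_three⟩
  set N := normalizer (D.fgrp : Set G) with hNdef
  have hN : Nat.card N = 576 := card_norm_nine h2 h8 h10 h96 h97
  obtain ⟨K, hK⟩ := Sylow.exists_subgroup_card_pow_prime (G := N) 3 (n := 2) (by rw [hN]; norm_num)
  have hfac : (Nat.card N).factorization 3 = 2 := by
    have a := (Nat.Prime.pow_dvd_iff_le_factorization (k := 2) Nat.prime_three Nat.card_pos.ne').1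
      (by rw [hN]; norm_num)
    have b : ¬ 3 ≤ (Nat.card N).factorization 3 := fun hb => by
      have := (Nat.Prime.pow_dvd_iff_le_factorization (k := 3) Nat.prime_three Nat.card_pos.ne').2 hb
      rw [hN] at this
      norm_num at this
    omega
  let S : Sylow 3 N := Sylow.ofCard K (by rw [hK, hfac])
  set P := K.map N.subtype with hPdef
  have hPN : P ≤ N := map_subtype_le K
  have hP : Nat.card P = 9 := by
    rw [hPdef, Nat.card_congr (K.equivMapOfInjective _ N.subtype_injective).toEquiv.symm, hK]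
    norm_num
  have hFN : D.fgrp ≤ N := fun g hg => by
    refine D.norm_of_map fun f hf => ?_
    rw [D.fgrp_comm hg hf, mul_inv_cancel_right]
    exact hf
  set F := D.fgrp.subgroupOf N with hFdef
  haveI hFn : F.Normal := (normal_subgroupOf_iff_le_normalizer hFN).2 le_rfl
  have hM : (K ⊔ F).Normal := by
    refine ⟨fun m hm d => ?_⟩
    have hle : K ⊔ F ≤ (K ⊔ F).comap (MulAut.conj d).toMonoidHom := by
      refine sup_le (fun k hk => ?_) (fun f hf => mem_sup_right (hFn.conj_mem f hf d))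
      have hk9 : ((d * k * d⁻¹ : N) : G) ^ 9 = 1 := by
        rw [← Subgroup.coe_pow, conj_pow]
        have : k ^ 9 = 1 := by
          have e : (⟨k, hk⟩ : K) ^ Nat.card K = 1 := pow_card_eq_one'
          rw [hK] at e
          exact congrArg Subtype.val e
        rw [this, mul_one, mul_inv_cancel, Subgroup.coe_one]
      obtain ⟨p, ⟨p', hp', rfl⟩, hpf⟩ := exists_mod h2 h8 h10 h96 h97 hPN hP (d * k * d⁻¹ : N).2 hk9
      show d * k * d⁻¹ ∈ K ⊔ F
      rw [show d * k * d⁻¹ = p' * (p'⁻¹ * (d * k * d⁻¹)) by group]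
      exact mul_mem_sup hp' (show p'⁻¹ * (d * k * d⁻¹) ∈ F from hpf)
    exact hle hm
  have hfrat : normalizer (K : Set N) ⊔ F = ⊤ := by
    have h := S.normalizer_sup_eq_top' (N := K ⊔ F) le_sup_left
    refine eq_top_iff.2 (h ▸ sup_le le_sup_left (sup_le ?_ le_sup_right))
    exact le_normalizer.trans le_sup_left
  have hco : ∀ c : ℕ, c < 192 → D.el c ∈ N →
      ∃ f ∈ fL, ∀ p ∈ P, D.el (mul .A0 f c) * p * (D.el (mul .A0 f c))⁻¹ ∈ P := by
    intro c hc hcN
    have hd : (⟨D.el c, hcN⟩ : N) ∈ normalizer (K : Set N) ⊔ F := hfrat ▸ mem_top _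
    obtain ⟨y, hy, z, hz, e⟩ := mem_sup_of_normal_right.1 hd
    have e' : (y : G) = D.el c * (z : G)⁻¹ := by
      have := congrArg Subtype.val e
      simp only [Subgroup.coe_mul] at this
      rw [← this, mul_inv_cancel_right]
    obtain ⟨f, hf, hfe⟩ := (mem_normalizer_iff.1 hcN _).1 (inv_mem (show (z : G) ∈ D.fgrp from hz))
    refine ⟨f, hf, ?_⟩
    rw [D.el_mul (fL_lt f hf) hc, hfe, inv_mul_cancel_right, ← e']
    rintro _ ⟨k, hk, rfl⟩
    exact ⟨y * k * y⁻¹, (mem_normalizer_iff.1 hy k).1 hk, rfl⟩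
  obtain ⟨f, hf, hn1⟩ := hco 4 (by norm_num) D.four_sixteen_norm.1
  obtain ⟨f', hf', hn2⟩ := hco 16 (by norm_num) D.four_sixteen_norm.2
  have hm := List.all_eq_true.1 (List.all_eq_true.1 pair_mod f hf) f' hf'
  simp only [Bool.and_eq_true, List.contains_iff_mem, List.any_eq_true, beq_iff_eq] at hm
  obtain ⟨⟨hm1, hm2⟩, k, hk, hkc⟩ := hm
  set c1 := mul .A0 f 4 with hc1
  set c2 := mul .A0 f' 16 with hc2
  have l1 : c1 < 192 := mul_lt _ _ _
  have l2 : c2 < 192 := mul_lt _ _ _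
  have hcomp : ∀ {a b : G}, (∀ p ∈ P, a * p * a⁻¹ ∈ P) → (∀ p ∈ P, b * p * b⁻¹ ∈ P) →
      ∀ p ∈ P, a * b * p * (a * b)⁻¹ ∈ P := fun {a b} ha hb p hp => by
    have := ha _ (hb p hp)
    rwa [show a * b * p * (a * b)⁻¹ = a * (b * p * b⁻¹) * a⁻¹ by group]
  have sq : ∀ c < 192, mul .A0 c c ∈ fL → (∀ p ∈ P, D.el c * p * (D.el c)⁻¹ ∈ P) → mul .A0 c c = 0 := by
    intro c hc hcc hn
    refine (D.el_eq_one (mul_lt _ _ _)).1 (norm_inter h2 h8 h10 h96 h97 hPN hP (D.el_mem_fgrp hcc) ?_)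
    rw [D.el_mul hc hc]
    exact hcomp hn hn
  have s1 := sq c1 l1 hm1 hn1
  have s2 := sq c2 l2 hm2 hn2
  have i1 : (D.el c1)⁻¹ = D.el c1 :=
    inv_eq_of_mul_eq_one_right (by rw [← D.el_mul l1 l1, s1, D.el_one])
  have i2 : (D.el c2)⁻¹ = D.el c2 :=
    inv_eq_of_mul_eq_one_right (by rw [← D.el_mul l2 l2, s2, D.el_one])
  have hk1 : D.el k = 1 := by
    refine norm_inter h2 h8 h10 h96 h97 hPN hP (D.el_mem_fgrp hk) ?_
    have e : D.el k = D.el c1 * D.el c2 * D.el c1 * D.el c2 := by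
      have := congrArg D.el hkc
      rw [D.el_mul l1 l2, D.el_mul (fL_lt k hk) (mul_lt _ _ _), D.el_mul l2 l1] at this
      calc D.el k = D.el c1 * D.el c2 * (D.el c1)⁻¹ * (D.el c2)⁻¹ := by rw [this]; group
        _ = _ := by rw [i1, i2]
    rw [e]
    exact hcomp (hcomp (hcomp hn1 hn2) hn1) hn2
  have hcomm : comm .A0 c1 c2 = true := by
    refine (D.commute_iff l1 l2).1 ?_
    have := congrArg D.el hkc
    rwa [D.el_mul l1 l2, D.el_mul (fL_lt k hk) (mul_lt _ _ _), D.el_mul l2 l1, hk1, one_mul] at this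
  have hp := List.all_eq_true.1 (List.all_eq_true.1 pair_conj f hf) f' hf'
  simp only [← hc1, ← hc2, s1, s2, hcomm, beq_self_eq_true, Bool.not_true, Bool.false_or, List.any_eq_true,
    Bool.and_eq_true, beq_iff_eq] at hp
  obtain ⟨g, hg, g1, g2⟩ := hp
  refine ⟨P.map (MulAut.conj (D.el g)).toMonoidHom, ?_, ?_, ?_⟩
  · rintro _ ⟨p, hp, rfl⟩
    exact mul_mem (mul_mem (hFN (D.el_mem_fgrp hg)) (hPN hp)) (inv_mem (hFN (D.el_mem_fgrp hg)))
  · rw [Nat.card_congr (P.equivMapOfInjective _ (MulAut.conj (D.el g)).injective).toEquiv.symm, hP]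
  · intro c hc _ hp'
    obtain ⟨p, hp, rfl⟩ := hp'
    simp only [List.mem_cons, List.not_mem_nil, or_false] at hc
    rcases hc with rfl | rfl
    · refine ⟨D.el c1 * p * (D.el c1)⁻¹, hn1 p hp, ?_⟩
      simp only [MulEquiv.coe_toMonoidHom, MulAut.conj_apply]
      rw [← D.conj_eq (fL_lt g hg) l1 (by norm_num) g1]
      group
    · refine ⟨D.el c2 * p * (D.el c2)⁻¹, hn2 p hp, ?_⟩
      simp only [MulEquiv.coe_toMonoidHom, MulAut.conj_apply]
      rw [← D.conj_eq (fL_lt g hg) l2 (by norm_num) g2]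
      group

/-- An element permuting four elements cyclically and fixing a fifth, with small common centraliser, has order at
most four. -/
theorem pow_four_eq_one {w : G} {b c d e : ℕ} (hb : b < 192) (hc : c < 192) (hd : d < 192) (he : e < 192)
    (e1 : w * D.el 1 * w⁻¹ = D.el b) (e2 : w * D.el b * w⁻¹ = D.el c) (e3 : w * D.el c * w⁻¹ = D.el d)
    (e4 : w * D.el d * w⁻¹ = D.el 1) (e5 : w * D.el e * w⁻¹ = D.el e)
    (hcent : ((List.range 192).all fun g => !(comm .A0 g 1 && comm .A0 g b && comm .A0 g c && comm .A0 g d &&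
      comm .A0 g e) || mul .A0 g g == 0) = true) : w ^ 4 = 1 := by
  haveI : Fact (Nat.Prime 2) := ⟨Nat.prime_two⟩
  have h4 : ∀ x : G, w ^ 4 * x * (w ^ 4)⁻¹ = w * (w * (w * (w * x * w⁻¹) * w⁻¹) * w⁻¹) * w⁻¹ := fun x => by
    simp only [pow_succ, pow_zero, one_mul]
    group
  have c1' : w ^ 4 * D.el 1 * (w ^ 4)⁻¹ = D.el 1 := by rw [h4, e1, e2, e3, e4]
  have c1 : w ^ 4 * s * (w ^ 4)⁻¹ = s := by simpa only [D.s_eq] using c1'
  have c2 : w ^ 4 * D.el b * (w ^ 4)⁻¹ = D.el b := by rw [h4, e2, e3, e4, e1]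
  have c3 : w ^ 4 * D.el c * (w ^ 4)⁻¹ = D.el c := by rw [h4, e3, e4, e1, e2]
  have c4 : w ^ 4 * D.el d * (w ^ 4)⁻¹ = D.el d := by rw [h4, e4, e1, e2, e3]
  have c5 : w ^ 4 * D.el e * (w ^ 4)⁻¹ = D.el e := by rw [h4, e5, e5, e5, e5]
  obtain ⟨g, hg, hge⟩ := (D.mem' _).1 (mem_centralizer_singleton_iff.2 (mul_inv_eq_iff_eq_mul.1 c1))
  have hgc : ∀ x < 192, w ^ 4 * D.el x * (w ^ 4)⁻¹ = D.el x → comm .A0 g x = true := fun x hx hxe => by
    rw [← D.commute_iff hg hx, hge]
    exact mul_inv_eq_iff_eq_mul.1 hxe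
  have h := List.all_eq_true.1 hcent g (List.mem_range.2 hg)
  simp only [hgc 1 (by norm_num) c1', hgc b hb c2, hgc c hc c3, hgc d hd c4,
    hgc e he c5, Bool.and_self, Bool.not_true, Bool.false_or, beq_iff_eq] at h
  have h8 : w ^ 8 = 1 := by
    rw [show (8 : ℕ) = 4 + 4 from rfl, pow_add, ← hge, ← D.el_mul hg hg, h, D.el_one]
  have hp : IsPGroup 2 (zpowers w) := by
    obtain ⟨k, -, hk⟩ := (Nat.dvd_prime_pow Nat.prime_two).1
      (show orderOf w ∣ 2 ^ 3 from orderOf_dvd_of_pow_eq_one h8)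
    exact IsPGroup.of_card (n := k) (by rw [Nat.card_zpowers, hk])
  obtain ⟨r, hr⟩ := exists_conj_mem_sylow D.sylow hp
  rw [D.coe_sylow] at hr
  obtain ⟨y, hy, hye⟩ := hr
  have hy4 := List.all_eq_true.1 syl_exponent y hy
  rw [beq_iff_eq] at hy4
  have e' := congrArg D.el hy4
  rw [D.el_mul (mul_lt _ _ _) (mul_lt _ _ _), D.el_mul (sylL_sub y hy) (sylL_sub y hy), D.el_one, hye] at e'
  have : r * w ^ 4 * r⁻¹ = 1 := by
    rw [← e']
    simp only [pow_succ, pow_zero, one_mul]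
    group
  exact conj_eq_one_iff.1 this

theorem exists_alt_eight (h2 : IsConj s (D.el 2)) (h8 : IsConj s (D.el 8)) (h10 : ¬ IsConj s (D.el 10))
    (h96 : IsConj s (D.el 96)) (h97 : ¬ IsConj s (D.el 97)) :
    ∃ H : Subgroup G, centralizer ({s} : Set G) ≤ H ∧ normalizer (D.fgrp : Set G) ≤ H ∧
      Nonempty (↥H ≃* alternatingGroup (Fin 8)) ∧
      (∀ j ∈ H, orderOf j = 2 → ∃ h ∈ H, h * j * h⁻¹ = s ∨ h * j * h⁻¹ = D.el 10) := by
  classical
  haveI : Fact (Nat.Prime 2) := ⟨Nat.prime_two⟩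
  obtain ⟨P, hPN, hP, hPb⟩ := D.exists_nine_group h2 h8 h10 h96 h97
  obtain ⟨y1, hy1, a1⟩ := exists_of_nine h2 h8 h10 h96 h97 hPN hP (q := qy1) (by decide)
  obtain ⟨y3, hy3, a3⟩ := exists_of_nine h2 h8 h10 h96 h97 hPN hP (q := qy3) (by decide)
  have ext1 : ∀ f ∈ fL, ext qy1 f ∈ fL := fun f hf => D.ext_mem_nine (by decide) hf
  have ext3 : ∀ f ∈ fL, ext qy3 f ∈ fL := fun f hf => D.ext_mem_nine (by decide) hf
  -- elements of order nine with equal actions on the generators are equal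
  have eqP : ∀ {a b : G}, a ∈ P → b ∈ P → (∀ f ∈ fG, a * D.el f * a⁻¹ = b * D.el f * b⁻¹) → a = b := by
    intro a b ha hb h
    refine inv_mul_eq_one.1 (inter_fgrp (D := D) hP (mul_mem (inv_mem ha) hb) (mem_fgrp_of_fix (D := D) fun f hf => ?_))
    calc a⁻¹ * b * D.el f * (a⁻¹ * b)⁻¹ = a⁻¹ * (b * D.el f * b⁻¹) * a := by group
      _ = D.el f := by rw [← h f hf]; group
  have cb : ∀ c ∈ [4, 16], c < 192 ∧ mul .A0 c c = 0 := by decide +kernel
  have inv4 : (D.el 4)⁻¹ = D.el 4 := inv_eq_of_mul_eq_one_right (by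
    rw [← D.el_mul (by norm_num) (by norm_num), (cb 4 (by simp)).2, D.el_one])
  have inv16 : (D.el 16)⁻¹ = D.el 16 := inv_eq_of_mul_eq_one_right (by
    rw [← D.el_mul (by norm_num) (by norm_num), (cb 16 (by simp)).2, D.el_one])
  have conjb : ∀ {y : G} {q : ℕ × ℕ × ℕ × ℕ}, D.Acts y q → (∀ f ∈ fL, ext q f ∈ fL) → ∀ c ∈ [4, 16], ∀ f ∈ fG,
      D.el c * y * (D.el c)⁻¹ * D.el f * (D.el c * y * (D.el c)⁻¹)⁻¹ = D.el (cj c (ext q (cj c f))) := by
    intro y q hy hq c hc f hf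
    obtain ⟨hc192, hcc⟩ := cb c hc
    have hmem : cj c f ∈ fL := by
      have h := nine_power f hf
      simp only [List.mem_cons, List.not_mem_nil, or_false] at hc
      rcases hc with rfl | rfl
      · simpa using h.2.2.2.2.2.2.2.2.2.1
      · simpa using h.2.2.2.2.2.2.2.2.2.2
    have einv : (D.el c)⁻¹ = D.el c := inv_eq_of_mul_eq_one_right (by rw [← D.el_mul hc192 hc192, hcc, D.el_one])
    rw [D.cj_el hc192 (fL_lt _ (hq _ hmem)) hcc, ← hy _ hmem, D.cj_el hc192 (fL_lt _ (fG_sub hf)) hcc]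
    simp only [mul_inv_rev, inv_inv, mul_assoc, einv]
  have p1 : y1 ^ 3 = 1 := eqP (pow_mem hy1 3) (one_mem _) fun f hf => by
    rw [acts_pow ext1 a1 3 f (fG_sub hf), (nine_power f hf).1]; simp
  have p3 : y3 ^ 3 = 1 := eqP (pow_mem hy3 3) (one_mem _) fun f hf => by
    rw [acts_pow ext3 a3 3 f (fG_sub hf), (nine_power f hf).2.1]; simp
  have sq1 : ∀ f ∈ fG, y1 * y1 * D.el f * (y1 * y1)⁻¹ = D.el (ext qy1i f) := fun f hf => by
    rw [← (nine_power f hf).2.2.1, ← a1 _ (ext1 _ (fG_sub hf)), ← a1 _ (fG_sub hf)]; group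
  have sq3 : ∀ f ∈ fG, y3 * y3 * D.el f * (y3 * y3)⁻¹ = D.el (ext qy3i f) := fun f hf => by
    rw [← (nine_power f hf).2.2.2.1, ← a3 _ (ext3 _ (fG_sub hf)), ← a3 _ (fG_sub hf)]; group
  have y13 : y1 * y3 = y3 * y1 := eqP (mul_mem hy1 hy3) (mul_mem hy3 hy1) fun f hf => by
    calc y1 * y3 * D.el f * (y1 * y3)⁻¹ = y1 * (y3 * D.el f * y3⁻¹) * y1⁻¹ := by group
      _ = D.el (ext qy1 (ext qy3 f)) := by rw [a3 _ (fG_sub hf), a1 _ (ext3 _ (fG_sub hf))]
      _ = D.el (ext qy3 (ext qy1 f)) := by rw [(nine_power f hf).2.2.2.2.1]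
      _ = y3 * (y1 * D.el f * y1⁻¹) * y3⁻¹ := by rw [a1 _ (fG_sub hf), a3 _ (ext1 _ (fG_sub hf))]
      _ = y3 * y1 * D.el f * (y3 * y1)⁻¹ := by group
  have b1y1 : D.el 4 * y1 * (D.el 4)⁻¹ = y1 := eqP (hPb 4 (by simp) y1 hy1) hy1 fun f hf => by
    rw [conjb a1 ext1 4 (by simp) f hf, (nine_power f hf).2.2.2.2.2.1, a1 _ (fG_sub hf)]
  have b2y3 : D.el 16 * y3 * (D.el 16)⁻¹ = y3 := eqP (hPb 16 (by simp) y3 hy3) hy3 fun f hf => by
    rw [conjb a3 ext3 16 (by simp) f hf, (nine_power f hf).2.2.2.2.2.2.1, a3 _ (fG_sub hf)]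
  have b2y1 : D.el 16 * y1 * (D.el 16)⁻¹ = y1 * y1 := eqP (hPb 16 (by simp) y1 hy1) (mul_mem hy1 hy1) fun f hf => by
    rw [conjb a1 ext1 16 (by simp) f hf, (nine_power f hf).2.2.2.2.2.2.2.1, sq1 f hf]
  have b1y3 : D.el 4 * y3 * (D.el 4)⁻¹ = y3 * y3 := eqP (hPb 4 (by simp) y3 hy3) (mul_mem hy3 hy3) fun f hf => by
    rw [conjb a3 ext3 4 (by simp) f hf, (nine_power f hf).2.2.2.2.2.2.2.2.1, sq3 f hf]
  set b1 := D.el 4 with hb1
  set b2 := D.el 16 with hb2
  have b1b1 : b1 * b1 = 1 := mul_eq_one_iff_eq_inv.2 inv4.symm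
  have b2b2 : b2 * b2 = 1 := mul_eq_one_iff_eq_inv.2 inv16.symm
  have b12 : b1 * b2 = b2 * b1 := by
    rw [hb1, hb2, ← D.el_mul (by norm_num) (by norm_num), ← D.el_mul (by norm_num) (by norm_num)]
    exact congrArg D.el (by decide +kernel)
  have c11 : b1 * y1 = y1 * b1 := mul_inv_eq_iff_eq_mul.1 b1y1
  have c23 : b2 * y3 = y3 * b2 := mul_inv_eq_iff_eq_mul.1 b2y3
  set u := b2 * y1 with hu
  set v := b1 * y3 with hv
  have huu : u * u = 1 := by
    calc u * u = b2 * y1 * b2⁻¹ * y1 := by rw [hu, inv16]; group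
      _ = y1 ^ 3 := by rw [b2y1, pow_three, mul_assoc]
      _ = 1 := p1
  have hvv : v * v = 1 := by
    calc v * v = b1 * y3 * b1⁻¹ * y3 := by rw [hv, inv4]; group
      _ = y3 ^ 3 := by rw [b1y3, pow_three, mul_assoc]
      _ = 1 := p3
  have hui : u⁻¹ = u := inv_eq_of_mul_eq_one_right huu
  have hvi : v⁻¹ = v := inv_eq_of_mul_eq_one_right hvv
  have hub : u * b1 = b1 * u := by
    calc u * b1 = b2 * (y1 * b1) := mul_assoc _ _ _
      _ = b2 * b1 * y1 := by rw [← c11, mul_assoc]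
      _ = b1 * u := by rw [← b12, mul_assoc]
  have hvb : v * b2 = b2 * v := by
    calc v * b2 = b1 * (y3 * b2) := mul_assoc _ _ _
      _ = b1 * b2 * y3 := by rw [← c23, mul_assoc]
      _ = b2 * v := by rw [b12, mul_assoc]
  have huv : u * v = v * u := by
    calc u * v = b2 * (y1 * b1) * y3 := by rw [hu, hv]; group
      _ = b2 * b1 * (y1 * y3) := by rw [← c11]; group
      _ = b1 * b2 * (y3 * y1) := by rw [b12, y13]
      _ = b1 * (b2 * y3) * y1 := by group
      _ = v * u := by rw [c23, hu, hv]; group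
  -- the action on the elementary group
  have uF : ∀ f ∈ fL, u * D.el f * u⁻¹ = D.el (cj 16 (ext qy1 f)) := fun f hf => by
    rw [D.cj_el (by norm_num) (fL_lt _ (ext1 f hf)) (cb 16 (by simp)).2, ← a1 f hf, hu, hb2]; group
  have vF : ∀ f ∈ fL, v * D.el f * v⁻¹ = D.el (cj 4 (ext qy3 f)) := fun f hf => by
    rw [D.cj_el (by norm_num) (fL_lt _ (ext3 f hf)) (cb 4 (by simp)).2, ← a3 f hf, hv, hb1]; group
  have uVal : ∀ f f', f ∈ fL → cj 16 (ext qy1 f) = f' → u * D.el f * u⁻¹ = D.el f' :=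
    fun f f' hf e => e ▸ uF f hf
  have vVal : ∀ f f', f ∈ fL → cj 4 (ext qy3 f) = f' → v * D.el f * v⁻¹ = D.el f' :=
    fun f f' hf e => e ▸ vF f hf
  have u4 : u * D.el 4 * u⁻¹ = D.el 4 := by rw [← hb1, hub, mul_inv_cancel_right]
  have v16 : v * D.el 16 * v⁻¹ = D.el 16 := by rw [← hb2, hvb, mul_inv_cancel_right]
  have conj_mul' : ∀ (w : G) {a b c a' b' c' : ℕ}, a < 192 → b < 192 → a' < 192 → b' < 192 → mul .A0 a b = c →
      mul .A0 a' b' = c' → w * D.el a * w⁻¹ = D.el a' → w * D.el b * w⁻¹ = D.el b' →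
      w * D.el c * w⁻¹ = D.el c' := fun w a b c a' b' c' la lb la' lb' ec ec' ea eb => by
    rw [← ec, ← ec', D.el_mul la lb, D.el_mul la' lb', ← ea, ← eb]; group
  have u1 : u * D.el 1 * u⁻¹ = D.el 2 := uVal 1 2 (by decide) (by decide +kernel)
  have u2 : u * D.el 2 * u⁻¹ = D.el 1 := uVal 2 1 (by decide) (by decide +kernel)
  have u96 : u * D.el 96 * u⁻¹ = D.el 8 := uVal 96 8 (by decide) (by decide +kernel)
  have u97 : u * D.el 97 * u⁻¹ = D.el 10 := uVal 97 10 (by decide) (by decide +kernel)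
  have u6 : u * D.el 6 * u⁻¹ = D.el 5 := conj_mul' u (a := 2) (b := 4) (a' := 1) (b' := 4) (by norm_num)
    (by norm_num) (by norm_num) (by norm_num) (by decide +kernel) (by decide +kernel) u2 u4
  have u5 : u * D.el 5 * u⁻¹ = D.el 6 := conj_mul' u (a := 1) (b := 4) (a' := 2) (b' := 4) (by norm_num)
    (by norm_num) (by norm_num) (by norm_num) (by decide +kernel) (by decide +kernel) u1 u4
  have v1 : v * D.el 1 * v⁻¹ = D.el 9 := vVal 1 9 (by decide) (by decide +kernel)
  have v2 : v * D.el 2 * v⁻¹ = D.el 98 := vVal 2 98 (by decide) (by decide +kernel)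
  have v8 : v * D.el 8 * v⁻¹ = D.el 8 := vVal 8 8 (by decide) (by decide +kernel)
  have v9 : v * D.el 9 * v⁻¹ = D.el 1 := vVal 9 1 (by decide) (by decide +kernel)
  have v25 : v * D.el 25 * v⁻¹ = D.el 17 := conj_mul' v (a := 9) (b := 16) (a' := 1) (b' := 16) (by norm_num)
    (by norm_num) (by norm_num) (by norm_num) (by decide +kernel) (by decide +kernel) v9 v16
  have v17 : v * D.el 17 * v⁻¹ = D.el 25 := conj_mul' v (a := 1) (b := 16) (a' := 9) (b' := 16) (by norm_num)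
    (by norm_num) (by norm_num) (by norm_num) (by decide +kernel) (by decide +kernel) v1 v16
  set t2 := D.el 160 with ht2
  have ht22 : mul .A0 160 160 = 0 := by decide +kernel
  have tw : ∀ (w : G) (a b c : ℕ), b < 192 → w * D.el a * w⁻¹ = D.el b → cj 160 b = c →
      t2 * w * D.el a * (t2 * w)⁻¹ = D.el c := fun w a b c lb e ec => by
    rw [← ec, D.cj_el (by norm_num) lb ht22, ← e, ht2]; group
  have r8 : (t2 * u) ^ 4 = 1 := D.pow_four_eq_one (b := 6) (c := 5) (d := 2) (e := 4) (by norm_num) (by norm_num)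
    (by norm_num) (by norm_num)
    (tw u 1 2 6 (by norm_num) u1 (by decide +kernel))
    (tw u 6 5 5 (by norm_num) u6 (by decide +kernel)) (tw u 5 6 2 (by norm_num) u5 (by decide +kernel))
    (tw u 2 1 1 (by norm_num) u2 (by decide +kernel))
    (tw u 4 4 4 (by norm_num) u4 (by decide +kernel)) cent_four_u
  have r9 : (t2 * v) ^ 4 = 1 := D.pow_four_eq_one (b := 25) (c := 17) (d := 9) (e := 16) (by norm_num)
    (by norm_num) (by norm_num) (by norm_num)
    (tw v 1 9 25 (by norm_num) v1 (by decide +kernel))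
    (tw v 25 17 17 (by norm_num) v25 (by decide +kernel)) (tw v 17 25 9 (by norm_num) v17 (by decide +kernel))
    (tw v 9 1 1 (by norm_num) v9 (by decide +kernel))
    (tw v 16 16 16 (by norm_num) v16 (by decide +kernel)) cent_four_v
  have word : ∀ l : List ℕ, (∀ x ∈ l, x < 192) → prodL .A0 l = 0 → (l.map D.el).prod = 1 := fun l hl e => by
    rw [← D.el_prodL l hl, e, D.el_one]
  have w2 : ∀ a : ℕ, a < 192 → mul .A0 a a = 0 → D.el a * D.el a = 1 := fun a ha e => by
    rw [← D.el_mul ha ha, e, D.el_one]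
  have r1 : D.el 2 * D.el 96 * b1 * D.el 96 * b1 = 1 := by
    simpa [mul_assoc, hb1] using word [2, 96, 4, 96, 4] (by decide) (by decide +kernel)
  have r3 : D.el 2 * t2 * D.el 2 * t2 * b1 = 1 := by
    simpa [mul_assoc, hb1, ht2] using word [2, 160, 2, 160, 4] (by decide) (by decide +kernel)
  have r5 : D.el 8 * t2 * D.el 8 * t2 * b2 = 1 := by
    simpa [mul_assoc, hb2, ht2] using word [8, 160, 8, 160, 16] (by decide) (by decide +kernel)
  have r4 : (D.el 8 * D.el 96) ^ 2 = 1 := by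
    simpa [mul_assoc, pow_succ] using word [8, 96, 8, 96] (by decide) (by decide +kernel)
  have r7 : (D.el 96 * t2) ^ 3 = 1 := by
    simpa [mul_assoc, pow_succ, ht2] using word [96, 160, 96, 160, 96, 160] (by decide) (by decide +kernel)
  have r2 : D.el 2 * D.el 96 * v * D.el 2 * v = 1 := by
    have e := word [2, 96, 98] (by decide) (by decide +kernel)
    simp only [List.map_cons, List.map_nil, List.prod_cons, List.prod_nil, mul_one] at e
    rw [← v2, hvi] at e
    simpa [mul_assoc] using e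
  have r6 : D.el 8 * u * D.el 96 * u = 1 := by
    have e := w2 8 (by norm_num) (by decide +kernel)
    nth_rewrite 2 [← u96] at e
    rw [hui] at e
    simpa [mul_assoc] using e
  have r10 : (b1 * u) ^ 2 = 1 := by
    rw [pow_two]; nth_rewrite 2 [← hub]
    rw [mul_assoc, ← mul_assoc u u, huu, one_mul, b1b1]
  have r13 : (b2 * v) ^ 2 = 1 := by
    rw [pow_two]; nth_rewrite 2 [← hvb]
    rw [mul_assoc, ← mul_assoc v v, hvv, one_mul, b2b2]
  have r11 : (b1 * v) ^ 3 = 1 := by rw [hv, ← mul_assoc, b1b1, one_mul, p3]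
  have r12 : (b2 * u) ^ 3 = 1 := by rw [hu, ← mul_assoc, b2b2, one_mul, p1]
  have r14 : (u * v) ^ 2 = 1 := by
    rw [pow_two]; nth_rewrite 2 [huv]
    rw [mul_assoc, ← mul_assoc v v, hvv, one_mul, huu]
  set S : Set G := {D.el 2, D.el 8, D.el 96, t2, b1, b2, u, v} with hS
  set H := closure S with hH
  have m2 : D.el 2 ∈ H := subset_closure (by simp [hS])
  have m8 : D.el 8 ∈ H := subset_closure (by simp [hS])
  have m96 : D.el 96 ∈ H := subset_closure (by simp [hS])
  have mt2 : t2 ∈ H := subset_closure (by simp [hS])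
  have mb1 : b1 ∈ H := subset_closure (by simp [hS])
  have mb2 : b2 ∈ H := subset_closure (by simp [hS])
  have mu : u ∈ H := subset_closure (by simp [hS])
  have mv : v ∈ H := subset_closure (by simp [hS])
  have m1 : D.el 1 ∈ H := u2 ▸ mul_mem (mul_mem mu m2) (inv_mem mu)
  have m32 : D.el 32 ∈ H := by
    have e : D.el (mul .A0 96 160) = D.el 96 * t2 := D.el_mul (by norm_num) (by norm_num)
    rw [show mul .A0 96 160 = 32 by decide +kernel] at e
    exact e ▸ mul_mem m96 mt2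
  have hCH : centralizer ({s} : Set G) ≤ H := by
    intro g hg
    obtain ⟨c, hc, rfl⟩ := (D.mem' g).1 hg
    have hdec := List.all_eq_true.1 code_decomp c (List.mem_range.2 hc)
    rw [beq_iff_eq] at hdec
    have hd : ∀ k, dig k c ≤ 1 := fun k => by have := Nat.mod_lt (c / 2 ^ k) two_pos; unfold dig; omega
    have hi : iOf c < 3 := Nat.mod_lt _ (by norm_num)
    have hj : jOf c < 2 := Nat.mod_lt _ two_pos
    have h0 := hd 0; have h1 := hd 1; have h2' := hd 2; have h3 := hd 3; have h4 := hd 4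
    have key : ∀ k a, k ≤ 1 → D.el a ∈ H → D.el (a * k) ∈ H := fun k a hk ha => by
      interval_cases k
      · rw [mul_zero, D.el_one]; exact one_mem _
      · rwa [mul_one]
    rw [hdec, D.el_prodL _ (by simp only [List.mem_cons, List.not_mem_nil, or_false]; intro x hx; omega)]
    refine list_prod_mem fun x hx => ?_
    simp only [List.map_cons, List.map_nil, List.mem_cons, List.not_mem_nil, or_false] at hx
    rcases hx with rfl | rfl | rfl | rfl | rfl | rfl | rfl | rfl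
    · simpa using key _ 1 h0 m1
    · exact key _ 2 h1 m2
    · exact key _ 4 h2' mb1
    · exact key _ 8 h3 m8
    · exact key _ 16 h4 mb2
    · exact key _ 32 (min_le_left _ _) m32
    · exact key _ 32 (by omega) m32
    · exact key _ 96 (by omega) m96
  have hsH : s ∈ H := D.s_eq ▸ m1
  have my1 : y1 ∈ H := by
    have := mul_mem mb2 mu
    rwa [hu, ← mul_assoc, b2b2, one_mul] at this
  have my3 : y3 ∈ H := by
    have := mul_mem mb1 mv
    rwa [hv, ← mul_assoc, b1b1, one_mul] at this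
  have hPH : P ≤ H := fun p hp => by
    have hp9 : p ^ 9 = 1 := by
      have e : (⟨p, hp⟩ : P) ^ Nat.card P = 1 := pow_card_eq_one'
      rw [hP] at e
      exact congrArg Subtype.val e
    obtain ⟨q, hq, hpq⟩ := exists_acts_nine h2 h8 h10 h96 h97 (hPN hp) hp9
    have hg := List.all_eq_true.1 nine_gen q hq
    simp only [List.any_eq_true, List.all_eq_true, beq_iff_eq] at hg
    obtain ⟨i, -, j, -, hij⟩ := hg
    have hlt : ∀ k, ∀ f ∈ fL, (ext qy3)^[k] f ∈ fL := fun k => by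
      induction k with
      | zero => exact fun f hf => hf
      | succ k ih => exact fun f hf => by rw [Function.iterate_succ_apply']; exact ext3 _ (ih f hf)
    rw [eqP hp (mul_mem (pow_mem hy1 i) (pow_mem hy3 j)) fun f hf => by
      calc p * D.el f * p⁻¹ = D.el ((ext qy1)^[i] ((ext qy3)^[j] f)) := by rw [hpq f (fG_sub hf), hij f hf]
        _ = y1 ^ i * (y3 ^ j * D.el f * (y3 ^ j)⁻¹) * (y1 ^ i)⁻¹ := by
          rw [acts_pow ext3 a3 j f (fG_sub hf), acts_pow ext1 a1 i _ (hlt j f (fG_sub hf))]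
        _ = _ := by group]
    exact mul_mem (pow_mem my1 i) (pow_mem my3 j)
  have hTH : D.sylowGroup ≤ H := D.sylowGroup_le.trans hCH
  have hNH : normalizer (D.fgrp : Set G) ≤ H := by
    set N := normalizer (D.fgrp : Set G) with hNdef
    have hTN : D.sylowGroup ≤ N := by
      rintro _ ⟨x, hx, rfl⟩
      exact (D.norm_cent (sylL_sub x hx)).2 hx
    have d1 := Subgroup.card_dvd_of_le (le_inf hTN hTH)
    have d2 := Subgroup.card_dvd_of_le (le_inf hPN hPH)
    rw [D.card_sylowGroup] at d1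
    rw [hP] at d2
    have hd : 576 ∣ Nat.card ↥(N ⊓ H) := Nat.Coprime.mul_dvd_of_dvd_of_dvd (by norm_num : Nat.Coprime 64 9) d1 d2
    have e : N ⊓ H = N := eq_of_le_of_card_ge inf_le_left
      ((card_norm_nine h2 h8 h10 h96 h97).le.trans (Nat.le_of_dvd Nat.card_pos hd))
    exact inf_eq_left.1 e
  refine ⟨H, hCH, hNH, ?_, ?_⟩
  · -- the presentation
    set E := D.listSubgroup eL (by decide) (by decide) eL_facts.1 with hE
    have hEH : E ≤ H := fun g hg => hCH <| by
      obtain ⟨x, hx, rfl⟩ := hg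
      exact D.el_mem (by revert x; decide)
    have memE : ∀ w : G, (∀ z ∈ [1, 2, 4], w * D.el z * w⁻¹ ∈ E) → w ∈ normalizer (E : Set G) := by
      intro w hw
      have hmap : E.map (MulAut.conj w).toMonoidHom = E := by
        refine eq_of_le_of_card_ge ?_ ?_
        · rintro _ ⟨_, ⟨z, hz, rfl⟩, rfl⟩
          have hk : ∀ k a, k < 2 → (a ∈ [1, 2, 4]) → w * D.el (k * a) * w⁻¹ ∈ E := fun k a hk ha => by
            interval_cases k
            · rw [zero_mul, D.el_one, mul_one, mul_inv_cancel]; exact one_mem _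
            · rw [one_mul]; exact hw a ha
          have hz8 : z < 8 := by revert z; decide
          rw [MulEquiv.coe_toMonoidHom, MulAut.conj_apply, eL_facts.2.1 z hz,
            D.el_mul (mul_lt _ _ _) (by omega), D.el_mul (by omega) (by omega)]
          have hz1 := hk (z % 2) 1 (by omega) (by simp)
          rw [mul_one] at hz1
          have := mul_mem (mul_mem hz1 (hk (z / 2 % 2) 2 (by omega) (by simp)))
            (hk (z / 4) 4 (by omega) (by simp))
          simpa [mul_assoc] using this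
        · rw [Nat.card_congr (E.equivMapOfInjective (MulAut.conj w).toMonoidHom (MulAut.conj w).injective).toEquiv]
      refine mem_normalizer_iff.2 fun f => ⟨fun hf => hmap ▸ ⟨f, hf, rfl⟩, fun hf => ?_⟩
      rw [← hmap] at hf
      obtain ⟨f', hf', e⟩ := hf
      rw [MulEquiv.coe_toMonoidHom, MulAut.conj_apply] at e
      exact mul_left_cancel (mul_right_cancel e) ▸ hf'
    have nel : ∀ c ∈ [2, 4, 8, 16, 96, 160], D.el c ∈ normalizer (E : Set G) := fun c hc =>
      memE _ fun z hz => by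
        have hc2 : c < 192 ∧ mul .A0 c c = 0 := by revert c; decide +kernel
        have hz2 : z < 192 := by revert z; decide
        rw [← D.cj_el hc2.1 hz2 hc2.2]
        exact ⟨_, eL_facts.2.2 c hc z hz, rfl⟩
    have nu : u ∈ normalizer (E : Set G) := memE _ fun z hz => by
      simp only [List.mem_cons, List.not_mem_nil, or_false] at hz
      rcases hz with rfl | rfl | rfl
      · exact ⟨2, by decide, u1.symm⟩
      · exact ⟨1, by decide, u2.symm⟩
      · exact ⟨4, by decide, u4.symm⟩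
    refine equiv_alternating_eight (G := H) ⟨_, m2⟩ ⟨_, m8⟩ ⟨_, m96⟩ ⟨_, mt2⟩ ⟨_, mb1⟩ ⟨_, mb2⟩ ⟨_, mu⟩ ⟨_, mv⟩
      (Subtype.ext (w2 2 (by norm_num) (by decide +kernel))) (Subtype.ext (w2 8 (by norm_num) (by decide +kernel)))
      (Subtype.ext (w2 96 (by norm_num) (by decide +kernel))) (Subtype.ext (w2 160 (by norm_num) ht22))
      (Subtype.ext b1b1) (Subtype.ext b2b2) (Subtype.ext huu) (Subtype.ext hvv)
      (Subtype.ext r1) (Subtype.ext r2) (Subtype.ext r3) (Subtype.ext r4) (Subtype.ext r5) (Subtype.ext r6)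
      (Subtype.ext r7) (Subtype.ext r8) (Subtype.ext r9) (Subtype.ext r10) (Subtype.ext r11) (Subtype.ext r12)
      (Subtype.ext r13) (Subtype.ext r14) ?_ ?_ ?_
    · refine Eq.trans ?_ (closure_closure_coe_preimage (k := S))
      congr 1
      ext x
      simp [hS, Subtype.ext_iff]
    all_goals
      set K7 := closure ({⟨_, m2⟩, ⟨_, m8⟩, ⟨_, m96⟩, ⟨_, mt2⟩, ⟨_, mb1⟩, ⟨_, mb2⟩, ⟨_, mu⟩} : Set H) with hK7
      have hK : K7 ≤ (normalizer (E : Set G)).comap H.subtype := by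
        rw [hK7, closure_le]
        intro x hx
        simp only [Set.mem_insert_iff, Set.mem_singleton_iff] at hx
        rcases hx with rfl | rfl | rfl | rfl | rfl | rfl | rfl
        exacts [nel 2 (by simp), nel 8 (by simp), nel 96 (by simp), nel 160 (by simp), nel 4 (by simp),
          nel 16 (by simp), nu]
    · intro hmem
      have hm : v * D.el 1 * v⁻¹ ∈ E := (mem_normalizer_iff.1 (hK hmem) _).1 ⟨1, by decide, rfl⟩
      rw [v1] at hm
      obtain ⟨x, hx, e⟩ := hm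
      have hx192 : x < 192 := (by decide : ∀ x ∈ eL, x < 192) x hx
      have := D.el_inj hx192 (by norm_num) e
      subst this
      revert hx
      decide
    · intro M hMn hne hMK
      have step : ∀ (c : G), c ∈ H → ∀ z z', c * D.el z * c⁻¹ = D.el z' →
          (∃ hz : D.el z ∈ H, (⟨_, hz⟩ : H) ∈ M) → ∃ hz : D.el z' ∈ H, (⟨_, hz⟩ : H) ∈ M := by
        rintro c hc z z' e ⟨hz, hzM⟩
        refine ⟨e ▸ mul_mem (mul_mem hc hz) (inv_mem hc), ?_⟩
        have := hMn.conj_mem _ hzM ⟨c, hc⟩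
        convert this using 1
        exact Subtype.ext e.symm
      obtain ⟨z, hz, hz0, hzM⟩ : ∃ z ∈ eL, z ≠ 0 ∧ ∃ hz : D.el z ∈ H, (⟨_, hz⟩ : H) ∈ M := by
        by_contra hcon
        push Not at hcon
        refine hne ((eq_bot_iff_forall _).2 fun n hn => ?_)
        have hnE : ∀ e ∈ E, (n : G) * e * (n : G)⁻¹ = e := fun e he => by
          have hne' := (mem_normalizer_iff.1 (hK (hMK hn)) e).1 he
          have hz : (n : G) * e * (n : G)⁻¹ * e⁻¹ ∈ E := mul_mem hne' (inv_mem he)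
          obtain ⟨z, hzE, hze⟩ := hz
          have hzM : (⟨_, hEH he⟩ : H) * n⁻¹ * (⟨_, hEH he⟩ : H)⁻¹ ∈ M := hMn.conj_mem _ (inv_mem hn) _
          have h2M : n * ((⟨_, hEH he⟩ : H) * n⁻¹ * (⟨_, hEH he⟩ : H)⁻¹) ∈ M := mul_mem hn hzM
          by_cases hz0 : z = 0
          · rw [hz0, D.el_one] at hze
            exact mul_inv_eq_one.1 hze.symm
          · refine absurd ?_ (hcon z hzE hz0 (hEH ⟨z, hzE, rfl⟩))
            convert h2M using 1
            refine Subtype.ext (hze.trans ?_)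
            simp only [Subgroup.coe_mul, Subgroup.coe_inv]
            group
        have hn1 := hnE (D.el 1) ⟨1, by decide, rfl⟩
        rw [D.s_eq] at hn1
        obtain ⟨g, hg, hge⟩ := (D.mem' _).1 (mem_centralizer_singleton_iff.2 (mul_inv_eq_iff_eq_mul.1 hn1))
        have hcm : ∀ z ∈ [1, 2, 4], comm .A0 g z = true := fun z hz => by
          have hz2 : z < 192 ∧ z ∈ eL := by revert z; decide
          rw [← D.commute_iff hg hz2.1, hge]
          exact mul_inv_eq_iff_eq_mul.1 (hnE _ ⟨z, hz2.2, rfl⟩)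
        have hgE := List.all_eq_true.1 cent_E g (List.mem_range.2 hg)
        simp only [hcm 1 (by simp), hcm 2 (by simp), hcm 4 (by simp), Bool.and_self, Bool.not_true,
          Bool.false_or, List.contains_iff_mem] at hgE
        by_cases hg0 : g = 0
        · rw [hg0, D.el_one] at hge
          exact Subtype.ext hge.symm
        · refine absurd ?_ (hcon g hgE hg0 (hEH ⟨g, hgE, rfl⟩))
          convert hn using 1
          exact Subtype.ext hge
      have t6 : D.el 96 * D.el 4 * (D.el 96)⁻¹ = D.el 6 := by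
        rw [← D.cj_el (by norm_num) (by norm_num) (by decide +kernel)]
        exact congrArg D.el (by decide +kernel)
      have t7 : D.el 96 * D.el 7 * (D.el 96)⁻¹ = D.el 5 := by
        rw [← D.cj_el (by norm_num) (by norm_num) (by decide +kernel)]
        exact congrArg D.el (by decide +kernel)
      have t2' : D.el 160 * D.el 6 * (D.el 160)⁻¹ = D.el 2 := by
        rw [← D.cj_el (by norm_num) (by norm_num) ht22]
        exact congrArg D.el (by decide +kernel)
      have t3 : D.el 16 * D.el 3 * (D.el 16)⁻¹ = D.el 2 := by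
        rw [← D.cj_el (by norm_num) (by norm_num) (by decide +kernel)]
        exact congrArg D.el (by decide +kernel)
      have h2M : ∃ hz : D.el 2 ∈ H, (⟨_, hz⟩ : H) ∈ M := by
        simp only [eL, List.mem_cons, List.not_mem_nil, or_false] at hz
        rcases hz with rfl | rfl | rfl | rfl | rfl | rfl | rfl | rfl
        · exact absurd rfl hz0
        · exact step u mu 1 2 u1 hzM
        · exact hzM
        · exact step _ mb2 3 2 t3 hzM
        · exact step _ mt2 6 2 t2' (step _ m96 4 6 t6 hzM)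
        · exact step _ mt2 6 2 t2' (step u mu 5 6 u5 hzM)
        · exact step _ mt2 6 2 t2' hzM
        · exact step _ mt2 6 2 t2' (step u mu 5 6 u5 (step _ m96 7 5 t7 hzM))
      exact h2M.2
  · exact D.classes_in h2 h8 h10 h96 h97 H hCH hNH

end Local

end Cfsg.Agent.ExtraThirtyTwo
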