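import Cfsg.Agent.Lib.LargeExtra.Fischer.GLThree
import Cfsg.Agent.Lib.Coprime.Generation
import Cfsg.Agent.S0215
import Mathlib.GroupTheory.Nilpotent
import Mathlib.GroupTheory.Sylow

/-!
An elementary abelian subgroup of order eight holding all conjugates of an involution inside its centraliser is
normal, provided some involution of the centraliser lies outside it.
-/

set_option autoImplicit false

namespace Cfsg.Agent.ExtraThirtyTwo

universe u

namespace OneClass

variable {G : Type u} [Group G]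

theorem mem_cent_one {x y : G} : x ∈ Subgroup.centralizer ({y} : Set G) ↔ y * x = x * y := by
  rw [Subgroup.mem_centralizer_singleton_iff, eq_comm]

theorem conj_eq_self_iff {x y : G} : x * y * x⁻¹ = y ↔ x * y = y * x := mul_inv_eq_iff_eq_mul

theorem inv_self {x : G} (h : x * x = 1) : x⁻¹ = x := inv_eq_of_mul_eq_one_right h

theorem sq_of_order_two {x : G} (h : orderOf x = 2) : x * x = 1 := by
  rw [← pow_two, ← h, pow_orderOf_eq_one]

theorem flip_pow {x y : G} (hx : x * x = 1) (hy : y * y = 1) (k : ℕ) :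
    (x * y) ^ k * x = x * ((x * y) ^ k)⁻¹ := by
  have h : SemiconjBy x (x * y)⁻¹ (x * y) := by
    show x * (x * y)⁻¹ = x * y * x
    rw [_root_.mul_inv_rev, inv_self hx, inv_self hy, mul_assoc]
  rw [← inv_pow]
  exact (h.pow_right k).eq.symm

/-- two involutions with product of odd order are conjugate -/
theorem isConj_of_odd {x y : G} (hx : x * x = 1) (hy : y * y = 1) (ho : Odd (orderOf (x * y))) : IsConj x y := by
  obtain ⟨k, hk⟩ := ho
  refine isConj_iff.2 ⟨(x * y) ^ k, ?_⟩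
  have h1 : (x * y) ^ (k + k) * (x * y) = 1 := by rw [← pow_succ, ← two_mul, ← hk, pow_orderOf_eq_one]
  rw [mul_assoc, ← flip_pow hx hy k, ← mul_assoc, ← pow_add, eq_inv_of_mul_eq_one_left h1, _root_.mul_inv_rev,
    inv_self hx, inv_self hy, mul_assoc, hx, mul_one]

/-- two involutions with product of even order commute with a third -/
theorem exists_middle [Finite G] {x y : G} (hx : x * x = 1) (hy : y * y = 1) (he : Even (orderOf (x * y))) :
    ∃ u : G, orderOf u = 2 ∧ x * u = u * x ∧ y * u = u * y := by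
  obtain ⟨j, hj⟩ := he
  have hpos := orderOf_pos (x * y)
  have h2 : (x * y) ^ j * (x * y) ^ j = 1 := by rw [← pow_add, ← hj, pow_orderOf_eq_one]
  have hu1 : (x * y) ^ j ≠ 1 := fun h => by
    have := Nat.le_of_dvd (by omega) (orderOf_dvd_of_pow_eq_one h)
    omega
  have hux : x * (x * y) ^ j = (x * y) ^ j * x := by rw [flip_pow hx hy j, inv_self h2]
  have : Fact (Nat.Prime 2) := ⟨Nat.prime_two⟩
  refine ⟨_, orderOf_eq_prime (by rw [pow_two, h2]) hu1, hux, ?_⟩
  have hy' : y = x * (x * y) := by rw [← mul_assoc, hx, one_mul]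
  have hw : (x * y) ^ j * (x * y) = x * y * (x * y) ^ j := by rw [← pow_succ, pow_succ']
  calc y * (x * y) ^ j = x * (x * y * (x * y) ^ j) := by rw [← mul_assoc x, ← hy']
    _ = x * ((x * y) ^ j * (x * y)) := by rw [hw]
    _ = (x * y) ^ j * y := by rw [← mul_assoc, hux, mul_assoc, ← hy']

/-- the hypotheses in force -/
structure Cfg (s : G) (E : Subgroup G) : Prop where
  hE8 : Nat.card E = 8
  hEc : ∀ x ∈ E, ∀ y ∈ E, x * y = y * x
  hE2 : ∀ x ∈ E, x * x = 1
  hfus : ∀ x, (x ∈ Subgroup.centralizer ({s} : Set G) ∧ IsConj s x) ↔ (x ∈ E ∧ x ≠ 1)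
  hs1 : s ≠ 1
  hCE : Subgroup.centralizer ({s} : Set G) ⊓ Subgroup.centralizer (E : Set G) ≤ E
  hC : Nat.card (Subgroup.centralizer ({s} : Set G)) = 192

namespace Cfg

variable {s : G} {E : Subgroup G} (S : Cfg s E)

local notation "M" => Subgroup.normalizer (E : Set G)

include S

theorem s_mem : s ∈ E :=
  ((S.hfus s).1 ⟨mem_cent_one.2 rfl, IsConj.refl s⟩).1

theorem conj_s {x : G} (hx : x ∈ E) (hx1 : x ≠ 1) : IsConj s x := ((S.hfus x).2 ⟨hx, hx1⟩).2

theorem mem_E {x : G} (hx : s * x = x * s) (hc : IsConj s x) : x ∈ E := ((S.hfus x).1 ⟨mem_cent_one.2 hx, hc⟩).1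

theorem finite_E : Finite ↥E := Nat.finite_of_card_ne_zero (by rw [S.hE8]; norm_num)

/-- the conjugates of `s` commuting with one of them in `E` -/
theorem sandwich [Finite G] {g : G} (hg : g * s * g⁻¹ ∈ E) : g ∈ M := by
  rw [Subgroup.mem_normalizer_iff'']
  have hle : ∀ e ∈ E, g⁻¹ * e * g ∈ E := fun e he => by
    by_cases he1 : e = 1
    · rw [he1, mul_one, inv_mul_cancel]; exact E.one_mem
    refine S.mem_E ?_ ?_
    · have := congrArg (fun t => g⁻¹ * t * g) (S.hEc _ hg _ he)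
      simpa [mul_assoc] using this
    · exact (S.conj_s he he1).trans (isConj_iff.2 ⟨g⁻¹, by rw [inv_inv]⟩)
  intro e
  refine ⟨hle e, fun h => ?_⟩
  let f : ↥E → ↥E := fun x => ⟨g⁻¹ * x * g, hle x x.2⟩
  have hf : Function.Injective f := fun a b e => by
    have e' : g⁻¹ * (a : G) * g = g⁻¹ * (b : G) * g := congrArg Subtype.val e
    exact Subtype.ext (mul_left_cancel (mul_right_cancel e'))
  obtain ⟨a, ha⟩ := Finite.injective_iff_surjective.1 hf ⟨_, h⟩
  have e' : g⁻¹ * (a : G) * g = g⁻¹ * e * g := congrArg Subtype.val ha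
  rw [← mul_left_cancel (mul_right_cancel e')]
  exact a.2

theorem cent_s_le [Finite G] : Subgroup.centralizer ({s} : Set G) ≤ M := fun g hg =>
  S.sandwich (by rw [conj_eq_self_iff.2 (mem_cent_one.1 hg).symm]; exact S.s_mem)

/-- fusion inside `E` happens in the normaliser -/
theorem mem_of_conj [Finite G] {g x : G} (hx : x ∈ E) (hx1 : x ≠ 1) (h : g * x * g⁻¹ ∈ E) : g ∈ M := by
  obtain ⟨k, hk⟩ := isConj_iff.1 (S.conj_s hx hx1)
  have hk' : k ∈ M := S.sandwich (hk ▸ hx)
  have hgk : g * k ∈ M := S.sandwich (by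
    rw [show g * k * s * (g * k)⁻¹ = g * (k * s * k⁻¹) * g⁻¹ by group, hk]; exact h)
  simpa using (M).mul_mem hgk ((M).inv_mem hk')

theorem cent_le [Finite G] {x : G} (hx : x ∈ E) (hx1 : x ≠ 1) {g : G} (hg : g * x = x * g) : g ∈ M :=
  S.mem_of_conj hx hx1 (by rw [conj_eq_self_iff.2 hg]; exact hx)

omit S in
theorem conj_mem {E : Subgroup G} {g x : G} (hg : g ∈ Subgroup.normalizer (E : Set G)) (hx : x ∈ E) :
    g * x * g⁻¹ ∈ E := (Subgroup.mem_normalizer_iff.1 hg x).1 hx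

theorem cent_E : Subgroup.centralizer (E : Set G) ≤ E := fun g hg =>
  S.hCE ⟨mem_cent_one.2 (Subgroup.mem_centralizer_iff.1 hg s S.s_mem), hg⟩

/-- an involution of the normaliser fixes a non-trivial element -/
theorem exists_fixed {x : G} (hxM : x ∈ M) (hx : x * x = 1) : ∃ e ∈ E, e ≠ 1 ∧ x * e = e * x := by
  by_cases h : x * s = s * x
  · exact ⟨s, S.s_mem, S.hs1, h⟩
  have hs' : x * s * x⁻¹ ∈ E := conj_mem hxM S.s_mem
  refine ⟨x * s * x⁻¹ * s, E.mul_mem hs' S.s_mem, fun h1 => h (conj_eq_self_iff.1 ?_), ?_⟩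
  · rw [eq_inv_of_mul_eq_one_left h1, inv_self (S.hE2 _ S.s_mem)]
  · have hc := S.hEc _ hs' _ S.s_mem
    calc x * (x * s * x⁻¹ * s) = (x * x) * (s * (x⁻¹ * s)) := by group
      _ = s * (x⁻¹ * s) := by rw [hx, one_mul]
      _ = s * (x * s * x⁻¹) * x := by rw [inv_self hx, mul_assoc s, mul_assoc (x * s), hx, mul_one]
      _ = _ := by rw [hc]

/-- all conjugates of `s` in the normaliser lie in `E` -/
theorem mem_E_of_conj [Finite G] {x : G} (hxM : x ∈ M) (hx : IsConj s x) : x ∈ E := by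
  obtain ⟨c, hc⟩ := isConj_iff.1 hx
  have hx2 : x * x = 1 := by
    rw [← hc, show c * s * c⁻¹ * (c * s * c⁻¹) = c * (s * s) * c⁻¹ by group, S.hE2 _ S.s_mem]; group
  obtain ⟨e, he, he1, hxe⟩ := S.exists_fixed hxM hx2
  obtain ⟨k, hk⟩ := isConj_iff.1 (S.conj_s he he1)
  have hk' : k ∈ M := S.sandwich (hk ▸ he)
  have h1 : k⁻¹ * x * k ∈ E := by
    refine S.mem_E ?_ (hx.trans (isConj_iff.2 ⟨k⁻¹, by rw [inv_inv]⟩))
    rw [← hk] at hxe
    have := congrArg (fun t => k⁻¹ * t * k) hxe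
    simpa [mul_assoc] using this.symm
  have := conj_mem hk' h1
  rwa [show k * (k⁻¹ * x * k) * k⁻¹ = x by group] at this

/-- the map `e ↦ e * j e j⁻¹` -/
def comm {j : G} (hj : j ∈ M) : ↥E →* ↥E where
  toFun e := ⟨e * (j * e * j⁻¹), E.mul_mem e.2 (conj_mem hj e.2)⟩
  map_one' := Subtype.ext (by simp)
  map_mul' a b := Subtype.ext (by
    show (a : G) * b * (j * ((a : G) * b) * j⁻¹) = (a : G) * (j * a * j⁻¹) * ((b : G) * (j * b * j⁻¹))
    have hc := S.hEc _ b.2 _ (conj_mem hj a.2)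
    calc (a : G) * b * (j * ((a : G) * b) * j⁻¹) = (a : G) * ((b : G) * (j * a * j⁻¹)) * (j * b * j⁻¹) := by group
      _ = _ := by rw [hc]; group)

/-- the centraliser in `E` of an outer involution and the commutator it fixes -/
theorem shape [Finite G] {j : G} (hjM : j ∈ M) (hj : j * j = 1) (hjE : j ∉ E) :
    Nat.card ↥(E ⊓ Subgroup.centralizer ({j} : Set G)) = 4 ∧
      ∃ d ∈ E, d ≠ 1 ∧ d * j = j * d ∧ ∀ g ∈ M, g * j = j * g → g * d = d * g := by
  have hker : ∀ e : ↥E, e ∈ (comm S hjM).ker ↔ (e : G) ∈ E ⊓ Subgroup.centralizer ({j} : Set G) := by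
    intro e
    rw [MonoidHom.mem_ker, Subgroup.mem_inf, mem_cent_one, ← conj_eq_self_iff]
    constructor
    · intro h
      refine ⟨e.2, ?_⟩
      have h' : (e : G) * (j * e * j⁻¹) = 1 := congrArg Subtype.val h
      rw [eq_inv_of_mul_eq_one_right h', inv_self (S.hE2 _ e.2)]
    · rintro ⟨-, h⟩
      exact Subtype.ext (show (e : G) * (j * e * j⁻¹) = 1 by rw [h, S.hE2 _ e.2])
  have hrange : (comm S hjM).range ≤ (comm S hjM).ker := by
    rintro _ ⟨e, rfl⟩
    rw [hker]
    refine ⟨E.mul_mem e.2 (conj_mem hjM e.2), mem_cent_one.2 ?_⟩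
    show j * ((e : G) * (j * e * j⁻¹)) = (e : G) * (j * e * j⁻¹) * j
    have hc := S.hEc _ e.2 _ (conj_mem hjM e.2)
    calc j * ((e : G) * (j * e * j⁻¹)) = (j * e * j⁻¹) * ((j * j) * (e * j⁻¹)) := by group
      _ = (j * e * j⁻¹) * (e * j) := by rw [hj, one_mul, inv_self hj]
      _ = _ := by rw [hc]; group
  have hcard : Nat.card ↥(comm S hjM).ker * Nat.card ↥(comm S hjM).range = 8 := by
    rw [← S.hE8, Subgroup.card_eq_card_quotient_mul_card_subgroup (comm S hjM).ker, mul_comm,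
      Nat.card_congr (QuotientGroup.quotientKerEquivRange (comm S hjM)).toEquiv]
  have hne : Nat.card ↥(comm S hjM).range ≠ 1 := by
    rw [ne_eq, Subgroup.card_eq_one, MonoidHom.range_eq_bot_iff]
    intro h
    refine hjE (S.cent_E (Subgroup.mem_centralizer_iff.2 fun e he => ?_))
    have := (hker ⟨e, he⟩).1 (by rw [MonoidHom.mem_ker, h]; rfl)
    exact (mem_cent_one.1 this.2).symm
  have hd := Subgroup.card_dvd_of_le hrange
  have h2 : Nat.card ↥(comm S hjM).range = 2 ∧ Nat.card ↥(comm S hjM).ker = 4 := by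
    have hk : Nat.card ↥(comm S hjM).ker ∣ 8 := ⟨_, hcard.symm⟩
    have hk' := Nat.le_of_dvd (by norm_num) hk
    generalize Nat.card ↥(comm S hjM).ker = a at hcard hd hk hk'
    generalize Nat.card ↥(comm S hjM).range = b at hcard hd hne
    have hb' : b ≤ 8 := Nat.le_of_dvd (by norm_num) ⟨a, by rw [mul_comm, hcard]⟩
    interval_cases a <;> interval_cases b <;> omega
  refine ⟨?_, ?_⟩
  · rw [← h2.2]
    exact Nat.card_congr
      { toFun := fun x => ⟨⟨x.1, x.2.1⟩, (hker _).2 x.2⟩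
        invFun := fun x => ⟨x.1.1, (hker _).1 x.2⟩
        left_inv := fun x => rfl
        right_inv := fun x => rfl }
  obtain ⟨⟨d, hdE⟩, hdr, hd1⟩ : ∃ d ∈ (comm S hjM).range, d ≠ 1 := by
    by_contra hc
    push Not at hc
    exact hne (Subgroup.card_eq_one.2 ((Subgroup.eq_bot_iff_forall _).2 hc))
  refine ⟨d, hdE, fun h => hd1 (Subtype.ext h), ?_, fun g hgM hgj => ?_⟩
  · exact (mem_cent_one.1 ((hker _).1 (hrange hdr)).2).symm
  have hgd : (⟨g * d * g⁻¹, conj_mem hgM hdE⟩ : ↥E) ∈ (comm S hjM).range := by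
    obtain ⟨e, he⟩ := hdr
    refine ⟨⟨g * e * g⁻¹, conj_mem hgM e.2⟩, Subtype.ext ?_⟩
    have he' : (e : G) * (j * e * j⁻¹) = d := congrArg Subtype.val he
    have hgj' : g⁻¹ * j * g = j := by rw [mul_assoc, ← hgj, inv_mul_cancel_left]
    show g * e * g⁻¹ * (j * (g * e * g⁻¹) * j⁻¹) = g * d * g⁻¹
    calc g * e * g⁻¹ * (j * (g * e * g⁻¹) * j⁻¹)
        = g * ((e : G) * ((g⁻¹ * j * g) * e * (g⁻¹ * j * g)⁻¹)) * g⁻¹ := by group
      _ = _ := by rw [hgj', he']
  refine conj_eq_self_iff.1 ?_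
  obtain ⟨u, v, huv, huniv⟩ := Nat.card_eq_two_iff.1 h2.1
  have key : ∀ a b : ↥(comm S hjM).range, a ≠ 1 → b ≠ 1 → a = b := fun a b ha hb => by
    rcases (huniv.ge (Set.mem_univ (1 : ↥(comm S hjM).range))) with h | h <;>
      rcases (huniv.ge (Set.mem_univ a)) with h' | h' <;> rcases (huniv.ge (Set.mem_univ b)) with h'' | h'' <;>
      simp_all
  have := key ⟨_, hgd⟩ ⟨_, hdr⟩ (fun e => by
    have e' : g * d * g⁻¹ = 1 := congrArg (fun t : ↥(comm S hjM).range => (t.1 : G)) e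
    exact hd1 (Subtype.ext (conj_eq_one_iff.1 e'))) (fun e => hd1 (congrArg Subtype.val e))
  exact congrArg (fun t : ↥(comm S hjM).range => (t.1 : G)) this

/-- an outer involution centralising `s` has its centraliser in the normaliser -/
theorem cent_outer_s [Finite G]
    (hodd : ∀ j ∈ Subgroup.centralizer ({s} : Set G), orderOf j = 2 → j ≠ s →
      ∀ y ∈ Subgroup.centralizer ({s} : Set G), y ^ 3 = 1 → y * j = j * y → y = 1)
    {j : G} (hj : orderOf j = 2) (hjs : s * j = j * s) (hjE : j ∉ E) :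
    Subgroup.centralizer ({j} : Set G) ≤ M := by
  have : Fact (Nat.Prime 2) := ⟨Nat.prime_two⟩
  have hjM : j ∈ M := S.cent_s_le (mem_cent_one.2 hjs)
  obtain ⟨hW, d, hdE, hd1, hdj, hfix⟩ := S.shape hjM (sq_of_order_two hj) hjE
  set X := Subgroup.centralizer ({j} : Set G) with hX
  set W := E ⊓ X with hWdef
  have hW2 : IsPGroup 2 ↥(W.subgroupOf X) := by
    refine IsPGroup.of_card (n := 2) ?_
    rw [Nat.card_congr (Subgroup.subgroupOfEquivOfLe inf_le_right).toEquiv, hW]; rfl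
  obtain ⟨Q, hQ⟩ := hW2.exists_le_sylow
  have hdX : d ∈ X := mem_cent_one.2 hdj.symm
  have hdQ : (⟨d, hdX⟩ : ↥X) ∈ (Q : Subgroup ↥X) := hQ (show d ∈ W from ⟨hdE, hdX⟩)
  have hd2 : orderOf (⟨d, hdX⟩ : ↥X) = 2 := by
    rw [Subgroup.orderOf_mk]
    exact orderOf_eq_prime (by rw [pow_two]; exact S.hE2 _ hdE) hd1
  -- the Sylow subgroup lies in the normaliser
  have hQM : ∀ q ∈ (Q : Subgroup ↥X), (q : G) ∈ M := by
    set R := ((M).subgroupOf X).subgroupOf (Q : Subgroup ↥X) with hR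
    have hnil : Group.IsNilpotent ↥(Q : Subgroup ↥X) := Q.isPGroup'.isNilpotent
    have htop : R = ⊤ := by
      refine normalizerCondition_iff_only_full_group_self_normalizing.1 Group.normalizerCondition_of_isNilpotent R
        (le_antisymm (fun y hy => ?_) Subgroup.le_normalizer)
      have hmem : (⟨⟨d, hdX⟩, hdQ⟩ : ↥(Q : Subgroup ↥X)) ∈ R := by
        show d ∈ M
        exact Subgroup.le_normalizer hdE
      have h1 := (Subgroup.mem_normalizer_iff.1 hy _).1 hmem
      have h1' : ((y : ↥X) : G) * d * ((y : ↥X) : G)⁻¹ ∈ M := h1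
      exact S.mem_of_conj hdE hd1
        (S.mem_E_of_conj h1' ((S.conj_s hdE hd1).trans (isConj_iff.2 ⟨_, rfl⟩)))
    intro q hq
    exact (htop ▸ Subgroup.mem_top (⟨q, hq⟩ : ↥(Q : Subgroup ↥X)) : (⟨q, hq⟩ : ↥(Q : Subgroup ↥X)) ∈ R)
  obtain ⟨N, hNn, hNodd, hNc⟩ := Cfsg.Agent.S0215.result Q ⟨d, hdX⟩ hd2 hdQ (fun g hg => by
    have hg' : (g : G) * d * (g : G)⁻¹ ∈ M := hQM _ hg
    have hgE := S.mem_E_of_conj hg' ((S.conj_s hdE hd1).trans (isConj_iff.2 ⟨_, rfl⟩))
    have hgj : (g : G) * j = j * g := (mem_cent_one.1 g.2).symm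
    exact Subtype.ext (conj_eq_self_iff.2 (hfix g (S.mem_of_conj hdE hd1 hgE) hgj)))
  set K := N.map X.subtype with hK
  have hKX : K ≤ X := Subgroup.map_subtype_le N
  have hKodd : Odd (Nat.card K) := by
    rwa [hK, Subgroup.card_map_of_injective Subtype.val_injective]
  have hXK : X ≤ Subgroup.normalizer (K : Set G) := by
    intro x hx
    have hle : ∀ y : G, y ∈ X → ∀ k ∈ K, y * k * y⁻¹ ∈ K := by
      rintro y hy _ ⟨n, hn, rfl⟩
      exact ⟨_, hNn.conj_mem n hn ⟨y, hy⟩, rfl⟩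
    rw [Subgroup.mem_normalizer_iff]
    intro k
    refine ⟨hle x hx k, fun h => ?_⟩
    have := hle x⁻¹ (X.inv_mem hx) _ h
    simpa [mul_assoc] using this
  have hW1 : ¬ IsCyclic ↥W := by
    intro hc
    obtain ⟨g, hg⟩ := hc.exists_generator
    have := orderOf_eq_card_of_forall_mem_zpowers hg
    rw [hW] at this
    have h2 : g ^ 2 = 1 := Subtype.ext (by
      rw [Subgroup.coe_pow, Subgroup.coe_one, pow_two]; exact S.hE2 _ g.2.1)
    have := Nat.le_of_dvd two_pos (orderOf_dvd_of_pow_eq_one h2)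
    omega
  have : IsMulCommutative ↥W := ⟨⟨fun a b => Subtype.ext (S.hEc _ a.2.1 _ b.2.1)⟩⟩
  have hKM : K ≤ M := by
    rw [← Cfsg.Agent.Coprime.fixedGen_eq (A := W) (K := K) hW1 (inf_le_right.trans hXK)
      (by rw [hW]; exact (Nat.coprime_two_left.2 hKodd).pow_left 2)]
    refine iSup₂_le fun a ha k hk => ?_
    exact S.cent_le ha.1.1 ha.2 (mem_cent_one.1 hk.2).symm
  have hK1 : ∀ k ∈ K, k = 1 := by
    intro k hk
    have hks : s * k = k * s := by
      have hsX : s ∈ X := mem_cent_one.2 hjs.symm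
      have h1 : s * k * s⁻¹ * k⁻¹ ∈ K :=
        K.mul_mem ((Subgroup.mem_normalizer_iff.1 (hXK hsX) k).1 hk) (K.inv_mem hk)
      have h2 : s * k * s⁻¹ * k⁻¹ ∈ E := by
        rw [show s * k * s⁻¹ * k⁻¹ = s * (k * s⁻¹ * k⁻¹) by group]
        exact E.mul_mem S.s_mem (conj_mem (hKM hk) (E.inv_mem S.s_mem))
      have h3 : s * k * s⁻¹ * k⁻¹ = 1 := by
        have e : ((⟨_, h1⟩ : ↥K)) ^ 2 = 1 := Subtype.ext (by
          rw [Subgroup.coe_pow, Subgroup.coe_one, pow_two]; exact S.hE2 _ h2)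
        have hd : orderOf (⟨_, h1⟩ : ↥K) ∣ Nat.gcd 2 (Nat.card K) :=
          Nat.dvd_gcd (orderOf_dvd_of_pow_eq_one e) (orderOf_dvd_natCard _)
        rw [(Nat.coprime_two_left.2 hKodd).gcd_eq_one, Nat.dvd_one, orderOf_eq_one_iff] at hd
        exact congrArg Subtype.val hd
      exact mul_inv_eq_iff_eq_mul.1 (mul_inv_eq_one.1 h3)
    have hkC : k ∈ Subgroup.centralizer ({s} : Set G) := mem_cent_one.2 hks
    refine hodd j (mem_cent_one.2 hjs) hj (fun e => hjE (e ▸ S.s_mem)) k hkC ?_ (mem_cent_one.1 (hKX hk)).symm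
    have h1 : orderOf k ∣ 192 := S.hC ▸ Subgroup.orderOf_dvd_natCard _ hkC
    have h2 : Odd (orderOf k) := hKodd.of_dvd_nat (Subgroup.orderOf_dvd_natCard _ hk)
    exact orderOf_dvd_iff_pow_eq_one.1
      ((Nat.Coprime.pow_right 6 (Nat.coprime_two_right.2 h2)).dvd_of_dvd_mul_left
        (show orderOf k ∣ 2 ^ 6 * 3 from h1))
  intro g hg
  refine S.cent_le hdE hd1 (conj_eq_self_iff.1 ?_)
  have h := hK1 _ ⟨_, hNc ⟨g, hg⟩, rfl⟩
  have h' : d * g * d⁻¹ * g⁻¹ = 1 := h
  have h'' : d * g = g * d := mul_inv_eq_iff_eq_mul.1 (mul_inv_eq_one.1 h')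
  rw [conj_eq_self_iff, h'']

theorem cent_outer [Finite G]
    (hodd : ∀ j ∈ Subgroup.centralizer ({s} : Set G), orderOf j = 2 → j ≠ s →
      ∀ y ∈ Subgroup.centralizer ({s} : Set G), y ^ 3 = 1 → y * j = j * y → y = 1)
    {j : G} (hjM : j ∈ M) (hj : orderOf j = 2) (hjE : j ∉ E) : Subgroup.centralizer ({j} : Set G) ≤ M := by
  obtain ⟨e, he, he1, hje⟩ := S.exists_fixed hjM (sq_of_order_two hj)
  obtain ⟨k, hk⟩ := isConj_iff.1 (S.conj_s he he1)
  have hk' : k ∈ M := S.sandwich (hk ▸ he)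
  have h1 := S.cent_outer_s hodd (j := k⁻¹ * j * k)
    (by rw [← hj]; exact (MulEquiv.orderOf_eq (MulAut.conj k).symm j))
    (by
      rw [← hk] at hje
      have := congrArg (fun t => k⁻¹ * t * k) hje
      simpa [mul_assoc] using this.symm)
    (fun h => hjE (by have := conj_mem hk' h; rwa [show k * (k⁻¹ * j * k) * k⁻¹ = j by group] at this))
  intro g hg
  have h2 : k⁻¹ * g * k ∈ M := h1 (mem_cent_one.2 (by
    have := congrArg (fun t => k⁻¹ * t * k) (mem_cent_one.1 hg)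
    simpa [mul_assoc] using this))
  have := (M).mul_mem ((M).mul_mem hk' h2) ((M).inv_mem hk')
  rwa [show k * (k⁻¹ * g * k) * k⁻¹ = g by group] at this

/-- every conjugate of `s` lies in `E` -/
theorem top [Finite G]
    (hodd : ∀ j ∈ Subgroup.centralizer ({s} : Set G), orderOf j = 2 → j ≠ s →
      ∀ y ∈ Subgroup.centralizer ({s} : Set G), y ^ 3 = 1 → y * j = j * y → y = 1)
    {b : G} (hb : orderOf b = 2) (hbC : b ∈ Subgroup.centralizer ({s} : Set G)) (hbE : b ∉ E) : M = ⊤ := by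
  rw [Subgroup.eq_top_iff']
  intro g
  refine S.sandwich (S.mem_E_of_conj ?_ (isConj_iff.2 ⟨g, rfl⟩))
  by_contra hxM
  set x := g * s * g⁻¹ with hx
  have hx2 : x * x = 1 := by
    rw [hx, show g * s * g⁻¹ * (g * s * g⁻¹) = g * (s * s) * g⁻¹ by group, S.hE2 _ S.s_mem]; group
  rcases Nat.even_or_odd (orderOf (b * x)) with he | ho
  · obtain ⟨u, hu, hbu, hxu⟩ := exists_middle (sq_of_order_two hb) hx2 he
    have huM : u ∈ M := S.cent_outer hodd (S.cent_s_le hbC) hb hbE (mem_cent_one.2 hbu)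
    by_cases huE : u ∈ E
    · exact hxM (S.cent_le huE (fun e => by simp [e] at hu) hxu)
    · exact hxM (S.cent_outer hodd huM hu huE (mem_cent_one.2 hxu.symm))
  · exact hbE (S.mem_E (mem_cent_one.1 hbC)
      ((isConj_iff.2 ⟨g, rfl⟩ : IsConj s x).trans (isConj_of_odd (sq_of_order_two hb) hx2 ho).symm))

end Cfg

end OneClass

open OneClass in
/-- the one class configuration is affine: `G` is an extension of an elementary group of order eight by `L₃(2)` -/
theorem normal_of_one_class {G : Type u} [Group G] [Finite G] {s b : G} (E : Subgroup G) (hs : orderOf s = 2)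
    (hb : orderOf b = 2) (hbC : b ∈ Subgroup.centralizer ({s} : Set G)) (hbE : b ∉ E) (hE8 : Nat.card E = 8)
    (hEc : ∀ x ∈ E, ∀ y ∈ E, x * y = y * x) (hE2 : ∀ x ∈ E, x * x = 1)
    (hfus : ∀ x, (x ∈ Subgroup.centralizer ({s} : Set G) ∧ IsConj s x) ↔ (x ∈ E ∧ x ≠ 1))
    (hCE : Subgroup.centralizer ({s} : Set G) ⊓ Subgroup.centralizer (E : Set G) ≤ E)
    (hC : Nat.card (Subgroup.centralizer ({s} : Set G)) = 192)
    (hodd : ∀ j ∈ Subgroup.centralizer ({s} : Set G), orderOf j = 2 → j ≠ s →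
      ∀ y ∈ Subgroup.centralizer ({s} : Set G), y ^ 3 = 1 → y * j = j * y → y = 1) :
    ∃ (N : Subgroup G) (_hN : N.Normal), IsMulCommutative N ∧ (∀ n ∈ N, n ^ 2 = 1) ∧ Nat.card N = 8 ∧
      Nonempty (G ⧸ N ≃* Matrix.ProjectiveSpecialLinearGroup (Fin 3) (ZMod 2)) := by
  have S : Cfg s E := ⟨hE8, hEc, hE2, hfus, fun e => by simp [e] at hs, hCE, hC⟩
  have htop := S.top hodd hb hbC hbE
  have hN : E.Normal := Subgroup.normalizer_eq_top_iff.1 htop
  refine ⟨E, hN, ⟨⟨fun a b => Subtype.ext (hEc _ a.2 _ b.2)⟩⟩, fun n hn => by rw [pow_two]; exact hE2 n hn, hE8, ?_⟩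
  -- the order of the group
  have hidx : (Subgroup.centralizer ({s} : Set G)).index = 7 := by
    let f : G ⧸ Subgroup.centralizer ({s} : Set G) → {x : ↥E // x ≠ 1} :=
      Quotient.lift (fun g => ⟨⟨g * s * g⁻¹, hN.conj_mem _ S.s_mem g⟩, fun e =>
          S.hs1 (conj_eq_one_iff.1 (congrArg Subtype.val e))⟩) fun a c h => by
        have h := mem_cent_one.1 (QuotientGroup.leftRel_apply.1 h)
        refine Subtype.ext (Subtype.ext ?_)
        calc a * s * a⁻¹ = a * (s * (a⁻¹ * c)) * c⁻¹ := by group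
          _ = _ := by rw [h]; group
    have hf : Function.Bijective f := by
      refine ⟨fun a c h => ?_, fun x => ?_⟩
      · induction a using Quotient.inductionOn' with | h a =>
        induction c using Quotient.inductionOn' with | h c =>
        refine Quotient.sound' ?_
        rw [QuotientGroup.leftRel_apply, mem_cent_one]
        have h' : a * s * a⁻¹ = c * s * c⁻¹ := congrArg (fun t => ((t.1 : ↥E) : G)) h
        calc s * (a⁻¹ * c) = a⁻¹ * (a * s * a⁻¹) * c := by group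
          _ = _ := by rw [h']; group
      · obtain ⟨k, hk⟩ := isConj_iff.1 (S.conj_s x.1.2 fun e => x.2 (Subtype.ext e))
        exact ⟨QuotientGroup.mk k, Subtype.ext (Subtype.ext hk)⟩
    rw [Subgroup.index_eq_card, Nat.card_congr (Equiv.ofBijective f hf)]
    classical
    have := S.finite_E
    have : Fintype ↥E := Fintype.ofFinite _
    rw [Nat.card_eq_fintype_card, Fintype.card_subtype_compl, ← Nat.card_eq_fintype_card, hE8]
    simp
  have hG : Nat.card G = 8 * 168 := by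
    rw [← Subgroup.card_mul_index (Subgroup.centralizer ({s} : Set G)), hC, hidx]
  -- the action on `E`
  let φ : G →* MulAut ↥E := MulAut.conjNormal
  have hker : φ.ker = E := by
    ext g
    rw [MonoidHom.mem_ker]
    constructor
    · intro h
      refine S.cent_E (Subgroup.mem_centralizer_iff.2 fun e he => ?_)
      have := congrArg Subtype.val (DFunLike.congr_fun h (⟨e, he⟩ : ↥E))
      rw [MulAut.one_apply] at this
      exact (conj_eq_self_iff.1 (by simpa [φ] using this)).symm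
    · intro hg
      refine MulEquiv.ext fun e => Subtype.ext ?_
      rw [MulAut.one_apply, MulAut.conjNormal_apply]
      exact conj_eq_self_iff.2 (hEc _ hg _ e.2)
  obtain ⟨ε⟩ := Cfsg.Agent.LargeExtra.Fischer.equiv_V3 hE8 (fun x : ↥E => Subtype.ext (hE2 _ x.2))
  let σ := MulEquiv.ofBijective _ Cfsg.Agent.LargeExtra.Fischer.sl3Aut_bijective
  let ψ : G →* Matrix.SpecialLinearGroup (Fin 3) (ZMod 2) :=
    (((MulAut.congr ε).trans σ.symm).toMonoidHom).comp φ
  have hψ : ψ.ker = E := by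
    rw [← hker]
    ext g
    simp only [MonoidHom.mem_ker, ψ, MonoidHom.comp_apply, MulEquiv.coe_toMonoidHom]
    exact map_eq_one_iff _ ((MulAut.congr ε).trans σ.symm).injective
  have hsl : Nat.card (Matrix.SpecialLinearGroup (Fin 3) (ZMod 2)) = 168 := by
    have h := Cfsg.Agent.Classical.Linear.mul_natCard_SL_fin (F := ZMod 2) (show 1 ≤ 3 by omega)
    rw [Fin.prod_univ_three, ZMod.card] at h
    norm_num at h
    rw [← Nat.card_eq_fintype_card] at h
    exact h
  have hrange : ψ.range = ⊤ := by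
    refine Subgroup.eq_top_of_card_eq _ ?_
    rw [← Nat.card_congr (QuotientGroup.quotientKerEquivRange ψ).toEquiv, hsl, hψ]
    have := Subgroup.card_eq_card_quotient_mul_card_subgroup E
    rw [hG, hE8] at this
    omega
  have hcen : Subgroup.center (Matrix.SpecialLinearGroup (Fin 3) (ZMod 2)) = ⊥ := by
    rw [← Subgroup.card_eq_one, Cfsg.Agent.Classical.Linear.natCard_center_SL, ZMod.card]; rfl
  exact ⟨((QuotientGroup.quotientMulEquivOfEq hψ.symm).trans
    (QuotientGroup.quotientKerEquivOfSurjective ψ (MonoidHom.range_eq_top.1 hrange))).trans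
    ((QuotientGroup.quotientMulEquivOfEq hcen).trans QuotientGroup.quotientBot).symm⟩

end Cfsg.Agent.ExtraThirtyTwo
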