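import Cfsg.Agent.Lib.ExtraThirtyTwo.A0Fusion
import Cfsg.Agent.Lib.ExtraThirtyTwo.OneClass

/-!
The split model with one fused class.
-/

set_option autoImplicit false

namespace Cfsg.Agent.ExtraThirtyTwo

open Subgroup

universe u

theorem eL_facts : eL.Nodup ∧ (∀ x ∈ eL, x < 192) ∧ closedL .A0 eL = true ∧
    (eL.all fun x => eL.all fun y => comm .A0 x y) = true ∧
    (eL.all fun x => mul .A0 x x == 0) = true ∧
    ((List.range 192).all fun g => !(eL.all (comm .A0 g)) || eL.contains g) = true ∧
    ((List.range 192).all fun x => (x == 1 || (classL .A0 2).contains x) ==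
      (eL.contains x && !(x == 0))) = true ∧
    ((List.range 192).all fun j => (List.range 192).all fun y => !isInv .A0 j || j == 1 || y == 0 ||
      !(mul .A0 y (mul .A0 y y) == 0) || !comm .A0 y j) = true := by
  refine ⟨by decide +kernel, by decide +kernel, by decide +kernel, by decide +kernel, by decide +kernel,
    by decide +kernel, ?_, ?_⟩
  · decide +kernel
  · decide +kernel

variable {G : Type u} [Group G] [Finite G] {s : G}

theorem Local.case_one (D : Local .A0 s) (h2 : IsConj s (D.el 2)) (h8 : ¬ IsConj s (D.el 8))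
    (h10 : ¬ IsConj s (D.el 10)) (h96 : ¬ IsConj s (D.el 96)) (h97 : ¬ IsConj s (D.el 97)) :
    ∃ (N : Subgroup G) (_hN : N.Normal), IsMulCommutative N ∧ (∀ n ∈ N, n ^ 2 = 1) ∧ Nat.card N = 8 ∧
      Nonempty (G ⧸ N ≃* Matrix.ProjectiveSpecialLinearGroup (Fin 3) (ZMod 2)) := by
  obtain ⟨hnd, hlt, hcl, hcomm, hsq, hcent, hclass, hodd⟩ := eL_facts
  set E := D.listSubgroup eL hlt (by decide +kernel) hcl with hE
  have hel : ∀ x ∈ eL, D.el x ∈ E := fun x hx => ⟨x, hx, rfl⟩
  have hbE : D.el 8 ∉ E := fun ⟨x, hx, e⟩ => by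
    have := D.el_inj (hlt x hx) (by norm_num) e
    subst this
    revert hx; decide +kernel
  refine normal_of_one_class E D.orderOf_s
    ((D.orderOf_two (by norm_num)).2 (by decide +kernel) : orderOf (D.el 8) = 2)
    (D.el_mem (by norm_num)) hbE
    ((D.card_listSubgroup hnd).trans (by decide +kernel)) ?_ ?_ ?_ ?_ D.card_centralizer ?_
  · rintro _ ⟨x, hx, rfl⟩ _ ⟨y, hy, rfl⟩
    exact (D.commute_iff (hlt x hx) (hlt y hy)).2 (List.all_eq_true.1 (List.all_eq_true.1 hcomm x hx) y hy)
  · rintro _ ⟨x, hx, rfl⟩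
    rw [← D.el_mul (hlt x hx) (hlt x hx), show mul .A0 x x = 0 by
      simpa using List.all_eq_true.1 hsq x hx, D.el_one]
  · intro g
    constructor
    · rintro ⟨hgC, hconj⟩
      obtain ⟨x, hx, rfl⟩ := (D.mem' g).1 hgC
      have hord : orderOf (D.el x) = 2 := by
        obtain ⟨c, hc⟩ := isConj_iff.1 hconj
        rw [← hc, Involutions.Basic.orderOf_conj, D.orderOf_s]
      have ht := List.all_eq_true.1 a0_classes x (List.mem_range.2 hx)
      simp only [(D.orderOf_two hx).1 hord, Bool.not_true, Bool.false_or, List.any_eq_true, beq_iff_eq,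
        List.mem_range] at ht
      obtain ⟨r, hr, g, hg, e⟩ := ht
      have hr' : r < 192 := by
        simp only [reps, List.mem_cons, List.not_mem_nil, or_false] at hr
        omega
      have he := D.conj_eq hg hr' hx e
      have hsr : IsConj s (D.el r) := hconj.trans (isConj_iff.2 ⟨D.el g, he⟩).symm
      have hin : r = 1 ∨ r = 2 := by
        simp only [reps, List.mem_cons, List.not_mem_nil, or_false] at hr
        rcases hr with rfl | rfl | rfl | rfl | rfl | rfl
        · exact Or.inl rfl
        · exact Or.inr rfl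
        all_goals contradiction
      have hx' : x = 1 ∨ x ∈ classL .A0 2 := by
        rcases hin with rfl | rfl
        · rw [D.s_eq, mem_centralizer_singleton_iff.1 (D.el_mem hg), mul_inv_cancel_right] at he
          exact Or.inl (D.el_inj hx (by norm_num) (he.symm.trans D.s_eq.symm))
        · exact Or.inr (List.mem_filter.2 ⟨List.mem_range.2 hx,
            List.any_eq_true.2 ⟨g, List.mem_range.2 hg, beq_iff_eq.2 e⟩⟩)
      have hb := List.all_eq_true.1 hclass x (List.mem_range.2 hx)
      have hl : (x == 1 || (classL .A0 2).contains x) = true := by simpa using hx'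
      rw [hl, beq_iff_eq] at hb
      obtain ⟨hxE, hx0⟩ := Bool.and_eq_true_iff.1 hb.symm
      exact ⟨hel x (by simpa using hxE), fun e1 => by
        rw [(D.el_eq_one hx).1 e1] at hx0; simp at hx0⟩
    · rintro ⟨⟨x, hx, rfl⟩, hne⟩
      have h := List.all_eq_true.1 hclass x (List.mem_range.2 (hlt x hx))
      have hx0 : x ≠ 0 := fun e => hne (e ▸ D.el_one)
      simp only [beq_iff_eq, List.contains_eq_mem, decide_eq_true hx, hx0, beq_eq_false_iff_ne.2 hx0,
        Bool.not_false, Bool.and_self, Bool.or_eq_true, decide_eq_true_eq] at h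
      refine ⟨D.el_mem (hlt x hx), ?_⟩
      rcases h with rfl | h
      · rw [D.s_eq]
      · exact h2.trans (D.isConj_of_mem_classL (by norm_num) h)
  · rintro g ⟨hgC, hgE⟩
    obtain ⟨c, hc, rfl⟩ := (D.mem' g).1 hgC
    have h := List.all_eq_true.1 hcent c (List.mem_range.2 hc)
    have hall : eL.all (comm .A0 c) = true := List.all_eq_true.2 fun x hx =>
      (D.commute_iff hc (hlt x hx)).1 (mem_centralizer_iff.1 hgE _ (hel x hx)).symm
    simp only [hall, Bool.not_true, Bool.false_or, List.contains_iff_mem] at h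
    exact hel c h
  · intro j hj hj2 hjs y hy hy3 hyj
    obtain ⟨a, ha, rfl⟩ := (D.mem' j).1 hj
    obtain ⟨c, hc, rfl⟩ := (D.mem' y).1 hy
    have h := List.all_eq_true.1 (List.all_eq_true.1 hodd a (List.mem_range.2 ha)) c (List.mem_range.2 hc)
    have ha1 : a ≠ 1 := fun e => hjs (e ▸ D.s_eq)
    have hc3 : mul .A0 c (mul .A0 c c) = 0 := by
      refine D.el_inj (mul_lt _ _ _) (by norm_num) ?_
      rw [D.el_mul hc (mul_lt _ _ _), D.el_mul hc hc, D.el_one, ← hy3, pow_three]
    simp only [(D.orderOf_two ha).1 hj2, ha1, hc3, (D.commute_iff hc ha).1 hyj, Bool.not_true,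
      Bool.false_or, Bool.or_false, beq_self_eq_true, Bool.or_eq_true, beq_iff_eq] at h
    rw [h.resolve_left id, D.el_one]

end Cfsg.Agent.ExtraThirtyTwo
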