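import Cfsg.Agent.Lib.ExtraThirtyTwo.A0Fusion

/-!
The three classes of six involutions are not all fused to the central one, unless some involution
outside the core is not.
-/

set_option autoImplicit false

namespace Cfsg.Agent.ExtraThirtyTwo

open Subgroup

universe u

theorem syl_mod_facts : ((sylL.all fun a => sylL.all fun b =>
      fL.any fun f => mul .A0 a b == mul .A0 f (mul .A0 b a)) &&
    fL.all (fun f => sylL.contains f)) = true ∧
    countF true true true true true = 15 := by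
  decide +kernel

variable {G : Type u} [Group G] [Finite G] {s : G}

theorem Local.fgrp_le_syl (D : Local .A0 s) : D.fgrp ≤ D.sylowGroup := by
  rintro _ ⟨x, hx, rfl⟩
  obtain ⟨h, -⟩ := syl_mod_facts
  simp only [Bool.and_eq_true] at h
  exact ⟨x, by simpa using List.all_eq_true.1 h.2 x hx, rfl⟩

theorem Local.syl_le_norm (D : Local .A0 s) : D.sylowGroup ≤ normalizer (D.fgrp : Set G) := by
  rintro _ ⟨x, hx, rfl⟩
  exact (D.norm_cent (sylL_sub x hx)).2 hx

theorem Local.not_all_fused (D : Local .A0 s) (h2 : IsConj s (D.el 2)) (h8 : IsConj s (D.el 8))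
    (h10 : IsConj s (D.el 10)) (h96 : IsConj s (D.el 96)) (h97 : IsConj s (D.el 97)) : False := by
  classical
  have : Fact (Nat.Prime 2) := ⟨Nat.prime_two⟩
  have : Fact (Nat.Prime 3) := ⟨Nat.prime_three⟩
  set N := normalizer (D.fgrp : Set G) with hNdef
  have hN : Nat.card N = 960 := by
    rw [D.card_norm_count, decide_eq_true h2, decide_eq_true h8, decide_eq_true h10, decide_eq_true h96,
      decide_eq_true h97, syl_mod_facts.2]
  have hFN : D.fgrp ≤ N := D.fgrp_le_syl.trans D.syl_le_norm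
  have hFn : (D.fgrp.subgroupOf N).Normal :=
    (normal_subgroupOf_iff_le_normalizer hFN).2 le_rfl
  let π := QuotientGroup.mk' (D.fgrp.subgroupOf N)
  have hH : Nat.card (N ⧸ D.fgrp.subgroupOf N) = 60 := by
    have h := Subgroup.card_eq_card_quotient_mul_card_subgroup (D.fgrp.subgroupOf N)
    rw [hN, Nat.card_congr (Subgroup.subgroupOfEquivOfLe hFN).toEquiv, D.card_fgrp] at h
    omega
  set T := D.sylowGroup.subgroupOf N with hT
  set P := T.map π with hP
  have hker : ∀ n : N, π n = 1 ↔ (n : G) ∈ D.fgrp := fun n => by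
    simp [π, mem_subgroupOf]
  have hmemP : ∀ n : N, π n ∈ P → (n : G) ∈ D.sylowGroup := by
    rintro n ⟨m, hm, e⟩
    have hf : π (m⁻¹ * n) = 1 := by rw [map_mul, map_inv, e, inv_mul_cancel]
    have := mul_mem (show (m : G) ∈ D.sylowGroup from hm) (D.fgrp_le_syl ((hker _).1 hf))
    simpa using this
  have hPcard : Nat.card P = 4 := by
    let f : T →* (N ⧸ D.fgrp.subgroupOf N) := π.comp T.subtype
    have hr : f.range = P := by
      rw [MonoidHom.range_comp, Subgroup.range_subtype]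
    have h := Subgroup.card_eq_card_quotient_mul_card_subgroup f.ker
    rw [Nat.card_congr (QuotientGroup.quotientKerEquivRange f).toEquiv, hr,
      Nat.card_congr (Subgroup.subgroupOfEquivOfLe D.syl_le_norm).toEquiv, D.card_sylowGroup] at h
    have hk : Nat.card f.ker = 16 := by
      rw [← D.card_fgrp]
      refine Nat.card_congr (Equiv.ofBijective
        (fun n : f.ker => (⟨((n : T) : N), (hker _).1 n.2⟩ : D.fgrp)) ⟨?_, ?_⟩)
      · intro a b e
        exact Subtype.ext (Subtype.ext (Subtype.ext (congrArg (fun z : D.fgrp => (z : G)) e)))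
      · rintro ⟨g, hg⟩
        exact ⟨⟨⟨⟨g, hFN hg⟩, D.fgrp_le_syl hg⟩, MonoidHom.mem_ker.2 ((hker ⟨g, hFN hg⟩).2 hg)⟩, rfl⟩
    rw [hk] at h
    omega
  let SP : Sylow 2 (N ⧸ D.fgrp.subgroupOf N) := Sylow.ofCard P (by
    rw [hPcard, hH]
    have : Nat.factorization 60 2 = 2 := by
      rw [show (60 : ℕ) = 2 ^ 2 * 15 by norm_num, Nat.factorization_mul (by norm_num) (by norm_num),
        Finsupp.add_apply, Nat.Prime.factorization_pow Nat.prime_two, Finsupp.single_eq_same,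
        Nat.factorization_eq_zero_of_not_dvd (by norm_num)]
    rw [this]; norm_num)
  have hnorm : normalizer ((SP : Subgroup (N ⧸ D.fgrp.subgroupOf N)) : Set (N ⧸ D.fgrp.subgroupOf N)) ≤
      centralizer ((SP : Subgroup (N ⧸ D.fgrp.subgroupOf N)) : Set (N ⧸ D.fgrp.subgroupOf N)) := by
    intro q hq
    obtain ⟨n, rfl⟩ := QuotientGroup.mk'_surjective _ q
    have hns : (n : G) * s * (n : G)⁻¹ = s := by
      have hsT : s ∈ D.sylowGroup := ⟨1, by decide +kernel, D.s_eq⟩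
      have himg : ∀ g ∈ D.sylowGroup, ∀ m : N, π m ∈ normalizer ((SP : Subgroup (N ⧸ D.fgrp.subgroupOf N)) : Set (N ⧸ D.fgrp.subgroupOf N)) →
          (m : G) * g * (m : G)⁻¹ ∈ D.sylowGroup := by
        intro g hg m hm
        have := (mem_normalizer_iff.1 hm (π ⟨g, D.syl_le_norm hg⟩)).1
          (show π ⟨g, D.syl_le_norm hg⟩ ∈ P from ⟨⟨g, D.syl_le_norm hg⟩, hg, rfl⟩)
        rw [← map_inv, ← map_mul, ← map_mul] at this
        exact hmemP _ this
      obtain ⟨w, hw, hwe⟩ := himg s hsT n hq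
      have hwc : sylL.all (comm .A0 w) = true := by
        rw [List.all_eq_true]
        intro y hy
        rw [← D.commute_iff (sylL_sub w hw) (sylL_sub y hy), hwe]
        obtain ⟨z, hz, hze⟩ := himg _ (⟨y, hy, rfl⟩ : D.el y ∈ D.sylowGroup) n⁻¹
          (by rw [map_inv]; exact inv_mem hq)
        simp only [coe_inv, inv_inv] at hze
        have hc : Commute s ((n : G)⁻¹ * D.el y * n) := by
          rw [← hze]
          exact (mem_centralizer_singleton_iff.1 (D.el_mem (sylL_sub z hz))).symm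
        simpa [mul_assoc] using hc.map (MulAut.conj (n : G))
      have hw1 : w = 0 ∨ w = 1 := by
        have := List.all_eq_true.1 (sylL_facts Kind.A0).2.2.2 w hw
        simpa [hwc] using this
      rcases hw1 with rfl | rfl
      · rw [D.el_one, eq_comm, conj_eq_one_iff] at hwe
        exact absurd hwe (Involutions.Basic.ne_one D.orderOf_s)
      · rw [D.s_eq] at hwe
        exact hwe.symm
    obtain ⟨c, hc, hce⟩ := (D.mem' _).1 (mem_centralizer_singleton_iff.2 (mul_inv_eq_iff_eq_mul.1 hns))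
    have hcs : c ∈ sylL := (D.norm_cent hc).1 (hce ▸ n.2)
    refine mem_centralizer_iff.2 ?_
    rintro _ ⟨m, hm, rfl⟩
    obtain ⟨d, hd, hde⟩ := (show (m : G) ∈ D.sylowGroup from hm)
    obtain ⟨hall, -⟩ := syl_mod_facts
    simp only [Bool.and_eq_true, List.all_eq_true, List.any_eq_true, beq_iff_eq] at hall
    obtain ⟨f, hf, e⟩ := hall.1 d hd c hcs
    have e' : (m : G) * n = D.el f * ((n : G) * m) := by
      rw [← hde, ← hce, ← D.el_mul (sylL_sub d hd) (sylL_sub c hcs), e,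
        D.el_mul (fL_lt f hf) (mul_lt _ _ _), D.el_mul (sylL_sub c hcs) (sylL_sub d hd)]
    show π m * π n = π n * π m
    rw [← map_mul, ← map_mul, ← mul_inv_eq_one, ← map_inv, ← map_mul, hker]
    rw [coe_mul, coe_mul, coe_inv, coe_mul, e', mul_inv_cancel_right]
    exact D.el_mem_fgrp hf
  have hcompl := MonoidHom.ker_transferSylow_isComplement' SP hnorm
  set K := (MonoidHom.transferSylow SP hnorm).ker with hK
  have hKcard : Nat.card K = 15 := by
    have h := hcompl.card_mul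
    rw [hH, show Nat.card (SP : Subgroup (N ⧸ D.fgrp.subgroupOf N)) = 4 from hPcard] at h
    omega
  have hidx : K.index = 4 := by
    have h := K.card_mul_index
    rw [hKcard, hH] at h
    omega
  have hsub : Subsingleton (Sylow 3 K) := by
    have h1 : Nat.card (Sylow 3 K) ∣ 15 := by
      obtain ⟨R⟩ : Nonempty (Sylow 3 K) := inferInstance
      rw [R.card_eq_index_normalizer, ← hKcard]
      exact index_dvd_card _
    have h2 := card_sylow_modEq_one 3 K
    unfold Nat.ModEq at h2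
    have h3 : Nat.card (Sylow 3 K) ≤ 15 := Nat.le_of_dvd (by norm_num) h1
    refine (Nat.card_eq_one_iff_unique.1 ?_).1
    interval_cases hn : Nat.card (Sylow 3 K) <;> simp_all
  obtain ⟨n₂, hn₂, a1, a2, a3⟩ := D.exists_three (u := 2) (by simp) h2
  obtain ⟨n₈, hn₈, b1, b2, b3⟩ := D.exists_three (u := 8) (by simp) h8
  let y₂ : N ⧸ D.fgrp.subgroupOf N := π (⟨n₂, hn₂⟩ ^ 20)
  let y₈ : N ⧸ D.fgrp.subgroupOf N := π (⟨n₈, hn₈⟩ ^ 20)
  have hpow : ∀ z : N ⧸ D.fgrp.subgroupOf N, z ^ 20 ∈ K ∧ (z ^ 20) ^ 3 = 1 := by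
    intro z
    constructor
    · have h := Subgroup.pow_index_mem K z
      rw [hidx] at h
      rw [show z ^ 20 = (z ^ 4) ^ 5 by rw [← pow_mul]]
      exact pow_mem h 5
    · rw [← pow_mul, show 20 * 3 = Nat.card (N ⧸ D.fgrp.subgroupOf N) by rw [hH]]
      exact pow_card_eq_one'
  obtain ⟨R⟩ : Nonempty (Sylow 3 K) := inferInstance
  have hin : ∀ z : K, z ^ 3 = 1 → z ∈ (R : Subgroup K) := by
    intro z hz
    have hp : IsPGroup 3 (zpowers z) := by
      intro w
      refine ⟨1, ?_⟩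
      obtain ⟨i, hi⟩ := w.2
      apply Subtype.ext
      simp only [pow_one, coe_pow, coe_one]
      rw [← hi]
      show (z ^ i) ^ 3 = 1
      rw [← zpow_natCast, ← zpow_mul, mul_comm, zpow_mul, zpow_natCast, hz, one_zpow]
    obtain ⟨R', hR'⟩ := hp.exists_le_sylow
    exact (Subsingleton.elim R' R) ▸ hR' (mem_zpowers z)
  have hRcard : Nat.card (R : Subgroup K) = 3 := by
    rw [R.card_eq_multiplicity, hKcard]
    have : Nat.factorization 15 3 = 1 := by
      rw [show (15 : ℕ) = 3 * 5 by norm_num, Nat.factorization_mul (by norm_num) (by norm_num),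
        Finsupp.add_apply, Nat.Prime.factorization_self Nat.prime_three,
        Nat.factorization_eq_zero_of_not_dvd (by norm_num)]
    rw [this, pow_one]
  -- the twentieth powers move `s` like the squares
  have hmove : ∀ (n : G) (p q : G), n * s * n⁻¹ = p → n * p * n⁻¹ = q → n * q * n⁻¹ = s →
      n ^ 20 * s * (n ^ 20)⁻¹ = q := by
    intro n p q e1 e2 e3
    have hc : Commute (n ^ 3) s := by
      refine mul_inv_eq_iff_eq_mul.1 ?_
      calc n ^ 3 * s * (n ^ 3)⁻¹ = n * (n * (n * s * n⁻¹) * n⁻¹) * n⁻¹ := by rw [pow_three]; group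
        _ = s := by rw [e1, e2, e3]
    have h18 : Commute (n ^ 18) s := by
      rw [show n ^ 18 = (n ^ 3) ^ 6 by rw [← pow_mul]]
      exact hc.pow_left 6
    calc n ^ 20 * s * (n ^ 20)⁻¹ = n ^ 2 * (n ^ 18 * s * (n ^ 18)⁻¹) * (n ^ 2)⁻¹ := by
          rw [show n ^ 20 = n ^ 2 * n ^ 18 by rw [← pow_add]]; group
      _ = q := by rw [h18.eq, mul_inv_cancel_right, pow_two]; rw [← e2, ← e1]; group
  have m2 := hmove n₂ _ _ a1 a2 a3
  have m8 := hmove n₈ _ _ b1 b2 b3
  have hy2 : y₂ ∈ K ∧ y₂ ^ 3 = 1 := by rw [show y₂ = π ⟨n₂, hn₂⟩ ^ 20 from map_pow _ _ _]; exact hpow _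
  have hy8 : y₈ ∈ K ∧ y₈ ^ 3 = 1 := by rw [show y₈ = π ⟨n₈, hn₈⟩ ^ 20 from map_pow _ _ _]; exact hpow _
  have hy2ne : y₂ ≠ 1 := by
    intro e
    have hf := (hker _).1 e
    simp only [coe_pow] at hf
    rw [D.fgrp_comm hf D.s_mem_fgrp, mul_inv_cancel_right] at m2
    exact absurd (D.el_inj (mul_lt _ _ _) (by norm_num) (m2.symm.trans D.s_eq.symm)) (by decide +kernel)
  have hz2 : (⟨y₂, hy2.1⟩ : K) ∈ (R : Subgroup K) := hin _ (Subtype.ext hy2.2)
  have hz8 : (⟨y₈, hy8.1⟩ : K) ∈ (R : Subgroup K) := hin _ (Subtype.ext hy8.2)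
  have hRz : (R : Subgroup K) = zpowers ⟨y₂, hy2.1⟩ := by
    refine (eq_of_le_of_card_ge (zpowers_le.2 hz2) ?_).symm
    rw [hRcard, Nat.card_zpowers, orderOf_eq_prime (Subtype.ext hy2.2)
      (fun e => hy2ne (congrArg Subtype.val e))]
  rw [hRz, mem_zpowers_iff_mem_range_orderOf, orderOf_eq_prime (Subtype.ext hy2.2)
    (fun e => hy2ne (congrArg Subtype.val e)), Finset.mem_image] at hz8
  obtain ⟨i, hi, e⟩ := hz8
  rw [Finset.mem_range] at hi
  have e' : π ((⟨n₂, hn₂⟩ ^ 20) ^ i) = π (⟨n₈, hn₈⟩ ^ 20) := by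
    rw [map_pow]; exact congrArg Subtype.val e
  have hf : π (((⟨n₂, hn₂⟩ : N) ^ 20) ^ i * ((⟨n₈, hn₈⟩ : N) ^ 20)⁻¹) = 1 := by
    rw [map_mul, map_inv, e', mul_inv_cancel]
  rw [hker] at hf
  simp only [coe_mul, coe_pow, coe_inv] at hf
  have heq : (n₂ ^ 20) ^ i * s * ((n₂ ^ 20) ^ i)⁻¹ = D.el (mul .A0 8 1) := by
    have hfs := D.fgrp_comm hf (D.el_mem_fgrp (show mul .A0 8 1 ∈ fL by decide +kernel))
    calc (n₂ ^ 20) ^ i * s * ((n₂ ^ 20) ^ i)⁻¹
        = ((n₂ ^ 20) ^ i * (n₈ ^ 20)⁻¹) * (n₈ ^ 20 * s * (n₈ ^ 20)⁻¹) *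
            ((n₂ ^ 20) ^ i * (n₈ ^ 20)⁻¹)⁻¹ := by group
      _ = _ := by rw [m8, hfs, mul_inv_cancel_right]
  have h22 : n₂ * D.el 2 * n₂⁻¹ = D.el (mul .A0 2 1) := a2
  interval_cases i
  · rw [pow_zero, one_mul, inv_one, mul_one] at heq
    exact absurd (D.el_inj (by norm_num) (mul_lt _ _ _) (D.s_eq.trans heq)) (by decide +kernel)
  · rw [pow_one, m2] at heq
    exact absurd (D.el_inj (mul_lt _ _ _) (mul_lt _ _ _) heq) (by decide +kernel)
  · have hsecond : (n₂ ^ 20) ^ 2 * s * ((n₂ ^ 20) ^ 2)⁻¹ = D.el 2 := by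
      calc (n₂ ^ 20) ^ 2 * s * ((n₂ ^ 20) ^ 2)⁻¹
          = n₂ ^ 20 * (n₂ ^ 20 * s * (n₂ ^ 20)⁻¹) * (n₂ ^ 20)⁻¹ := by rw [pow_two]; group
        _ = n₂ ^ 20 * (n₂ ^ 2 * s * (n₂ ^ 2)⁻¹) * (n₂ ^ 20)⁻¹ := by
          rw [m2, ← a2, ← a1, pow_two]; group
        _ = n₂ ^ 2 * (n₂ ^ 20 * s * (n₂ ^ 20)⁻¹) * (n₂ ^ 2)⁻¹ := by
          rw [show n₂ ^ 20 = n₂ ^ 2 * n₂ ^ 18 by rw [← pow_add]]; group
        _ = D.el 2 := by
          rw [m2, pow_two, show n₂ * n₂ * D.el (mul .A0 2 1) * (n₂ * n₂)⁻¹ =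
            n₂ * (n₂ * D.el (mul .A0 2 1) * n₂⁻¹) * n₂⁻¹ by group, a3, a1]
    rw [hsecond] at heq
    exact absurd (D.el_inj (by norm_num) (mul_lt _ _ _) heq) (by decide +kernel)

end Cfsg.Agent.ExtraThirtyTwo
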