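import Cfsg.Agent.Lib.Involutions.Basic

/-!
# Finishing steps towards the alternating groups of degree eight and nine

A subgroup containing the centralisers of two involutions representing its own classes, which are different in the
whole group, is everything; a group of order `181440` with a subgroup isomorphic to the alternating group of degree
eight that controls the centraliser and the fusion of an involution is the alternating group of degree nine.
-/

set_option autoImplicit false
set_option linter.style.haveILetI false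
set_option linter.unusedVariables false

namespace Cfsg.Agent.ExtraThirtyTwo

open Cfsg.Agent.Involutions.Basic

universe u

/-- If the fusion of an element of a subgroup containing its centraliser is controlled there and all conjugates lie in
the subgroup, the subgroup is everything. -/
theorem eq_top_of_conj_mem {G : Type u} [Group G] (H : Subgroup G) (s : G)
    (hCs : Subgroup.centralizer ({s} : Set G) ≤ H)
    (hall : ∀ g : G, ∃ h ∈ H, h * (g * s * g⁻¹) * h⁻¹ = s) : H = ⊤ := by
  refine (Subgroup.eq_top_iff' H).2 fun g => ?_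
  obtain ⟨h, hh, e⟩ := hall g
  have hc : h * g ∈ Subgroup.centralizer ({s} : Set G) := by
    rw [Subgroup.mem_centralizer_singleton_iff]
    calc h * g * s = h * (g * s * g⁻¹) * h⁻¹ * (h * g) := by group
      _ = s * (h * g) := by rw [e]
  simpa using H.mul_mem (H.inv_mem hh) (hCs hc)

/-- A conjugate by an element of the subgroup of an involution with centraliser in the subgroup has the same
property. -/
theorem centralizer_le_of_conj {G : Type u} [Group G] {H : Subgroup G} {h j r : G} (hh : h ∈ H)
    (e : h * j * h⁻¹ = r) (hr : Subgroup.centralizer ({r} : Set G) ≤ H) :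
    Subgroup.centralizer ({j} : Set G) ≤ H := fun g hg => by
  rw [Subgroup.mem_centralizer_singleton_iff] at hg
  have hc : h * g * h⁻¹ ∈ Subgroup.centralizer ({r} : Set G) := by
    rw [Subgroup.mem_centralizer_singleton_iff, ← e]
    calc h * g * h⁻¹ * (h * j * h⁻¹) = h * (g * j) * h⁻¹ := by group
      _ = h * j * h⁻¹ * (h * g * h⁻¹) := by rw [hg]; group
  have := H.mul_mem (H.mul_mem (H.inv_mem hh) (hr hc)) hh
  simpa [mul_assoc] using this

/-- A subgroup with two classes of involutions, containing their centralisers, is everything. -/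
theorem eq_top_of_two_classes {G : Type u} [Group G] [Finite G] (H : Subgroup G) (s b : G) (hs : orderOf s = 2)
    (hb : orderOf b = 2) (hsH : s ∈ H) (hbH : b ∈ H) (hsb : ¬ IsConj s b) (hsimple : IsSimpleGroup ↥H)
    (hclassH : ∀ j ∈ H, orderOf j = 2 → ∃ h ∈ H, h * j * h⁻¹ = s ∨ h * j * h⁻¹ = b)
    (hCs : Subgroup.centralizer ({s} : Set G) ≤ H) (hCb : Subgroup.centralizer ({b} : Set G) ≤ H) : H = ⊤ := by
  refine eq_top_of_conj_mem H s hCs fun g => ?_
  have hx : orderOf (g * s * g⁻¹) = 2 := by rw [orderOf_conj, hs]
  have hconj : IsConj s (g * s * g⁻¹) := isConj_iff.2 ⟨g, rfl⟩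
  obtain ⟨hj2, hjb, hjx⟩ := middle_involution hb hx
    (even_orderOf_mul_of_not_isConj hb hx fun hc => hsb (hconj.trans hc.symm))
  set j := (b * (g * s * g⁻¹)) ^ (orderOf (b * (g * s * g⁻¹)) / 2)
  have hjH : j ∈ H := hCb (Subgroup.mem_centralizer_singleton_iff.2 hjb.eq)
  have hCj : Subgroup.centralizer ({j} : Set G) ≤ H := by
    obtain ⟨h, hh, e | e⟩ := hclassH j hjH hj2
    · exact centralizer_le_of_conj hh e hCs
    · exact centralizer_le_of_conj hh e hCb
  have hxH : g * s * g⁻¹ ∈ H := hCj (Subgroup.mem_centralizer_singleton_iff.2 hjx.eq.symm)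
  obtain ⟨h, hh, e | e⟩ := hclassH _ hxH hx
  · exact ⟨h, hh, e⟩
  · exact absurd (hconj.trans (isConj_iff.2 ⟨h, e⟩)) hsb

/-- The alternating group of degree nine. -/
theorem equiv_alternating_nine {G : Type u} [Group G] [Finite G] (H : Subgroup G) (s : G) (hs : orderOf s = 2)
    (hsH : s ∈ H) (e : ↥H ≃* alternatingGroup (Fin 8)) (hCs : Subgroup.centralizer ({s} : Set G) ≤ H)
    (hsclass : ∀ j ∈ H, IsConj s j → ∃ h ∈ H, h * j * h⁻¹ = s) (hcard : Nat.card G = 181440) :
    Nonempty (G ≃* alternatingGroup (Fin 9)) := by
  classical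
  haveI : IsSimpleGroup (alternatingGroup (Fin 8)) := alternatingGroup.isSimpleGroup (by simp)
  haveI : Nontrivial ↥H := ⟨⟨s, hsH⟩, 1, fun he => ne_one hs (congrArg Subtype.val he)⟩
  haveI : IsSimpleGroup ↥H := e.isSimpleGroup
  have hH : Nat.card H = 20160 := by
    rw [Nat.card_congr e.toEquiv, nat_card_alternatingGroup, Nat.card_eq_fintype_card, Fintype.card_fin]
    norm_num [Nat.factorial]
  have hidx : Nat.card (G ⧸ H) = 9 := by
    have := H.card_eq_card_quotient_mul_card_subgroup
    rw [hH, hcard] at this
    omega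
  -- the core is trivial
  have hcore : H.normalCore = ⊥ := by
    rcases (inferInstance : (H.normalCore.subgroupOf H).Normal).eq_bot_or_eq_top with h | h
    · exact (Subgroup.subgroupOf_eq_bot.1 h).eq_bot_of_le H.normalCore_le
    · exfalso
      have hle : H ≤ H.normalCore := Subgroup.subgroupOf_eq_top.1 h
      haveI hn : H.Normal := by rw [le_antisymm hle H.normalCore_le]; infer_instance
      have := eq_top_of_conj_mem H s hCs fun g =>
        hsclass _ (hn.conj_mem s hsH g) (isConj_iff.2 ⟨g, rfl⟩)
      rw [this, Subgroup.card_top] at hH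
      omega
  obtain ⟨eq⟩ : Nonempty (G ⧸ H ≃ Fin 9) := ⟨Finite.equivFinOfCardEq hidx⟩
  let φ : G →* Equiv.Perm (Fin 9) := eq.permCongrHom.toMonoidHom.comp (MulAction.toPermHom G (G ⧸ H))
  have hker : φ.ker = ⊥ := by
    refine (Subgroup.eq_bot_iff_forall _).2 fun a ha => ?_
    have h0 : MulAction.toPermHom G (G ⧸ H) a = 1 := eq.permCongrHom.injective (ha.trans (map_one _).symm)
    rwa [← MonoidHom.mem_ker, ← Subgroup.normalCore_eq_ker, hcore, Subgroup.mem_bot] at h0
  have hφ : Function.Injective φ := (MonoidHom.ker_eq_bot_iff φ).1 hker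
  have hrange : φ.range = alternatingGroup (Fin 9) := by
    refine Equiv.Perm.eq_alternatingGroup_of_index_eq_two ?_
    have h1 := φ.range.card_mul_index
    rw [← Nat.card_congr (MonoidHom.ofInjective hφ).toEquiv, hcard, Nat.card_perm, Nat.card_eq_fintype_card,
      Fintype.card_fin] at h1
    norm_num [Nat.factorial] at h1
    omega
  exact ⟨(MonoidHom.ofInjective hφ).trans (MulEquiv.subgroupCongr hrange)⟩

end Cfsg.Agent.ExtraThirtyTwo
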