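import Cfsg.Agent.Lib.ExtraThirtyTwo.Local

/-!
Sylow subgroups, and the involutions which can be conjugate to the central one.
-/

set_option autoImplicit false

namespace Cfsg.Agent.ExtraThirtyTwo

open Subgroup

universe u

/-- The Sylow 2-subgroup of the model. -/
def sylL : List ℕ := (List.range 192).filter fun g => iOf g == 0

/-- The number of square roots of `w` commuting with `u`. -/
def roots (k : Kind) (u w : ℕ) : ℕ := ((centL k u).filter fun g => mul k g g == w).length

/-- The possible images of `s` under an element centralising `u` and normalising its centraliser. -/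
def candL (k : Kind) (u : ℕ) : List ℕ :=
  (centL k u).filter fun w => isInv k w && !(w == 1) && !(w == u) && (centL k u).all (comm k w) &&
    roots k u w == roots k u 1

theorem sylL_facts (k : Kind) : closedL k sylL = true ∧ sylL.length = 64 ∧ sylL.Nodup ∧
    (sylL.all fun w => w == 0 || w == 1 || !sylL.all (comm k w)) = true := by
  cases k <;> refine ⟨?_, ?_, ?_, ?_⟩ <;> decide +kernel

theorem sylL_sub : ∀ x ∈ sylL, x < 192 := fun _ hx => List.mem_range.1 (List.mem_filter.1 hx).1

variable {G : Type u} [Group G] [Finite G] {k : Kind} {s : G}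

namespace Local

variable (D : Local k s)

/-- The Sylow 2-subgroup given by the model. -/
def sylowGroup : Subgroup G :=
  D.listSubgroup sylL sylL_sub (by decide +kernel) (sylL_facts k).1

theorem card_sylowGroup : Nat.card D.sylowGroup = 64 :=
  (D.card_listSubgroup (sylL_facts k).2.2.1).trans (sylL_facts k).2.1

theorem sylowGroup_le : D.sylowGroup ≤ centralizer ({s} : Set G) := by
  rintro g ⟨x, hx, rfl⟩
  exact D.el_mem (sylL_sub x hx)

include D in
theorem not_dvd : ¬ 2 ^ 7 ∣ Nat.card G := by
  intro hd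
  have : Fact (Nat.Prime 2) := ⟨Nat.prime_two⟩
  set T := D.sylowGroup with hT
  obtain ⟨P, hP, hTP⟩ := Sylow.exists_subgroup_card_pow_succ (p := 2) (n := 6) hd
    (H := T) (by rw [D.card_sylowGroup]; norm_num)
  have hnorm : P ≤ normalizer (T : Set G) := by
    have hrel : (T.subgroupOf P).index = 2 := by
      have h := (T.subgroupOf P).card_mul_index
      rw [Nat.card_congr (Subgroup.subgroupOfEquivOfLe hTP).toEquiv, D.card_sylowGroup, hP] at h
      norm_num at h ⊢
      omega
    exact (Subgroup.normal_subgroupOf_iff_le_normalizer hTP).1 (normal_of_index_eq_two hrel)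
  have hPC : P ≤ centralizer ({s} : Set G) := by
    intro g hg
    have hsT : s ∈ T := ⟨1, by decide +kernel, D.s_eq⟩
    have hmem := (mem_normalizer_iff.1 (hnorm hg) s).1 hsT
    obtain ⟨w, hw, hwe⟩ := hmem
    rcases sylL_facts k with ⟨-, -, -, hz⟩
    have hwc : sylL.all (comm k w) = true := by
      rw [List.all_eq_true]
      intro y hy
      rw [← D.commute_iff (sylL_sub w hw) (sylL_sub y hy), hwe]
      have hy' : g⁻¹ * D.el y * g ∈ T := by
        have := (mem_normalizer_iff.1 (inv_mem (hnorm hg)) (D.el y)).1 ⟨y, hy, rfl⟩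
        rwa [inv_inv] at this
      obtain ⟨z, hz', hze⟩ := hy'
      have hc : Commute s (g⁻¹ * D.el y * g) := by
        rw [← hze]
        exact (mem_centralizer_singleton_iff.1 (D.el_mem (sylL_sub z hz'))).symm
      simpa [mul_assoc] using hc.map (MulAut.conj g)
    have hw1 : w = 0 ∨ w = 1 := by
      have := List.all_eq_true.1 hz w hw
      simpa [hwc] using this
    rcases hw1 with rfl | rfl
    · rw [D.el_one, eq_comm, conj_eq_one_iff] at hwe
      exact absurd hwe (Involutions.Basic.ne_one D.orderOf_s)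
    · rw [D.s_eq] at hwe
      exact mem_centralizer_singleton_iff.2 (mul_inv_eq_iff_eq_mul.1 hwe.symm)
  have h := Subgroup.card_dvd_of_le hPC
  rw [D.card_centralizer, hP] at h
  norm_num at h

include D in
theorem factorization_two : (Nat.card G).factorization 2 = 6 := by
  have h1 : 2 ^ 6 ∣ Nat.card G := by
    have := Subgroup.card_subgroup_dvd_card D.sylowGroup
    rwa [D.card_sylowGroup] at this
  have h2 := D.not_dvd
  rw [Nat.Prime.pow_dvd_iff_le_factorization Nat.prime_two Nat.card_pos.ne'] at h1 h2
  omega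

/-- The Sylow 2-subgroup given by the model, as a Sylow subgroup. -/
noncomputable def sylow : Sylow 2 G :=
  haveI : Fact (Nat.Prime 2) := ⟨Nat.prime_two⟩
  Sylow.ofCard D.sylowGroup (by rw [D.card_sylowGroup, D.factorization_two]; norm_num)

theorem coe_sylow : (D.sylow : Subgroup G) = D.sylowGroup := rfl

theorem card_centralizer_conj {x y : G} (h : IsConj x y) :
    Nat.card (centralizer ({y} : Set G)) = Nat.card (centralizer ({x} : Set G)) := by
  obtain ⟨g, rfl⟩ := isConj_iff.1 h
  symm
  refine Nat.card_congr (Equiv.subtypeEquiv (MulAut.conj g).toEquiv fun k => ?_)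
  simp only [mem_centralizer_singleton_iff, MulEquiv.toEquiv_eq_coe, EquivLike.coe_coe]
  rw [← MulAut.conj_apply g x, ← map_mul, ← map_mul]
  exact (MulAut.conj g).injective.eq_iff.symm

/-- An involution conjugate to `s` whose centraliser in that of `s` is a proper subgroup of a
Sylow 2-subgroup gives an element of its centraliser moving `s`. -/
theorem exists_swap {u : ℕ} (hu : u < 192) (hconj : IsConj s (D.el u)) {m : ℕ}
    (hlen : (centL k u).length = 2 ^ m) (hm : m < 6) :
    ∃ τ : G, τ * D.el u * τ⁻¹ = D.el u ∧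
      (∀ y ∈ centL k u, ∃ y' ∈ centL k u, τ * D.el y * τ⁻¹ = D.el y') ∧
      ∃ w ∈ candL k u, τ * s * τ⁻¹ = D.el w := by
  classical
  have : Fact (Nat.Prime 2) := ⟨Nat.prime_two⟩
  set S := centralizer ({s} : Set G) ⊓ centralizer ({D.el u} : Set G) with hS
  set Cu := centralizer ({D.el u} : Set G) with hCu
  have hScard : Nat.card S = 2 ^ m := (D.card_cent hu).trans hlen
  have hdvd : 2 ^ (m + 1) ∣ Nat.card Cu := by
    rw [card_centralizer_conj hconj, D.card_centralizer]
    exact dvd_trans (pow_dvd_pow 2 hm) (by norm_num)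
  obtain ⟨P, hP, hSP⟩ := Sylow.exists_subgroup_card_pow_succ hdvd (H := S.subgroupOf Cu)
    (by rw [Nat.card_congr (Subgroup.subgroupOfEquivOfLe (show S ≤ Cu from inf_le_right)).toEquiv, hScard])
  have hnorm : P ≤ normalizer ((S.subgroupOf Cu : Subgroup Cu) : Set Cu) := by
    have hrel : ((S.subgroupOf Cu).subgroupOf P).index = 2 := by
      have h := ((S.subgroupOf Cu).subgroupOf P).card_mul_index
      rw [Nat.card_congr (Subgroup.subgroupOfEquivOfLe hSP).toEquiv,
        Nat.card_congr (Subgroup.subgroupOfEquivOfLe (show S ≤ Cu from inf_le_right)).toEquiv, hScard,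
        hP, pow_succ] at h
      exact Nat.eq_of_mul_eq_mul_left (pow_pos two_pos m) h
    exact (Subgroup.normal_subgroupOf_iff_le_normalizer hSP).1 (normal_of_index_eq_two hrel)
  obtain ⟨τ', hτP, hτS⟩ : ∃ τ ∈ P, τ ∉ S.subgroupOf Cu := by
    by_contra h
    push Not at h
    have := Subgroup.card_le_of_le (show P ≤ S.subgroupOf Cu from h)
    rw [hP, Nat.card_congr (Subgroup.subgroupOfEquivOfLe (show S ≤ Cu from inf_le_right)).toEquiv,
      hScard, pow_succ] at this
    have := pow_pos (two_pos (α := ℕ)) m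
    omega
  set τ : G := (τ' : G)
  have hτu : τ * D.el u * τ⁻¹ = D.el u := by
    rw [mem_centralizer_singleton_iff.1 τ'.2, mul_inv_cancel_right]
  have hnot : τ ∉ centralizer ({s} : Set G) := fun h => hτS (mem_inf.2 ⟨h, τ'.2⟩)
  have hto : ∀ g : G, g ∈ S → τ * g * τ⁻¹ ∈ S ∧ τ⁻¹ * g * τ ∈ S := by
    intro g hg
    have h1 := (mem_normalizer_iff.1 (hnorm hτP) ⟨g, (mem_inf.1 hg).2⟩).1 hg
    have h2 := (mem_normalizer_iff.1 (inv_mem (hnorm hτP)) ⟨g, (mem_inf.1 hg).2⟩).1 hg
    rw [inv_inv] at h2
    exact ⟨h1, h2⟩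
  have hmap : ∀ y ∈ centL k u, ∃ y' ∈ centL k u, τ * D.el y * τ⁻¹ = D.el y' := by
    intro y hy
    obtain ⟨y', hy', e⟩ := (D.mem_cent hu).1 (hto _ ((D.mem_cent hu).2 ⟨y, hy, rfl⟩)).1
    exact ⟨y', hy', e.symm⟩
  have hlt : ∀ y ∈ centL k u, y < 192 := fun y hy => List.mem_range.1 (List.mem_filter.1 hy).1
  have h1mem : (1 : ℕ) ∈ centL k u := by
    refine List.mem_filter.2 ⟨by simp, ?_⟩
    rw [← D.commute_iff hu (by norm_num), D.s_eq]
    exact mem_centralizer_singleton_iff.1 (D.el_mem hu)
  obtain ⟨w, hw, hwe⟩ := hmap 1 h1mem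
  rw [D.s_eq] at hwe
  refine ⟨τ, hτu, hmap, w, List.mem_filter.2 ⟨hw, ?_⟩, hwe⟩
  have hinv : isInv k w = true := by
    rw [← D.orderOf_two (hlt w hw), ← hwe, Involutions.Basic.orderOf_conj, D.orderOf_s]
  have hw1 : w ≠ 1 := by
    intro h
    rw [h, D.s_eq] at hwe
    exact hnot (mem_centralizer_singleton_iff.2 (mul_inv_eq_iff_eq_mul.1 hwe))
  have hwu : w ≠ u := by
    intro h
    rw [h, ← hτu] at hwe
    have hsu : s = D.el u := mul_left_cancel (mul_right_cancel hwe)
    refine hnot ?_
    rw [hsu]; exact τ'.2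
  have hcen : (centL k u).all (comm k w) = true := by
    rw [List.all_eq_true]
    intro y hy
    rw [← D.commute_iff (hlt w hw) (hlt y hy), ← hwe]
    have hy' := (hto _ ((D.mem_cent hu).2 ⟨y, hy, rfl⟩)).2
    have hc : Commute s (τ⁻¹ * D.el y * τ) := (mem_centralizer_singleton_iff.1 (mem_inf.1 hy').1).symm
    simpa [mul_assoc] using hc.map (MulAut.conj τ)
  have hroots : roots k u w = roots k u 1 := by
    -- conjugation by `τ` is a bijection between the two sets of roots
    choose! f hf using hmap
    have hfinj : ∀ a ∈ centL k u, ∀ b ∈ centL k u, f a = f b → a = b := fun a ha b hb h =>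
      D.el_inj (hlt a ha) (hlt b hb) (mul_left_cancel (mul_right_cancel
        ((hf a ha).2.trans ((congrArg D.el h).trans (hf b hb).2.symm))))
    have hsq : ∀ a ∈ centL k u, (mul k (f a) (f a) = w ↔ mul k a a = 1) := by
      intro a ha
      have hfa := hf a ha
      have hlta := hlt a ha
      have hltf := hlt _ hfa.1
      constructor <;> intro h
      · have e : D.el (mul k (f a) (f a)) = D.el w := by rw [h]
        rw [D.el_mul hltf hltf, ← hfa.2, ← hwe] at e
        refine D.el_inj (mul_lt k a a) (by norm_num) ?_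
        rw [D.el_mul hlta hlta, D.s_eq]
        have e' : τ * (D.el a * D.el a) * τ⁻¹ = τ * s * τ⁻¹ := by rw [← e]; group
        exact mul_left_cancel (mul_right_cancel e')
      · refine D.el_inj (mul_lt k _ _) (hlt w hw) ?_
        have e : D.el (mul k a a) = s := by rw [h, D.s_eq]
        rw [D.el_mul hlta hlta] at e
        rw [D.el_mul hltf hltf, ← hfa.2, ← hwe]
        calc τ * D.el a * τ⁻¹ * (τ * D.el a * τ⁻¹) = τ * (D.el a * D.el a) * τ⁻¹ := by group
          _ = τ * s * τ⁻¹ := by rw [e]
    unfold roots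
    have hnd : (centL k u).Nodup := List.nodup_range.filter _
    rw [← List.toFinset_card_of_nodup (hnd.filter _), ← List.toFinset_card_of_nodup (hnd.filter _)]
    have himg : (centL k u).toFinset.image f = (centL k u).toFinset := by
      refine Finset.eq_of_subset_of_card_le ?_ ?_
      · intro y hy
        obtain ⟨a, ha, rfl⟩ := Finset.mem_image.1 hy
        exact List.mem_toFinset.2 (hf a (List.mem_toFinset.1 ha)).1
      · rw [Finset.card_image_of_injOn]
        exact fun a ha b hb => hfinj a (List.mem_toFinset.1 ha) b (List.mem_toFinset.1 hb)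
    refine (Finset.card_bij (fun a _ => f a) ?_ ?_ ?_).symm
    · intro a ha
      simp only [List.mem_toFinset, List.mem_filter, beq_iff_eq] at ha ⊢
      exact ⟨(hf a ha.1).1, (hsq a ha.1).2 ha.2⟩
    · intro a ha b hb
      simp only [List.mem_toFinset, List.mem_filter] at ha hb
      exact hfinj a ha.1 b hb.1
    · intro y hy
      simp only [List.mem_toFinset, List.mem_filter, beq_iff_eq] at hy
      have : y ∈ (centL k u).toFinset.image f := by rw [himg]; exact List.mem_toFinset.2 hy.1
      obtain ⟨a, ha, rfl⟩ := Finset.mem_image.1 this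
      rw [List.mem_toFinset] at ha
      exact ⟨a, by simp only [List.mem_toFinset, List.mem_filter, beq_iff_eq]; exact ⟨ha, (hsq a ha).1 hy.2⟩, rfl⟩
  simp [hinv, hw1, hwu, hcen, hroots]

end Local

/-- In the two models where `t` squares to `s` no involution other than `s` is conjugate to `s`. -/
theorem odd_facts : (([Kind.A1, Kind.B1]).all fun k => (List.range 192).all fun u =>
    !isInv k u || u == 1 || (((centL k u).length == 16 || (centL k u).length == 32) &&
      (candL k u).isEmpty)) = true := by
  decide +kernel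

theorem Local.no_odd (D : Local k s) (hk : k = .A1 ∨ k = .B1) {g : G}
    (hg : g * s * g⁻¹ ∈ centralizer ({s} : Set G)) : g * s * g⁻¹ = s := by
  obtain ⟨u, hu, hue⟩ := (D.mem' _).1 hg
  by_contra hne
  have hu1 : u ≠ 1 := fun h => hne (by rw [← hue, h, D.s_eq])
  have hconj : IsConj s (D.el u) := isConj_iff.2 ⟨g, hue.symm⟩
  have hinv : isInv k u = true := by
    rw [← D.orderOf_two hu, hue, Involutions.Basic.orderOf_conj, D.orderOf_s]
  have h := List.all_eq_true.1 (List.all_eq_true.1 odd_facts k (by rcases hk with rfl | rfl <;> simp)) u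
    (List.mem_range.2 hu)
  simp only [hinv, Bool.not_true, Bool.false_or, Bool.or_eq_true, beq_iff_eq, Bool.and_eq_true,
    List.isEmpty_iff, hu1, false_or] at h
  obtain ⟨hlen, hempty⟩ := h
  have key : ∀ m, m < 6 → (centL k u).length = 2 ^ m → False := by
    intro m hm hl
    obtain ⟨-, -, -, w, hw, -⟩ := D.exists_swap hu hconj hl hm
    rw [hempty] at hw
    simp at hw
  rcases hlen with h | h
  · exact key 4 (by norm_num) h
  · exact key 5 (by norm_num) h

end Cfsg.Agent.ExtraThirtyTwo
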