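import Cfsg.Agent.Lib.ExtraThirtyTwo.CaseB0Table
import Cfsg.Agent.Lib.ExtraThirtyTwo.Sylow
import Cfsg.Agent.Lib.ExtraThirtyTwo.OneClass
import Cfsg.Agent.Lib.M12Central.Order
import Cfsg.Agent.Lib.M12Order.Mathieu
import Cfsg.Agent.S0058

/-!
An involution centraliser given by the second model with `t` of order two, in which an involution
of the core other than `s` is conjugate to `s`.
-/

set_option autoImplicit false
set_option maxRecDepth 20000

namespace Cfsg.Agent.ExtraThirtyTwo

open Cfsg.Agent.M12Central Cfsg.Agent.Golay.Cert Cfsg.Agent.Golay.TabList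
open Cfsg.Agent.M12Central.Data
open Subgroup
open scoped Pointwise

universe u

/-- The tables of the elementary subgroup of order eight. -/
def b0E : List ℕ := idTab :: zT :: clA

/-- A word in the conjugates of the central involution for each of the seven generating codes. -/
def b0ConjWord : ℕ → List ℕ
  | 1 => [1]
  | 2 => [20, 96, 118]
  | 4 => [10, 160, 174]
  | 8 => [20, 96, 125]
  | 16 => [10, 160, 187]
  | 32 => [96, 160]
  | _ => [96]

theorem b0E_facts : b0E.Nodup ∧ b0E.length = 8 ∧ bT ∉ b0E ∧ (∀ x ∈ b0E, x ∈ elems) := by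
  decide +kernel

theorem b0E_self : (elems.all fun y => !(b0E.all (Facts.comm y)) || b0E.contains y) = true := by
  decide +kernel

theorem b0_inv_cent : (elems.all fun j => !Facts.isInv j || j == zT || (Facts.centL j).all fun y =>
    y == idTab || !(mulTab y (mulTab y y) == idTab)) = true := by
  decide +kernel

theorem b0_word : ([1, 2, 4, 8, 16, 32, 96].all fun g => prodL Kind.B0 (b0ConjWord g) == g &&
    (b0ConjWord g).all fun c => decide (c < 192) &&
      (zT :: clA ++ clC).contains (tabOf c)) = true := by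
  decide +kernel

theorem b0_low : ((List.range 32).all fun u => !clC.contains (tabOf u) &&
    (!(tabOf u == zT) || u == 1)) = true := by
  decide +kernel

namespace Local

variable {G : Type u} [Group G] [Finite G] {s : G}

/-- The Sylow 2-subgroup is normalised only inside the centraliser of `s`. -/
theorem norm_sylow_le {k : Kind} (D : Local k s) :
    normalizer ((D.sylow : Subgroup G) : Set G) ≤ centralizer ({s} : Set G) := by
  rw [D.coe_sylow]
  intro g hg
  obtain ⟨-, -, -, hz⟩ := sylL_facts k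
  have hsT : s ∈ D.sylowGroup := ⟨1, by decide +kernel, D.s_eq⟩
  obtain ⟨w, hw, hwe⟩ := (mem_normalizer_iff.1 hg s).1 hsT
  have hwc : sylL.all (comm k w) = true := by
    rw [List.all_eq_true]
    intro y hy
    rw [← D.commute_iff (sylL_sub w hw) (sylL_sub y hy), hwe]
    obtain ⟨z, hz', hze⟩ : g⁻¹ * D.el y * g ∈ D.sylowGroup := by
      have h := (mem_normalizer_iff.1 (inv_mem hg) (D.el y)).1 ⟨y, hy, rfl⟩
      rwa [inv_inv] at h
    have hc : Commute s (g⁻¹ * D.el y * g) := by
      rw [← hze]
      exact (mem_centralizer_singleton_iff.1 (D.el_mem (sylL_sub z hz'))).symm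
    simpa [mul_assoc] using hc.map (MulAut.conj g)
  rcases (by simpa [hwc] using List.all_eq_true.1 hz w hw : w = 0 ∨ w = 1) with rfl | rfl
  · rw [D.el_one, eq_comm, conj_eq_one_iff] at hwe
    exact absurd hwe (Involutions.Basic.ne_one D.orderOf_s)
  · rw [D.s_eq] at hwe
    exact mem_centralizer_singleton_iff.2 (mul_inv_eq_iff_eq_mul.1 hwe.symm)

/-- With the involutions outside the core conjugate to `s` the group is simple. -/
theorem isSimple_B0 (D : Local Kind.B0 s) (ha : IsConj s D.toM12.a) (hc : IsConj s D.toM12.c) :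
    IsSimpleGroup G := by
  classical
  have : Fact (Nat.Prime 2) := ⟨Nat.prime_two⟩
  set M := D.toM12 with hM
  have hs2 := D.orderOf_s
  have : Nontrivial G := ⟨⟨s, 1, Involutions.Basic.ne_one hs2⟩⟩
  have hA : ∀ x ∈ clA, IsConj s (M.el x) := fun x hx => ha.trans (M.isConj_A hx)
  have hC : ∀ x ∈ clC, IsConj s (M.el x) := fun x hx => hc.trans (M.isConj_C hx)
  -- the elementary subgroup of order eight
  obtain ⟨hnd, hlen, -, hsub⟩ := b0E_facts
  have hE0 := Facts.A8_ok
  simp only [Bool.and_eq_true, List.all_eq_true, Facts.closedList, List.contains_iff_mem] at hE0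
  obtain ⟨⟨⟨hcl, hcomm⟩, -⟩, -⟩ := hE0
  obtain ⟨E, hEC, hEcard, hEmem⟩ := M.exists_subgroup hsub List.mem_cons_self hcl hnd
  rw [hlen] at hEcard
  have hEmul : ∀ x ∈ E, ∀ y ∈ E, x * y = y * x := by
    intro p hp q hq
    obtain ⟨x, hx, rfl⟩ := (hEmem p).1 hp
    obtain ⟨y, hy, rfl⟩ := (hEmem q).1 hq
    exact ((M.commute_iff (hsub x hx) (hsub y hy)).2 (hcomm x hx y hy)).eq
  have hEtype : ∀ x ∈ b0E, x = idTab ∨ x = zT ∨ x ∈ clA := fun x hx => by
    simpa [b0E] using hx
  have hEsq : ∀ p ∈ E, p ^ 2 = 1 := by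
    intro p hp
    obtain ⟨x, hx, rfl⟩ := (hEmem p).1 hp
    rcases hEtype x hx with rfl | rfl | h
    · rw [M.el_one, one_pow]
    · rw [M.z_eq, ← hs2, pow_orderOf_eq_one]
    · rw [← (M.orderOf_two (hsub x hx)).2 (M12Central.Local.classA_mem h).2, pow_orderOf_eq_one]
  have hEconj : ∀ p ∈ E, p ≠ 1 → IsConj s p := by
    intro p hp hp1
    obtain ⟨x, hx, rfl⟩ := (hEmem p).1 hp
    rcases hEtype x hx with rfl | rfl | h
    · exact absurd M.el_one hp1
    · rw [M.z_eq]
    · exact hA x h
  have hEstable : ∀ g ∈ centralizer ({s} : Set G), ∀ q ∈ E, g * q * g⁻¹ ∈ E := by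
    intro g hg q hq
    obtain ⟨x, hx, rfl⟩ := (hEmem q).1 hq
    rcases hEtype x hx with rfl | rfl | h
    · rw [M.el_one, mul_one, mul_inv_cancel]
      exact one_mem E
    · rw [M.z_eq, mem_centralizer_singleton_iff.1 hg, mul_inv_cancel_right]
      exact (hEmem s).2 ⟨zT, by simp [b0E], M.z_eq⟩
    · obtain ⟨y, hy, e⟩ := M.class_stable Facts.classA_ok hg h
      exact e ▸ (hEmem _).2 ⟨y, by simp [b0E, hy], rfl⟩
  refine ⟨fun N hN => ?_⟩
  by_cases hodd : Nat.Coprime 8 (Nat.card N)
  · -- normal subgroups of odd order are trivial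
    left
    have hNE : N ⊓ E = ⊥ := (Subgroup.disjoint_of_coprime_natCard (hEcard.symm ▸ hodd.symm)).eq_bot
    have hfix : N ⊓ centralizer ({s} : Set G) = ⊥ := by
      rw [eq_bot_iff]
      intro n hn
      obtain ⟨hnN, hnC⟩ := mem_inf.1 hn
      obtain ⟨x, hx, rfl⟩ := (M.mem' n).1 hnC
      have hall : b0E.all (Facts.comm x) = true := by
        rw [List.all_eq_true]
        intro y hy
        rw [← M.commute_iff hx (hsub y hy)]
        have hq : M.el y ∈ E := (hEmem _).2 ⟨y, hy, rfl⟩
        have h : M.el x * M.el y * (M.el x)⁻¹ * (M.el y)⁻¹ ∈ N ⊓ E := by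
          refine mem_inf.2 ⟨?_, mul_mem (hEstable _ hnC _ hq) (inv_mem hq)⟩
          rw [mul_assoc, mul_assoc, ← mul_assoc (M.el y)]
          exact mul_mem hnN (hN.conj_mem _ (inv_mem hnN) _)
        rw [hNE, mem_bot, mul_inv_eq_one, mul_inv_eq_iff_eq_mul] at h
        exact h
      have hxE := List.all_eq_true.1 b0E_self x hx
      simp only [hall, Bool.not_true, Bool.false_or, List.contains_iff_mem] at hxE
      rw [← hNE]
      exact mem_inf.2 ⟨hnN, (hEmem _).2 ⟨x, hxE, rfl⟩⟩
    have : IsMulCommutative ↥E := ⟨⟨fun p q => Subtype.ext (hEmul p.1 p.2 q.1 q.2)⟩⟩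
    have hncyc : ¬ IsCyclic ↥E := by
      intro h
      obtain ⟨g, hg⟩ := h.exists_generator
      have h1 := orderOf_eq_card_of_forall_mem_zpowers hg
      have h2 : orderOf g ∣ 2 := orderOf_dvd_of_pow_eq_one (Subtype.ext (by simpa using hEsq g.1 g.2))
      rw [h1, hEcard] at h2
      norm_num at h2
    rw [← S0058.result E N hncyc (by rw [normalizer_eq_top]; exact le_top) (hEcard.symm ▸ hodd),
      eq_bot_iff, iSup₂_le_iff]
    rintro p ⟨hp, hp1⟩ y hy
    obtain ⟨hyN, hyp⟩ := mem_inf.1 hy
    obtain ⟨g, hg⟩ := isConj_iff.1 (hEconj p hp hp1)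
    have hmem : g⁻¹ * y * g ∈ N ⊓ centralizer ({s} : Set G) := by
      refine mem_inf.2 ⟨by simpa using hN.conj_mem y hyN g⁻¹, mem_centralizer_singleton_iff.2 ?_⟩
      have h := congrArg (fun w => g⁻¹ * w * g) (mem_centralizer_singleton_iff.1 hyp)
      simp only [← hg] at h
      simpa [mul_assoc] using h
    rw [hfix, mem_bot] at hmem
    rw [mem_bot]
    simpa [mul_assoc] using congrArg (fun w => g * w * g⁻¹) hmem
  · -- those of even order are everything
    right
    have h2 : 2 ∣ Nat.card N := by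
      by_contra h
      exact hodd (Nat.Coprime.pow_left 3 ((Nat.prime_two.coprime_iff_not_dvd).2 h))
    obtain ⟨j, hj⟩ := exists_prime_orderOf_dvd_card' (G := N) 2 h2
    rw [← Subgroup.orderOf_coe] at hj
    obtain ⟨P, hP⟩ := IsPGroup.exists_le_sylow (p := 2) (P := zpowers (j : G))
      (IsPGroup.of_card (n := 1) (by rw [Nat.card_zpowers, hj, pow_one]))
    obtain ⟨g, hg⟩ := MulAction.exists_smul_eq G P D.sylow
    have hmemT : g * (j : G) * g⁻¹ ∈ centralizer ({s} : Set G) := by
      refine D.sylowGroup_le ?_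
      rw [← D.coe_sylow, ← hg]
      exact Subgroup.smul_mem_pointwise_smul (j : G) (MulAut.conj g) (P : Subgroup G)
        (hP (mem_zpowers _))
    obtain ⟨x, hx, hxe, hcases⟩ := M.exists_type hmemT (by rw [Involutions.Basic.orderOf_conj, hj])
    have hxN : M.el x ∈ N := hx ▸ hN.conj_mem _ j.2 g
    have hclosed : ∀ {p q : G}, IsConj p q → p ∈ N → q ∈ N := by
      intro p q hpq hp
      obtain ⟨k, rfl⟩ := isConj_iff.1 hpq
      exact hN.conj_mem p hp k
    have hsN : s ∈ N := by
      rcases hcases with rfl | h | h | h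
      · rwa [M.z_eq] at hxN
      · exact hclosed (hA x h).symm hxN
      · have hzb := Facts.T_ok.2.2.2.1
        have hb := hclosed (M.isConj_B h).symm hxN
        have hb' : M.el (mulTab zT bT) ∈ N := hclosed (M.isConj_B hzb) hb
        rw [M.el_mul Facts.elems_basic.2.2.2 M12Central.Local.bT_mem, M.z_eq] at hb'
        have := mul_mem hb' hb
        rwa [mul_assoc, ← pow_two, ← M.orderOf_b, pow_orderOf_eq_one, mul_one] at this
      · exact hclosed (hC x h).symm hxN
    have hwords : ∀ g ∈ [1, 2, 4, 8, 16, 32, 96], D.el g ∈ N := by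
      intro g hg
      have h := List.all_eq_true.1 b0_word g hg
      simp only [Bool.and_eq_true, beq_iff_eq, List.all_eq_true, decide_eq_true_eq,
        List.contains_iff_mem] at h
      rw [← h.1, D.el_prodL _ fun c hc => (h.2 c hc).1]
      refine Subgroup.list_prod_mem _ fun p hp => ?_
      obtain ⟨c, hc, rfl⟩ := List.mem_map.1 hp
      rw [← D.toM12_el (h.2 c hc).1]
      have hm := (h.2 c hc).2
      simp only [List.cons_append, List.mem_cons, List.mem_append] at hm
      rcases hm with e | e | e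
      · rw [e, ← hM, M.z_eq]
        exact hsN
      · exact hclosed (hA _ e) hsN
      · exact hclosed (hC _ e) hsN
    have hCN : centralizer ({s} : Set G) ≤ N := by
      intro p hp
      obtain ⟨b, hb, rfl⟩ := (D.mem' p).1 hp
      obtain ⟨e, hl⟩ := codeWord_spec b hb
      have hlt : ∀ g ∈ [1, 2, 4, 8, 16, 32, 96], g < 192 := by decide
      rw [← e, D.el_prodL _ fun c hc => hlt c (hl c hc)]
      refine Subgroup.list_prod_mem _ fun q hq => ?_
      obtain ⟨c, hc, rfl⟩ := List.mem_map.1 hq
      exact hwords c (hl c hc)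
    have hTN : (D.sylow : Subgroup G) ≤ N := by
      rw [D.coe_sylow]
      exact D.sylowGroup_le.trans hCN
    rw [eq_top_iff, ← Sylow.normalizer_sup_eq_top' (N := N) D.sylow hTN]
    exact sup_le (D.norm_sylow_le.trans hCN) le_rfl

/-- An involution of the core other than `s` is conjugate to `s`: either there is a normal
elementary subgroup of order eight, or the group is the Mathieu group of degree 12. -/
theorem case_B0 (D : Local Kind.B0 s) {u : ℕ} (hu : u < 32) (hu1 : u ≠ 1)
    (hconj : IsConj s (D.el u)) :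
    (∃ (N : Subgroup G) (_hN : N.Normal), IsMulCommutative N ∧ (∀ n ∈ N, n ^ 2 = 1) ∧
      Nat.card N = 8 ∧
      Nonempty (G ⧸ N ≃* Matrix.ProjectiveSpecialLinearGroup (Fin 3) (ZMod 2))) ∨
      Cfsg.Spor.IsoM12 G := by
  classical
  set M := D.toM12 with hM
  have hu' : u < 192 := by omega
  obtain ⟨k, hk⟩ := isConj_iff.1 hconj
  have hlow := List.all_eq_true.1 b0_low u (List.mem_range.2 hu)
  simp only [Bool.and_eq_true, Bool.not_eq_true', Bool.or_eq_true, beq_iff_eq,
    beq_eq_false_iff_ne, List.contains_eq_mem, decide_eq_false_iff_not] at hlow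
  have ha : IsConj s M.a := by
    have hut := M.el_mem (x := tabOf u)
    have hel : M.el (tabOf u) = D.el u := D.toM12_el hu'
    have hmem : tabOf u ∈ elems := by
      have := List.all_eq_true.1 tabs_elems.2 u (List.mem_range.2 hu')
      simp only [Bool.and_eq_true, List.contains_iff_mem] at this
      exact this.1
    rcases M12Central.Local.inv_split hmem ((M.orderOf_two hmem).1 (by
      rw [hel, ← hk, Involutions.Basic.orderOf_conj, D.orderOf_s])) with h | h | h | h
    · exact absurd (hlow.2.resolve_left fun hne => hne h) hu1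
    · exact hconj.trans (hel ▸ (M.isConj_A h).symm)
    · exact absurd (hconj.trans (hel ▸ (M.isConj_B h).symm)) M.not_conj_b
    · exact absurd h hlow.1
  by_cases hc : IsConj s M.c
  · right
    have hG : ¬ IsMulCommutative G := by
      intro h
      have e : D.el u = D.el 1 := by
        rw [← hk, h.is_comm.comm k s, mul_inv_cancel_right, D.s_eq]
      exact hu1 (D.el_inj hu' (by norm_num) e)
    have := D.isSimple_B0 ha hc
    exact M12Order.Mathieu.equiv ⟨inferInstance, M.card_eq hG⟩ M12Order.Mathieu.isM12_M12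
  · left
    obtain ⟨hnd, hlen, hbT, hsub⟩ := b0E_facts
    have hE0 := Facts.A8_ok
    simp only [Bool.and_eq_true, List.all_eq_true, Facts.closedList, List.contains_iff_mem] at hE0
    obtain ⟨⟨⟨hcl, hcomm⟩, -⟩, -⟩ := hE0
    obtain ⟨E, hEC, hEcard, hEmem⟩ := M.exists_subgroup hsub List.mem_cons_self hcl hnd
    rw [hlen] at hEcard
    refine normal_of_one_class (b := M.b) E D.orderOf_s M.orderOf_b
      (M.el_mem M12Central.Local.bT_mem) ?_ hEcard ?_ ?_ ?_ ?_ D.card_centralizer ?_
    · intro h
      obtain ⟨x, hx, e⟩ := (hEmem _).1 h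
      exact hbT (M.el_inj (hsub x hx) M12Central.Local.bT_mem e ▸ hx)
    · intro p hp q hq
      obtain ⟨x, hx, rfl⟩ := (hEmem p).1 hp
      obtain ⟨y, hy, rfl⟩ := (hEmem q).1 hq
      exact ((M.commute_iff (hsub x hx) (hsub y hy)).2 (hcomm x hx y hy)).eq
    · intro p hp
      obtain ⟨x, hx, rfl⟩ := (hEmem p).1 hp
      rcases (by simpa [b0E] using hx : x = idTab ∨ x = zT ∨ x ∈ clA) with rfl | rfl | h
      · rw [M.el_one, one_mul]
      · rw [M.z_eq]
        exact Involutions.Basic.inv_sq_one D.orderOf_s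
      · exact Involutions.Basic.inv_sq_one
          ((M.orderOf_two (hsub x hx)).2 (M12Central.Local.classA_mem h).2)
    · intro p
      constructor
      · rintro ⟨hpC, hp⟩
        obtain ⟨g, hg⟩ := isConj_iff.1 hp
        obtain ⟨x, rfl, hxe, hcases⟩ := M.exists_type hpC
          (by rw [← hg, Involutions.Basic.orderOf_conj, D.orderOf_s])
        refine ⟨(hEmem _).2 ⟨x, ?_, rfl⟩, ?_⟩
        · rcases hcases with rfl | h | h | h
          · simp [b0E]
          · simp [b0E, h]
          · exact absurd (hp.trans (M.isConj_B h).symm) M.not_conj_b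
          · exact absurd (hp.trans (M.isConj_C h).symm) hc
        · intro h
          rw [h, conj_eq_one_iff] at hg
          exact Involutions.Basic.ne_one D.orderOf_s hg
      · rintro ⟨hpE, hp1⟩
        refine ⟨hEC hpE, ?_⟩
        obtain ⟨x, hx, rfl⟩ := (hEmem p).1 hpE
        rcases (by simpa [b0E] using hx : x = idTab ∨ x = zT ∨ x ∈ clA) with rfl | rfl | h
        · exact absurd M.el_one hp1
        · rw [M.z_eq]
        · exact ha.trans (M.isConj_A h)
    · intro p hp
      obtain ⟨hpC, hpE⟩ := mem_inf.1 hp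
      obtain ⟨x, hx, rfl⟩ := (M.mem' p).1 hpC
      refine (hEmem _).2 ⟨x, ?_, rfl⟩
      have hall : b0E.all (Facts.comm x) = true := by
        rw [List.all_eq_true]
        intro y hy
        rw [← M.commute_iff hx (hsub y hy)]
        exact (mem_centralizer_iff.1 hpE (M.el y) ((hEmem _).2 ⟨y, hy, rfl⟩)).symm
      simpa [hall] using List.all_eq_true.1 b0E_self x hx
    · intro j hj hj2 hjs y hy hy3 hcm
      obtain ⟨a, ha', rfl⟩ := (M.mem' j).1 hj
      obtain ⟨b, hb, rfl⟩ := (M.mem' y).1 hy
      have h := List.all_eq_true.1 b0_inv_cent a ha'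
      have haz : a ≠ zT := fun e => hjs (e ▸ M.z_eq)
      simp only [(M.orderOf_two ha').1 hj2, Bool.not_true, Bool.false_or, Bool.or_eq_true,
        beq_iff_eq, haz, false_or, List.all_eq_true, Bool.not_eq_true', beq_eq_false_iff_ne] at h
      have hbc : b ∈ Facts.centL a :=
        List.mem_filter.2 ⟨hb, (M.commute_iff ha' hb).1 hcm.symm⟩
      rcases h b hbc with e | e
      · rw [e, M.el_one]
      · exfalso
        refine e (M.el_inj (M.closed hb (M.closed hb hb)) Facts.elems_basic.2.2.1 ?_)
        rw [M.el_mul hb (M.closed hb hb), M.el_mul hb hb, M.el_one, ← hy3, pow_succ', pow_two]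

end Local

end Cfsg.Agent.ExtraThirtyTwo
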