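import Cfsg.Agent.Lib.ExtraThirtyTwo.CentBSub
import Cfsg.Agent.S1230
import Cfsg.Agent.S0252
import Mathlib.GroupTheory.Perm.Finite
import Mathlib.GroupTheory.SpecificGroups.Alternating

/-!
The centraliser of an involution of the second class in the fusion pattern of the alternating group of degree
nine is the normaliser of the elementary group or is that of a double transposition in that group.
-/

set_option autoImplicit false
set_option linter.unusedVariables false

namespace Cfsg.Agent.ExtraThirtyTwo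

open Subgroup

universe u

/-- A double transposition of nine points. -/
def b9 : Equiv.Perm (Fin 9) := Equiv.swap 0 1 * Equiv.swap 2 3

namespace CentB

/-- The permutations of four and of five points as permutations of nine. -/
def join : Equiv.Perm (Fin 4) × Equiv.Perm (Fin 5) →* Equiv.Perm (Fin 9) :=
  (finSumFinEquiv (m := 4) (n := 5)).permCongrHom.toMonoidHom.comp (Equiv.Perm.sumCongrHom (Fin 4) (Fin 5))

theorem join_injective : Function.Injective join :=
  (finSumFinEquiv (m := 4) (n := 5)).permCongrHom.injective.comp Equiv.Perm.sumCongrHom_injective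

theorem join_b : join (b4, 1) = b9 := by
  decide +kernel

theorem sign_join (p : Equiv.Perm (Fin 4)) (q : Equiv.Perm (Fin 5)) :
    Equiv.Perm.sign (join (p, q)) = Equiv.Perm.sign p * Equiv.Perm.sign q := by
  show Equiv.Perm.sign ((finSumFinEquiv (m := 4) (n := 5)).permCongr (Equiv.Perm.sumCongr p q)) = _
  rw [Equiv.Perm.sign_permCongr, Equiv.Perm.sign_sumCongr]

theorem fix_join (p : Equiv.Perm (Fin 4)) (q : Equiv.Perm (Fin 5)) : fix (join (p, q)) = fix p + fix q := by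
  simp only [fix, Finset.card_filter]
  rw [Fin.sum_univ_add (a := 4) (b := 5)]
  congr 1 <;> refine Finset.sum_congr rfl fun i _ => ?_
  · show (if finSumFinEquiv (Equiv.Perm.sumCongr p q (finSumFinEquiv.symm (Fin.castAdd 5 i))) = _ then 1 else 0) = _
    rw [finSumFinEquiv_symm_apply_castAdd]
    exact if_congr ((finSumFinEquiv.injective.eq_iff (b := Sum.inl i)).trans Sum.inl_injective.eq_iff) rfl rfl
  · show (if finSumFinEquiv (Equiv.Perm.sumCongr p q (finSumFinEquiv.symm (Fin.natAdd 4 i))) = _ then 1 else 0) = _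
    rw [finSumFinEquiv_symm_apply_natAdd]
    exact if_congr ((finSumFinEquiv.injective.eq_iff (b := Sum.inr i)).trans Sum.inr_injective.eq_iff) rfl rfl

theorem fix_conj {n : ℕ} (g p : Equiv.Perm (Fin n)) : fix (g * p * g⁻¹) = fix p := by
  simp only [fix]
  refine (Finset.card_equiv g fun i => ?_).symm
  rw [Finset.mem_filter, Finset.mem_filter]
  simp [Equiv.Perm.mul_apply]

theorem moved_lt : ∀ i : Fin 9, (i : ℕ) < 4 ↔ b9 i ≠ i := by
  decide +kernel

/-- The permutations commuting with the double transposition. -/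
theorem exists_join {p : Equiv.Perm (Fin 9)} (h : p * b9 = b9 * p) :
    ∃ (p₄ : Equiv.Perm (Fin 4)) (p₅ : Equiv.Perm (Fin 5)), join (p₄, p₅) = p ∧ p₄ * b4 = b4 * p₄ := by
  have hp : ∀ i : Fin 9, (i : ℕ) < 4 → (p i : ℕ) < 4 := by
    intro i hi
    rw [moved_lt] at hi ⊢
    have e : p (b9 i) = b9 (p i) := Equiv.ext_iff.1 h i
    exact fun h' => hi (p.injective (e.trans h'))
  set e9 := finSumFinEquiv (m := 4) (n := 5) with he9
  obtain ⟨⟨p₄, p₅⟩, hq⟩ := Equiv.Perm.mem_sumCongrHom_range_of_perm_mapsTo_inl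
    (σ := e9.symm.permCongr p) (by
      rintro _ ⟨i, rfl⟩
      have hlt : (p (e9 (Sum.inl i)) : ℕ) < 4 := hp _ i.2
      refine ⟨⟨(p (e9 (Sum.inl i)) : ℕ), hlt⟩, ?_⟩
      rw [Equiv.permCongr_apply, Equiv.symm_symm]
      exact (e9.eq_symm_apply).2 (Fin.ext rfl))
  have hpj : join (p₄, p₅) = p := by
    show e9.permCongr (Equiv.Perm.sumCongrHom (Fin 4) (Fin 5) (p₄, p₅)) = p
    rw [hq]
    ext i
    simp [Equiv.permCongr_apply]
  refine ⟨p₄, p₅, hpj, ?_⟩
  rw [← hpj, ← join_b, ← map_mul, ← map_mul] at h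
  exact congrArg Prod.fst (join_injective h)

variable {G : Type u} [Group G] [Finite G] {s : G} {D : Local Kind.A0 s}

/-- The series and what is known about it. -/
structure Series (D : Local Kind.A0 s) (K₁ K₂ : Subgroup G) (n : G) : Prop where
  le₁ : K₁ ≤ kgrp D
  le₂ : K₂ ≤ K₁
  comm₂ : ∀ u ∈ K₁, ∀ v ∈ K₁, u * v * u⁻¹ * v⁻¹ ∈ K₂
  norm₁ : ∀ u ∈ kgrp D, ∀ v ∈ K₁, u * v * u⁻¹ ∈ K₁
  inf : K₂ ⊓ cgrp D = agrp D
  card : Nat.card (kgrp D) = 8 * Nat.card K₂
  n_mem : n ∈ K₂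
  n_norm : n ∈ normalizer (D.fgrp : Set G)
  n_cube : n ^ 3 = 1
  n_ne : n ≠ 1
  inv_a : ∀ g ∈ normalizer (D.fgrp : Set G), g ∈ kgrp D → ∀ a ∈ agrp D, g * a * g⁻¹ ∈ agrp D
  fix_v : ∀ g ∈ normalizer (D.fgrp : Set G), g ∈ K₁ → ∀ v ∈ vL, g * D.el v * g⁻¹ = D.el v

namespace Series

variable {K₁ K₂ : Subgroup G} {n : G} (T : Series D K₁ K₂ n)

include T

theorem le_k : K₂ ≤ kgrp D := T.le₂.trans T.le₁

theorem agrp_le₂ : agrp D ≤ K₂ := fun _ hg => (T.inf.ge hg).1

theorem sq_agrp {a : G} (ha : a ∈ agrp D) : a * a = 1 := D.fgrp_sq (agrp_le D ha)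

theorem n_pow_norm (i : ℕ) : n ^ i ∈ normalizer (D.fgrp : Set G) ∧ n ^ i ∈ kgrp D :=
  ⟨pow_mem T.n_norm i, pow_mem (T.le_k T.n_mem) i⟩

theorem n_moves : n * D.el 11 * n⁻¹ ≠ D.el 11 := by
  intro h
  have hS : n ∈ cgrp D := mem_cgrp_of_eleven D (T.le_k T.n_mem) (mul_inv_eq_iff_eq_mul.1 h)
  have h2 := T.sq_agrp (T.inf.le ⟨T.n_mem, hS⟩)
  refine T.n_ne ?_
  have h3 := T.n_cube
  rwa [pow_three, h2, mul_one] at h3

theorem orbit {a : G} (ha : a ∈ agrp D) (ha1 : a ≠ 1) : ∃ i : Fin 3, n ^ (i : ℕ) * D.el 11 * (n ^ (i : ℕ))⁻¹ = a := by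
  classical
  have he : D.el 11 ∈ agrp D := el_mem_agrp D (by decide +kernel)
  have he1 : D.el 11 ≠ 1 := fun h => by simpa using (D.el_eq_one (by norm_num)).1 h
  let f : Fin 3 → {z : agrp D // z ≠ 1} := fun i =>
    ⟨⟨_, T.inv_a _ (T.n_pow_norm i).1 (T.n_pow_norm i).2 _ he⟩, fun h =>
      he1 (conj_eq_one_iff.1 (congrArg Subtype.val h))⟩
  have hne : ∀ d : ℕ, d = 1 ∨ d = 2 → n ^ d * D.el 11 * (n ^ d)⁻¹ ≠ D.el 11 := by
    rintro d (rfl | rfl) h
    · rw [pow_one] at h; exact T.n_moves h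
    · refine T.n_moves ?_
      have hc : Commute (n ^ 2) (D.el 11) := mul_inv_eq_iff_eq_mul.1 h
      have h4 : (n ^ 2) ^ 2 = n := by rw [← pow_mul, pow_succ, T.n_cube, one_mul]
      have := (hc.pow_left 2).eq
      rw [h4] at this
      exact mul_inv_eq_iff_eq_mul.2 this
  have key : ∀ i j : Fin 3, i < j → f i ≠ f j := by
    intro i j hij h
    have h' : n ^ (i : ℕ) * D.el 11 * (n ^ (i : ℕ))⁻¹ = n ^ (j : ℕ) * D.el 11 * (n ^ (j : ℕ))⁻¹ :=
      congrArg (fun z : {z : agrp D // z ≠ 1} => (z.1 : G)) h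
    obtain ⟨d, hd⟩ := Nat.exists_eq_add_of_lt hij
    refine hne (d + 1) (by have := j.2; omega) (mul_left_cancel (a := n ^ (i : ℕ))
      (mul_right_cancel (b := (n ^ (i : ℕ))⁻¹) ?_))
    calc n ^ (i : ℕ) * (n ^ (d + 1) * D.el 11 * (n ^ (d + 1))⁻¹) * (n ^ (i : ℕ))⁻¹
        = n ^ (j : ℕ) * D.el 11 * (n ^ (j : ℕ))⁻¹ := by
          rw [hd, show (i : ℕ) + d + 1 = (i : ℕ) + (d + 1) from add_assoc _ _ _, pow_add]; group
      _ = _ := h'.symm
  have hf : Function.Injective f := fun i j h => by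
    rcases lt_trichotomy i j with hlt | heq | hlt
    · exact absurd h (key i j hlt)
    · exact heq
    · exact absurd h.symm (key j i hlt)
  have : Fintype (agrp D) := Fintype.ofFinite _
  have hcard : Nat.card {z : agrp D // z ≠ 1} = 3 := by
    rw [Nat.card_eq_fintype_card, Fintype.card_subtype_compl, ← Nat.card_eq_fintype_card, card_agrp D]
    simp
  have hb : Function.Bijective f := (Nat.bijective_iff_injective_and_card f).2 ⟨hf, by rw [hcard, Nat.card_fin]⟩
  obtain ⟨i, hi⟩ := hb.2 ⟨⟨a, ha⟩, fun h => ha1 (congrArg Subtype.val h)⟩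
  exact ⟨i, congrArg (fun z : {z : agrp D // z ≠ 1} => (z.1 : G)) hi⟩

theorem cent_a {a k : G} (ha : a ∈ agrp D) (ha1 : a ≠ 1) (hk : k ∈ K₂) (h : k * a = a * k) : k ∈ agrp D := by
  obtain ⟨i, hi⟩ := T.orbit ha ha1
  set m := n ^ (i : ℕ) with hm
  have hm2 : m ∈ K₂ := pow_mem T.n_mem _
  have hk' : m⁻¹ * k * m ∈ K₂ := mul_mem (mul_mem (inv_mem hm2) hk) hm2
  have hc : m⁻¹ * k * m * D.el 11 = D.el 11 * (m⁻¹ * k * m) := by
    have := congrArg (fun t => m⁻¹ * t * m) h
    rw [← hi] at this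
    simpa [mul_assoc] using this
  have hA := T.inf.le ⟨hk', mem_cgrp_of_eleven D (T.le_k hk') hc⟩
  have := T.inv_a m (T.n_pow_norm i).1 (T.n_pow_norm i).2 _ hA
  rwa [show m * (m⁻¹ * k * m) * m⁻¹ = k by group] at this

theorem card_le_twelve (h : ∀ k ∈ K₂, k * D.el 11 * k⁻¹ ∈ agrp D) : Nat.card K₂ ≤ 12 := by
  have he1 : D.el 11 ≠ 1 := fun h => by simpa using (D.el_eq_one (by norm_num)).1 h
  have hall : ∀ k : K₂, ∃ i : Fin 3, (n ^ (i : ℕ))⁻¹ * k ∈ agrp D := by
    intro k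
    obtain ⟨i, hi⟩ := T.orbit (h k k.2) (fun e => he1 (conj_eq_one_iff.1 e))
    refine ⟨i, T.cent_a (el_mem_agrp D (by decide +kernel)) he1
      (mul_mem (inv_mem (pow_mem T.n_mem _)) k.2) ?_⟩
    have e := congrArg (fun t => (n ^ (i : ℕ))⁻¹ * t * (k : G)) hi
    simpa [mul_assoc] using e.symm
  choose i hi using hall
  have := Nat.card_le_card_of_injective (fun k : K₂ => ((i k, ⟨_, hi k⟩) : Fin 3 × agrp D)) (fun a b e => by
    have e1 : i a = i b := congrArg Prod.fst e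
    have e2 : (n ^ (i a : ℕ))⁻¹ * (a : G) = (n ^ (i b : ℕ))⁻¹ * b :=
      congrArg (fun z : Fin 3 × agrp D => (z.2 : G)) e
    rw [e1] at e2
    exact Subtype.ext (mul_left_cancel e2))
  rwa [Nat.card_prod, Nat.card_fin, card_agrp D] at this

theorem card_two_part (h10 : ¬ IsConj s (D.el 10)) : (Nat.card K₂).factorization 2 = 2 := by
  have h1 : 2 ^ 2 ∣ Nat.card K₂ := by
    have := card_dvd_of_le T.agrp_le₂
    rwa [card_agrp D] at this
  have h2 : ¬ 2 ^ 3 ∣ Nat.card K₂ := fun h => not_sixty_four D h10 (by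
    rw [T.card]; exact mul_dvd_mul_left 8 h)
  rw [Nat.Prime.pow_dvd_iff_le_factorization Nat.prime_two Nat.card_pos.ne'] at h1 h2
  omega

theorem not_comm : n * D.el 11 ≠ D.el 11 * n := fun h => T.n_moves (mul_inv_eq_iff_eq_mul.2 h)

/-- Either the four-group is normal or the end of the series is the alternating group of degree five. -/
theorem dichotomy (h10 : ¬ IsConj s (D.el 10)) :
    Nat.card K₂ ≤ 12 ∨ (Nat.card K₂ = 60 ∧ IsSimpleGroup K₂) := by
  have : Fact (Nat.Prime 2) := ⟨Nat.prime_two⟩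
  let P : Sylow 2 K₂ := Sylow.ofCard ((agrp D).subgroupOf K₂) (by
    rw [Nat.card_congr (subgroupOfEquivOfLe T.agrp_le₂).toEquiv, card_agrp D, T.card_two_part h10]; norm_num)
  by_cases hn : (P : Subgroup K₂).Normal
  · refine Or.inl (T.card_le_twelve fun k hk => ?_)
    exact hn.conj_mem (⟨D.el 11, T.agrp_le₂ (el_mem_agrp D (by decide +kernel))⟩ : K₂)
      (el_mem_agrp D (x := 11) (by decide +kernel)) ⟨k, hk⟩
  refine Or.inr ?_
  have hP4 : Nat.card P = 4 := by
    show Nat.card ((agrp D).subgroupOf K₂) = 4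
    rw [Nat.card_congr (subgroupOfEquivOfLe T.agrp_le₂).toEquiv, card_agrp D]
  have hnc : ¬ IsCyclic (P : Subgroup K₂) := by
    intro hc
    obtain ⟨g, hg⟩ := hc.exists_generator
    have h4 := orderOf_eq_card_of_forall_mem_zpowers hg
    rw [hP4] at h4
    have h2 : g ^ 2 = 1 := Subtype.ext (Subtype.ext (by
      rw [pow_two]
      exact T.sq_agrp (show ((g : K₂) : G) ∈ agrp D from g.2)))
    have := Nat.le_of_dvd two_pos (orderOf_dvd_of_pow_eq_one h2)
    omega
  obtain ⟨F, iF, iK, hF, ⟨φ⟩⟩ := Cfsg.Agent.S1230.result P hnc hn fun t ht => by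
    have hz : IsPGroup 2 (zpowers t) := IsPGroup.of_card (n := 1) (by rw [Nat.card_zpowers, ht, pow_one])
    obtain ⟨Q, hQ⟩ := hz.exists_le_sylow
    obtain ⟨g, hg⟩ := MulAction.exists_smul_eq K₂ Q P
    have hgt : ((g * t * g⁻¹ : K₂) : G) ∈ agrp D := by
      have : g * t * g⁻¹ ∈ (g • Q : Sylow 2 K₂) := ⟨t, hQ (mem_zpowers t), rfl⟩
      rw [hg] at this
      exact this
    have hgt1 : ((g * t * g⁻¹ : K₂) : G) ≠ 1 := fun h => by
      have := conj_eq_one_iff.1 (Subtype.ext h : g * t * g⁻¹ = 1)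
      simp [this] at ht
    have key : ∀ c ∈ centralizer ({t} : Set K₂), ((g * c * g⁻¹ : K₂) : G) ∈ agrp D := fun c hc =>
      T.cent_a hgt hgt1 (g * c * g⁻¹).2 (by
        rw [← coe_mul, ← coe_mul]
        exact congrArg Subtype.val ((show Commute c t from mem_centralizer_singleton_iff.1 hc).map
          (MulAut.conj g)).eq)
    refine ⟨⟨⟨fun a b => Subtype.ext ?_⟩⟩, fun c hc => ?_⟩
    · have h' : g * a * g⁻¹ * (g * b * g⁻¹) = g * b * g⁻¹ * (g * a * g⁻¹) :=
        Subtype.ext (D.fgrp_comm (agrp_le D (key a a.2)) (agrp_le D (key b b.2)))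
      show (a : K₂) * b = b * a
      calc (a : K₂) * b = g⁻¹ * (g * a * g⁻¹ * (g * b * g⁻¹)) * g := by group
        _ = _ := by rw [h']; group
    · have h' : g * c * g⁻¹ * (g * c * g⁻¹) = 1 := Subtype.ext (T.sq_agrp (key c hc))
      calc c ^ 2 = c * c := pow_two c
        _ = g⁻¹ * (g * c * g⁻¹ * (g * c * g⁻¹)) * g := by group
        _ = 1 := by rw [h']; group
  rw [hP4] at hF
  obtain ⟨ε⟩ := Cfsg.Agent.S0252.result (F := F) hF
  refine ⟨?_, MulEquiv.isSimpleGroup (φ.trans ε)⟩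
  rw [Nat.card_congr (φ.trans ε).toEquiv]
  have := two_mul_nat_card_alternatingGroup (α := Fin 5)
  rw [Nat.card_perm, Nat.card_fin] at this
  simp only [Nat.factorial] at this
  omega

/-- In the simple case the end of the series is normal. -/
theorem normal₂ [IsSimpleGroup K₂] : ∀ u ∈ kgrp D, ∀ v ∈ K₂, u * v * u⁻¹ ∈ K₂ := by
  have hperf : ⁅K₂, K₂⁆ = K₂ := by
    rw [← map_subtype_commutator]
    rcases (inferInstance : (_root_.commutator K₂).Normal).eq_bot_or_eq_top with h | h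
    · exfalso
      have hm := commutator_mem_commutator (G := K₂) (mem_top ⟨n, T.n_mem⟩)
        (mem_top ⟨D.el 11, T.agrp_le₂ (el_mem_agrp D (by decide +kernel))⟩)
      rw [← _root_.commutator_def, h, mem_bot, commutatorElement_eq_one_iff_mul_comm] at hm
      exact T.not_comm (congrArg Subtype.val hm)
    · rw [h, ← MonoidHom.range_eq_map, range_subtype]
  have heq : ⁅K₁, K₁⁆ = K₂ :=
    le_antisymm (commutator_le.2 fun a ha b hb => T.comm₂ a ha b hb)
      (hperf.ge.trans (commutator_mono T.le₂ T.le₂))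
  intro u hu v hv
  have hmap : K₁.map (MulAut.conj u).toMonoidHom = K₁ := by
    refine eq_of_le_of_card_ge ?_ ?_
    · rintro _ ⟨w, hw, rfl⟩
      exact T.norm₁ u hu w hw
    · rw [card_map_of_injective (MulAut.conj u).injective]
  have : K₂.map (MulAut.conj u).toMonoidHom = K₂ := by rw [← heq, map_commutator, hmap]
  exact this.le ⟨v, hv, rfl⟩

/-- The simple case. -/
theorem embed (W : Hyp D) (h60 : Nat.card K₂ = 60) [IsSimpleGroup K₂] :
    ∃ ψ : ↥(kgrp D) →* Equiv.Perm (Fin 9), Function.Injective ψ ∧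
      (∀ p, (∃ x, ψ x = p) ↔ (Equiv.Perm.sign p = 1 ∧ p * b9 = b9 * p)) ∧
      ψ ⟨D.el 10, mem_centralizer_singleton_iff.2 rfl⟩ = b9 ∧
      ∀ x : ↥(kgrp D), orderOf x = 2 → (IsConj s (x : G) ↔ fix (ψ x) = 1) := by
  classical
  have : Fact (Nat.Prime 2) := ⟨Nat.prime_two⟩
  have hK : Nat.card (kgrp D) = 480 := by rw [T.card, h60]
  set Kn := K₂.subgroupOf (kgrp D) with hKn
  have : Kn.Normal := ⟨fun v hv u => T.normal₂ u u.2 v hv⟩
  set C' := (cgrp D).subgroupOf (kgrp D) with hC'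
  -- the four points
  have hcode : ∀ x : C', ∃ c ∈ cL, D.el c = ((x : kgrp D) : G) := fun x => x.2
  choose code hcode hcodee using hcode
  have hcode_eq : ∀ (x : C') (c : ℕ), c ∈ cL → D.el c = ((x : kgrp D) : G) → code x = c := fun x c hc e =>
    D.el_inj (cL_lt (hcode x)) (cL_lt hc) ((hcodee x).trans e.symm)
  let θS : C' →* Equiv.Perm (Fin 4) := MonoidHom.mk' (fun x => th (code x)) fun x y => by
    have hcl : mul .A0 (code x) (code y) ∈ cL := by
      simpa using List.all_eq_true.1 (List.all_eq_true.1 cL_facts.2.2.2.1 _ (hcode x)) _ (hcode y)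
    rw [hcode_eq (x * y) _ hcl (by
      rw [D.el_mul (cL_lt (hcode x)) (cL_lt (hcode y)), hcodee, hcodee]; rfl)]
    simpa using List.all_eq_true.1 (List.all_eq_true.1 th_hom _ (hcode x)) _ (hcode y)
  have hθS1 : ∀ x : C', θS x = 1 ↔ ((x : kgrp D) : G) ∈ agrp D := by
    intro x
    show th (code x) = 1 ↔ _
    rw [th_ker _ (hcode x)]
    constructor
    · rintro ⟨-, h⟩; exact hcodee x ▸ el_mem_agrp D h
    · rintro ⟨a, ha, e⟩
      exact ⟨hcode x, (hcode_eq x a (fL_cL (aL_fL ha)) e).symm ▸ ha⟩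
  let q : C' →* kgrp D ⧸ Kn := (QuotientGroup.mk' Kn).comp C'.subtype
  have hqker : ∀ x : C', q x = 1 ↔ ((x : kgrp D) : G) ∈ agrp D := fun x => by
    show ((x : kgrp D) : kgrp D ⧸ Kn) = 1 ↔ _
    rw [QuotientGroup.eq_one_iff]
    exact ⟨fun h => T.inf.le ⟨h, x.2⟩, fun h => T.agrp_le₂ h⟩
  have hCc : Nat.card C' = 32 := by
    rw [hC', Nat.card_congr (subgroupOfEquivOfLe (cgrp_le D)).toEquiv, card_cgrp D]
  have hq : Function.Surjective q := by
    rw [← MonoidHom.range_eq_top]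
    refine eq_top_of_card_eq _ ?_
    have hk : Nat.card q.ker = 4 := by
      rw [← card_agrp D]
      refine Nat.card_congr
        { toFun := fun x => ⟨_, (hqker x.1).1 x.2⟩
          invFun := fun a => ⟨⟨⟨a, cgrp_le D (fgrp_le_cgrp D (agrp_le D a.2))⟩,
            fgrp_le_cgrp D (agrp_le D a.2)⟩, (hqker _).2 a.2⟩
          left_inv := fun x => rfl
          right_inv := fun a => rfl }
    have h1 := card_eq_card_quotient_mul_card_subgroup q.ker
    rw [Nat.card_congr (QuotientGroup.quotientKerEquivRange q).toEquiv, hk, hCc] at h1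
    have h2 := card_eq_card_quotient_mul_card_subgroup Kn
    rw [hK, Nat.card_congr (subgroupOfEquivOfLe T.le_k).toEquiv, h60] at h2
    omega
  let L : {g : C' →* Equiv.Perm (Fin 4) // q.ker ≤ g.ker} := ⟨θS, fun x hx => (hθS1 x).2 ((hqker x).1 hx)⟩
  let θ : kgrp D →* Equiv.Perm (Fin 4) := ((q.liftOfSurjective hq) L).comp (QuotientGroup.mk' Kn)
  have hθC : ∀ x : C', θ (x : kgrp D) = θS x := fun x =>
    MonoidHom.liftOfRightInverse_comp_apply q _ (Function.rightInverse_surjInv hq) L x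
  have hθK : ∀ k ∈ Kn, θ k = 1 := fun k hk => by
    show (q.liftOfSurjective hq L) (k : kgrp D ⧸ Kn) = 1
    rw [(QuotientGroup.eq_one_iff k).2 hk, map_one]
  have hdec : ∀ k : kgrp D, ∃ x : C', k * (x : kgrp D)⁻¹ ∈ Kn := by
    intro k
    obtain ⟨x, hx⟩ := hq (k : kgrp D ⧸ Kn)
    refine ⟨x, (QuotientGroup.eq_one_iff _).1 ?_⟩
    rw [QuotientGroup.mk_mul, QuotientGroup.mk_inv]
    exact mul_inv_eq_one.2 hx.symm
  -- the five points
  set Nn := (normalizer (D.fgrp : Set G)).subgroupOf (kgrp D) with hNn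
  have hNnc : Nat.card Nn = 96 := by
    rw [← W.hN, hNn, ← inf_subgroupOf_right]
    exact Nat.card_congr (subgroupOfEquivOfLe inf_le_right).toEquiv
  have h5 : Nat.card (kgrp D ⧸ Nn) = 5 := by
    have h := card_eq_card_quotient_mul_card_subgroup Nn
    rw [hK, hNnc] at h
    omega
  let e := Finite.equivFinOfCardEq h5
  let α : kgrp D →* Equiv.Perm (Fin 5) :=
    e.permCongrHom.toMonoidHom.comp (MulAction.toPermHom (kgrp D) (kgrp D ⧸ Nn))
  have hαN : ∀ k : kgrp D, α k = 1 → k ∈ Nn := by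
    intro k hk
    have h := Equiv.ext_iff.1 hk (e ((1 : kgrp D) : kgrp D ⧸ Nn))
    simp only [α, MonoidHom.comp_apply, MulEquiv.coe_toMonoidHom, Equiv.permCongrHom_coe, Equiv.permCongr_apply,
      Equiv.symm_apply_apply, MulAction.toPermHom_apply, MulAction.toPerm_apply, Equiv.Perm.one_apply,
      EmbeddingLike.apply_eq_iff_eq, MulAction.Quotient.smul_coe, smul_eq_mul, mul_one] at h
    have := QuotientGroup.eq.1 h
    simpa using this
  have hC'N : C' ≤ Nn := fun x hx => (mem_norm_of_cgrp D hx).1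
  let αK : K₂ →* Equiv.Perm (Fin 5) := α.comp (Subgroup.inclusion T.le_k)
  have hαinj : Function.Injective αK := by
    rw [← MonoidHom.ker_eq_bot_iff]
    rcases αK.normal_ker.eq_bot_or_eq_top with h | h
    · exact h
    exfalso
    have hle : (⊤ : Subgroup (kgrp D)) ≤ Nn := by
      intro k _
      obtain ⟨x, hx⟩ := hdec k
      have h1 : α (Subgroup.inclusion T.le_k ⟨_, hx⟩) = 1 :=
        MonoidHom.mem_ker.1 (h ▸ mem_top (⟨_, hx⟩ : K₂) : (⟨_, hx⟩ : K₂) ∈ αK.ker)
      have h2 : k * (x : kgrp D)⁻¹ ∈ Nn := hαN _ h1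
      simpa using mul_mem h2 (hC'N x.2)
    have := card_le_of_le hle
    rw [card_top, hK, hNnc] at this
    omega
  have hrange : αK.range = alternatingGroup (Fin 5) := by
    refine Equiv.Perm.eq_alternatingGroup_of_index_eq_two ?_
    have h1 := αK.range.card_mul_index
    rw [← Nat.card_congr (MonoidHom.ofInjective hαinj).toEquiv, h60, Nat.card_perm, Nat.card_fin] at h1
    norm_num [Nat.factorial] at h1
    omega
  have hαev : ∀ k ∈ Kn, Equiv.Perm.sign (α k) = 1 := fun k hk =>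
    Equiv.Perm.mem_alternatingGroup.1 (hrange ▸ ⟨⟨(k : G), hk⟩, rfl⟩)
  have he11 : D.el 11 ∈ K₂ := T.agrp_le₂ (el_mem_agrp D (by decide +kernel))
  have he1 : D.el 11 ≠ 1 := fun h => by simpa using (D.el_eq_one (by norm_num)).1 h
  let ι : ∀ {g : G}, g ∈ K₂ → kgrp D := fun {g} hg => ⟨g, T.le_k hg⟩
  have hαeq : ∀ {a c : G} (ha : a ∈ K₂) (hc : c ∈ K₂), α (ι ha) = α (ι hc) → a = c := fun ha hc h =>
    congrArg Subtype.val (hαinj (a₁ := ⟨_, ha⟩) (a₂ := ⟨_, hc⟩) h)
  -- an element of `cgrp` acting evenly acts as an element of the four-group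
  have heven : ∀ x : C', Equiv.Perm.sign (α (x : kgrp D)) = 1 →
      ∃ a, ∃ ha : a ∈ agrp D, α (x : kgrp D) = α (ι (T.agrp_le₂ ha)) := by
    intro x hx
    obtain ⟨k, hk⟩ : α (x : kgrp D) ∈ αK.range := hrange ▸ Equiv.Perm.mem_alternatingGroup.2 hx
    have hc : Commute (x : kgrp D) (ι he11) := by
      refine Subtype.ext ?_
      show ((x : kgrp D) : G) * D.el 11 = D.el 11 * ((x : kgrp D) : G)
      rw [← hcodee x]
      refine ((D.commute_iff (cL_lt (hcode x)) (by norm_num)).2 ?_).eq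
      exact (show ∀ y ∈ cL, comm .A0 y 11 = true by decide +kernel) _ (hcode x)
    have hk' : k * ⟨_, he11⟩ = ⟨_, he11⟩ * k := hαinj (by
      rw [map_mul, map_mul, hk]
      exact (hc.map α).eq)
    exact ⟨k, T.cent_a (el_mem_agrp D (by decide +kernel)) he1 k.2 (congrArg Subtype.val hk'), hk.symm⟩
  have houter : ∀ x : C', code x ∉ fL → Equiv.Perm.sign (α (x : kgrp D)) = -1 := by
    intro x hxF
    refine (Int.units_eq_one_or _).resolve_left fun h1 => ?_
    obtain ⟨a, ha, he⟩ := heven x h1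
    obtain ⟨c, hc, hnc⟩ := outer_noncomm _ (hcode x) hxF
    have hcA := el_mem_agrp D hc
    have hconj := T.inv_a _ (mem_norm_of_cgrp D x.2).1 (x : kgrp D).2 _ hcA
    have := hαeq (T.agrp_le₂ hconj) (T.agrp_le₂ hcA) (by
      rw [show ι (T.agrp_le₂ hconj) = (x : kgrp D) * ι (T.agrp_le₂ hcA) * (x : kgrp D)⁻¹ from rfl, map_mul,
        map_mul, map_inv, he, ← map_mul, ← map_inv, ← map_mul]
      congr 1
      refine Subtype.ext ?_
      show a * D.el c * a⁻¹ = D.el c
      rw [D.fgrp_comm (agrp_le D ha) (agrp_le D hcA), mul_inv_cancel_right])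
    have h' : Commute (D.el (code x)) (D.el c) := by
      rw [hcodee x]
      exact mul_inv_eq_iff_eq_mul.1 this
    rw [D.commute_iff (cL_lt (hcode x)) (fL_lt c (aL_fL hc)), hnc] at h'
    exact Bool.false_ne_true h'
  have hinner : ∀ x : C', code x ∈ fL → Equiv.Perm.sign (α (x : kgrp D)) = 1 := by
    intro x hxF
    let d : C' := ⟨⟨D.el 20, cgrp_le D (el_mem_cgrp D cL_facts.2.2.2.2.2.2.1)⟩,
      el_mem_cgrp D cL_facts.2.2.2.2.2.2.1⟩
    have hd : code d = 20 := hcode_eq d 20 cL_facts.2.2.2.2.2.2.1 rfl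
    have h1 := houter d (hd ▸ cL_facts.2.2.2.2.2.2.2.1)
    have h2 := houter (x * d) fun h => by
      have hxd : D.el (code (x * d)) ∈ D.fgrp := D.el_mem_fgrp h
      rw [hcodee] at hxd
      have := mul_mem (inv_mem (D.el_mem_fgrp hxF)) hxd
      rw [hcodee] at this
      refine cL_facts.2.2.2.2.2.2.2.1 (code_of_fgrp D (by norm_num) ?_)
      simpa [d] using this
    rw [coe_mul, map_mul, map_mul, h1] at h2
    simpa using h2
  have hsign : ∀ x : C', Equiv.Perm.sign (θ (x : kgrp D)) = Equiv.Perm.sign (α (x : kgrp D)) := by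
    intro x
    rw [hθC]
    show Equiv.Perm.sign (th (code x)) = _
    by_cases hF : code x ∈ fL
    · rw [(th_sign _ (hcode x)).1 hF, hinner x hF]
    · rw [(th_sign _ (hcode x)).2 hF, houter x hF]
  have hv1 : ∀ x : C', code x ∈ vL → α (x : kgrp D) = 1 := by
    intro x hxv
    obtain ⟨a, ha, he⟩ := heven x (hinner x (aL_facts.2.2.2.2.1 _ hxv))
    have hn1 := T.fix_v n T.n_norm (T.le₂ T.n_mem) _ hxv
    rw [hcodee x] at hn1
    have hconj := T.inv_a n T.n_norm (T.le_k T.n_mem) a ha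
    have hfix := hαeq (T.agrp_le₂ hconj) (T.agrp_le₂ ha) (by
      rw [show ι (T.agrp_le₂ hconj) = ι T.n_mem * ι (T.agrp_le₂ ha) * (ι T.n_mem)⁻¹ from rfl, map_mul,
        map_mul, map_inv, ← he, ← map_mul, ← map_inv, ← map_mul]
      congr 1
      exact Subtype.ext hn1)
    have ha1 : a = 1 := by
      by_contra hne
      obtain ⟨i, hi⟩ := T.orbit ha hne
      refine T.n_moves ?_
      have hc : Commute n a := mul_inv_eq_iff_eq_mul.1 hfix
      calc n * D.el 11 * n⁻¹ = (n ^ (i : ℕ))⁻¹ * (n * (n ^ (i : ℕ) * D.el 11 * (n ^ (i : ℕ))⁻¹) * n⁻¹) *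
            n ^ (i : ℕ) := by
            have e : Commute n (n ^ (i : ℕ)) := Commute.self_pow n i
            rw [show n * (n ^ (i : ℕ) * D.el 11 * (n ^ (i : ℕ))⁻¹) * n⁻¹ =
              (n * n ^ (i : ℕ)) * D.el 11 * (n * n ^ (i : ℕ))⁻¹ by group, e.eq]
            group
        _ = D.el 11 := by rw [hi, hc.eq, mul_inv_cancel_right, ← hi]; group
    subst ha1
    rw [he, show ι (T.agrp_le₂ ha) = 1 from rfl, map_one]
  let kb : kgrp D := ⟨D.el 10, mem_centralizer_singleton_iff.2 rfl⟩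
  have hψb : (join.comp (θ.prod α)) kb = b9 := by
    let xb : C' := ⟨⟨D.el 10, mem_centralizer_singleton_iff.2 rfl⟩, el_mem_cgrp D cL_facts.2.2.2.2.2.2.2.2⟩
    have hxb : code xb = 10 := hcode_eq xb 10 cL_facts.2.2.2.2.2.2.2.2 rfl
    show join (θ (xb : kgrp D), α (xb : kgrp D)) = b9
    rw [hθC, hv1 xb (hxb ▸ by decide +kernel), ← join_b]
    show join (th (code xb), 1) = _
    rw [hxb, th_b]
  -- the map
  refine ⟨join.comp (θ.prod α), ?_, fun p => ⟨?_, ?_⟩, ?_, fun x hx => ?_⟩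
  · rw [← MonoidHom.ker_eq_bot_iff, eq_bot_iff]
    intro k hk
    have h0 : (θ k, α k) = (1, 1) := join_injective (hk.trans (map_one join).symm)
    obtain ⟨x, hx⟩ := hdec k
    have hθx : θS x = 1 := by
      have := hθK _ hx
      have h0a : θ k = 1 := congrArg Prod.fst h0
      rw [map_mul, map_inv, hθC, h0a] at this
      simpa using this
    have hkK : k ∈ Kn := by
      have hxK : (x : kgrp D) ∈ Kn := T.agrp_le₂ ((hθS1 x).1 hθx)
      simpa using mul_mem hx hxK
    have h1 : αK ⟨(k : G), hkK⟩ = αK 1 := (congrArg Prod.snd h0).trans (map_one αK).symm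
    exact Subtype.ext (congrArg (fun z : K₂ => (z : G)) (hαinj h1))
  · rintro ⟨k, rfl⟩
    obtain ⟨x, hx⟩ := hdec k
    refine ⟨?_, ?_⟩
    · show Equiv.Perm.sign (join (θ k, α k)) = 1
      have h1 : θ k = θ (x : kgrp D) := by
        rw [← inv_mul_cancel_right k (x : kgrp D), map_mul, hθK _ hx, one_mul]
      have h2 : Equiv.Perm.sign (α k) = Equiv.Perm.sign (α (x : kgrp D)) := by
        rw [← inv_mul_cancel_right k (x : kgrp D), map_mul α, map_mul Equiv.Perm.sign, hαev _ hx, one_mul]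
      rw [sign_join, h1, h2, hsign, Int.units_mul_self]
    · have hb : kb * k = k * kb := Subtype.ext ((mem_kgrp D).1 k.2).symm
      have := congrArg (join.comp (θ.prod α)) hb
      rw [map_mul, map_mul, hψb] at this
      exact this.symm
  · rintro ⟨hp, hpb⟩
    obtain ⟨p₄, p₅, rfl, h4⟩ := exists_join hpb
    obtain ⟨c, hc, hce⟩ := th_surj p₄ h4
    let x : C' := ⟨⟨D.el c, cgrp_le D (el_mem_cgrp D hc)⟩, el_mem_cgrp D hc⟩
    have hθx : θ (x : kgrp D) = p₄ := by
      rw [hθC]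
      show th (code x) = p₄
      rw [hcode_eq x c hc rfl, hce]
    have hev : Equiv.Perm.sign (p₅ * (α (x : kgrp D))⁻¹) = 1 := by
      rw [sign_join, ← hθx, hsign, mul_comm] at hp
      rw [map_mul, map_inv, Int.units_inv_eq_self]
      exact hp
    obtain ⟨k, hk⟩ : p₅ * (α (x : kgrp D))⁻¹ ∈ αK.range := hrange ▸ Equiv.Perm.mem_alternatingGroup.2 hev
    refine ⟨ι k.2 * (x : kgrp D), ?_⟩
    show join (θ (ι k.2 * (x : kgrp D)), α (ι k.2 * (x : kgrp D))) = join (p₄, p₅)
    rw [map_mul, map_mul, hθK (ι k.2) k.2, one_mul, hθx, show α (ι k.2) = p₅ * (α (x : kgrp D))⁻¹ from hk,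
      inv_mul_cancel_right]
  · exact hψb
  · -- the classes of involutions
    have hP : ∃ P : Sylow 2 (kgrp D), (P : Subgroup (kgrp D)) = C' := by
      refine ⟨Sylow.ofCard C' ?_, rfl⟩
      rw [hCc, hK, show 480 = 2 ^ 5 * 15 by norm_num, Nat.factorization_mul (by norm_num) (by norm_num),
        Finsupp.add_apply, Nat.Prime.factorization_pow Nat.prime_two, Finsupp.single_eq_same,
        Nat.factorization_eq_zero_of_not_dvd (by norm_num : ¬ 2 ∣ 15)]
      norm_num
    obtain ⟨P, hP⟩ := hP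
    have hz : IsPGroup 2 (zpowers x) := IsPGroup.of_card (n := 1) (by rw [Nat.card_zpowers, hx, pow_one])
    obtain ⟨Q, hQ⟩ := hz.exists_le_sylow
    obtain ⟨g, hg⟩ := MulAction.exists_smul_eq (kgrp D) Q P
    have hy : g * x * g⁻¹ ∈ C' := by
      have : g * x * g⁻¹ ∈ (g • Q : Sylow 2 (kgrp D)) := ⟨x, hQ (mem_zpowers x), rfl⟩
      rw [hg] at this
      exact hP.le this
    set y : C' := ⟨_, hy⟩ with hyd
    have hyG : ((y : kgrp D) : G) = (g : G) * x * (g : G)⁻¹ := rfl
    have hcj : IsConj (x : G) ((y : kgrp D) : G) := isConj_iff.2 ⟨g, hyG.symm⟩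
    have hs : IsConj s (x : G) ↔ IsConj s ((y : kgrp D) : G) :=
      ⟨fun h => h.trans hcj, fun h => h.trans hcj.symm⟩
    have hψ : fix (join.comp (θ.prod α) x) = fix (θ (y : kgrp D)) + fix (α (y : kgrp D)) := by
      rw [← fix_join, ← fix_conj (join.comp (θ.prod α) g), ← map_inv, ← map_mul, ← map_mul]
      rfl
    have hy2 : (y : kgrp D) * y = 1 := by
      show g * x * g⁻¹ * (g * x * g⁻¹) = 1
      rw [conj_mul, ← pow_two, ← hx, pow_orderOf_eq_one, mul_one, mul_inv_cancel]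
    have hinv : isInv .A0 (code y) = true := by
      refine (D.orderOf_two (cL_lt (hcode y))).1 ?_
      rw [hcodee, hyG, Involutions.Basic.orderOf_conj, Subgroup.orderOf_coe, hx]
    have hy0 : code y ≠ 0 := fun h => by rw [h] at hinv; revert hinv; decide +kernel
    have hα2 : α (y : kgrp D) * α (y : kgrp D) = 1 := by rw [← map_mul, hy2, map_one]
    rw [hs, hψ, ← hcodee y, hθC]
    show IsConj s (D.el (code y)) ↔ fix (th (code y)) + _ = 1
    by_cases hF : code y ∈ fL
    · obtain ⟨v, hv, a, ha, hva, hsL, hv0, hv4, hva0⟩ := fL_split _ hF hy0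
      rw [conj_iff W hF, hsL]
      have hαy : α (y : kgrp D) = α (ι (T.agrp_le₂ (el_mem_agrp D ha))) := by
        have hvc := fL_cL (aL_facts.2.2.2.2.1 v hv)
        let xv : C' := ⟨⟨D.el v, cgrp_le D (el_mem_cgrp D hvc)⟩, el_mem_cgrp D hvc⟩
        have hv' : α (xv : kgrp D) = 1 := hv1 xv ((hcode_eq xv v hvc rfl).symm ▸ hv)
        have : (y : kgrp D) = (xv : kgrp D) * ι (T.agrp_le₂ (el_mem_agrp D ha)) := by
          refine Subtype.ext ?_
          show ((y : kgrp D) : G) = D.el v * D.el a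
          rw [← hcodee y, ← D.el_mul (cL_lt hvc) (aL_facts.2.1 a ha), hva]
        rw [this, map_mul, hv', one_mul]
      by_cases ha0 : a = 0
      · have h1 : α (y : kgrp D) = 1 := by
          rw [hαy, show ι (T.agrp_le₂ (el_mem_agrp D ha)) = 1 from
            Subtype.ext (by show D.el a = 1; rw [ha0, D.el_one]), map_one]
        rw [h1, show fix (1 : Equiv.Perm (Fin 5)) = 5 by decide +kernel]
        constructor
        · exact fun h => absurd ha0 h.2
        · omega
      · have hne : α (y : kgrp D) ≠ 1 := fun h => by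
          rw [hαy, ← map_one α] at h
          exact ha0 ((D.el_eq_one (aL_facts.2.1 a ha)).1
            (hαeq (T.agrp_le₂ (el_mem_agrp D ha)) (one_mem _) h))
        rw [(perm_five _ hα2 hne).1 (hinner y hF)]
        exact ⟨fun h => by omega, fun h => ⟨by omega, ha0⟩⟩
    · have h2 := th_outer_fix _ (hcode y) hF hinv
      have hne : α (y : kgrp D) ≠ 1 := fun h => by
        have := houter y hF
        rw [h, map_one] at this
        exact absurd this (by decide)
      rw [h2, (perm_five _ hα2 hne).2 (houter y hF)]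
      exact ⟨fun h => absurd h (outer_small W (hcode y) hinv hF).1, fun h => by omega⟩

end Series

end CentB

open CentB in
/-- The centraliser of an involution of the second class. -/
theorem Local.centB_cases {G : Type u} [Group G] [Finite G] {s : G} (D : Local Kind.A0 s)
    (h2 : IsConj s (D.el 2)) (h8 : IsConj s (D.el 8)) (h10 : ¬ IsConj s (D.el 10))
    (h96 : IsConj s (D.el 96)) (h97 : ¬ IsConj s (D.el 97))
    (hclass : ∀ g : G, orderOf g = 2 → IsConj s g ∨ IsConj (D.el 10) g)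
    (hN : Nat.card ↥(Subgroup.normalizer (D.fgrp : Set G) ⊓ Subgroup.centralizer ({D.el 10} : Set G)) = 96) :
    (Nat.card (Subgroup.centralizer ({D.el 10} : Set G)) = 96 ∧
      Subgroup.centralizer ({D.el 10} : Set G) ≤ Subgroup.normalizer (D.fgrp : Set G)) ∨
    (Nat.card (Subgroup.centralizer ({D.el 10} : Set G)) = 480 ∧
      ∃ ψ : ↥(Subgroup.centralizer ({D.el 10} : Set G)) →* Equiv.Perm (Fin 9), Function.Injective ψ ∧
        (∀ p, (∃ x, ψ x = p) ↔ (Equiv.Perm.sign p = 1 ∧ p * b9 = b9 * p)) ∧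
        ψ ⟨D.el 10, Subgroup.mem_centralizer_singleton_iff.2 rfl⟩ = b9 ∧
        ∀ x : ↥(Subgroup.centralizer ({D.el 10} : Set G)), orderOf x = 2 →
          (IsConj s (x : G) ↔ (Finset.univ.filter fun i => ψ x i = i).card = 1)) := by
  have W : Hyp D := ⟨h2, h8, h10, h96, h97, hN⟩
  obtain ⟨K₁, K₂, a, b, c, d, e, f, ⟨n, n₁, n₂, n₃, n₄⟩, g, h⟩ := exists_series W
  have T : Series D K₁ K₂ n := ⟨a, b, c, d, e, f, n₁, n₂, n₃, n₄, g, h⟩
  rcases T.dichotomy h10 with h12 | ⟨h60, hs⟩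
  · left
    have hK : kgrp D ≤ normalizer (D.fgrp : Set G) ⊓ centralizer ({D.el 10} : Set G) := by
      refine le_of_eq (eq_of_le_of_card_ge inf_le_right ?_).symm
      show Nat.card (kgrp D) ≤ Nat.card ↥(normalizer (D.fgrp : Set G) ⊓ centralizer ({D.el 10} : Set G))
      rw [hN, f]
      omega
    have hK' : kgrp D = normalizer (D.fgrp : Set G) ⊓ centralizer ({D.el 10} : Set G) := le_antisymm hK inf_le_right
    exact ⟨(congrArg (fun H : Subgroup G => Nat.card H) hK').trans hN, hK.trans inf_le_left⟩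
  · exact Or.inr ⟨f.trans (by rw [h60]), T.embed W h60⟩

end Cfsg.Agent.ExtraThirtyTwo
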