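import Cfsg.Agent.Lib.ExtraThirtyTwo.Planes

/-!
The generators and the table of a core with an involution outside the centre.
-/

set_option autoImplicit false

namespace Cfsg.Agent.ExtraThirtyTwo

open Subgroup

universe u

variable {G : Type u} [Group G] [Finite G]

variable {s : G} {Q : Subgroup G} {x t : G} {e : ℕ}

theorem conj_to_mul {g h h' : G} (e : g * h * g⁻¹ = h') : g * h = h' * g :=
  mul_inv_eq_iff_eq_mul.1 e

theorem cube_inv_table : (((List.range 32).all fun u => (List.range 32).all fun v =>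
    !(qmul u (qmul v (qmul v v)) == 0) || u == v) &&
    ((List.range 32).all fun v => qmul v (qmul v (qmul v v)) == 0) &&
    ((List.range 32).all fun w => w == 0 || w == 1 || [2, 4, 8, 16].any fun g =>
      qmul w g == qmul 1 (qmul g w))) = true := by
  decide +kernel

/-- A core in which `t` has one of the two actions on the planes gives a table. -/
theorem Gens.toLocal {k : Kind} (C : Core s Q x t e) (P : Gens k s) (hx : P.x = x) (ht : P.t = t)
    (h1 : P.a₁ ∈ Q) (h2 : P.b₁ ∈ Q) (h3 : P.a₂ ∈ Q) (h4 : P.b₂ ∈ Q) :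
    ∃ D : Local k s, ∀ q ∈ Q, ∃ v < 32, D.el v = q := by
  classical
  have hphQ : ∀ v, P.ph v ∈ Q := fun v => mul_mem (mul_mem (mul_mem (mul_mem
    (pow_mem C.sQ _) (pow_mem h1 _)) (pow_mem h2 _)) (pow_mem h3 _)) (pow_mem h4 _)
  have hfacts := cube_inv_table
  simp only [Bool.and_eq_true, List.all_eq_true, List.mem_range, Bool.or_eq_true, beq_iff_eq,
    Bool.not_eq_true', beq_eq_false_iff_ne, ne_eq, List.any_eq_true, List.mem_cons,
    List.not_mem_nil, or_false] at hfacts
  obtain ⟨⟨hinv, hcube⟩, hker⟩ := hfacts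
  have hker' : ∀ w < 32, P.ph w = 1 → w = 0 := by
    intro w hw h
    rcases hker w hw with (h0 | h0) | ⟨g, hg, hgw⟩
    · exact h0
    · rw [h0, P.gen_values.2.1] at h
      exact absurd h C.s_ne
    · exfalso
      have hg' : g < 32 := by omega
      have e1 := P.ph_mul hw hg'
      rw [hgw, P.ph_mul (by norm_num) (qmul_lt g w), P.ph_mul hg' hw, h, one_mul, mul_one,
        P.gen_values.2.1, mul_eq_right] at e1
      exact C.s_ne e1
  have hphinj : ∀ u < 32, ∀ v < 32, P.ph u = P.ph v → u = v := by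
    intro u hu v hv h
    have h0 : qmul u (qmul v (qmul v v)) = 0 := by
      refine hker' _ (qmul_lt _ _) ?_
      rw [P.ph_mul hu (qmul_lt _ _), h, ← P.ph_mul hv (qmul_lt _ _), hcube v hv, P.gen_values.1]
    exact (hinv u hu v hv).resolve_left fun hne => hne h0
  have hphsurj : ∀ q ∈ Q, ∃ v < 32, P.ph v = q := by
    intro q hq
    let f : Fin 32 → Q := fun v => ⟨P.ph v, hphQ v⟩
    have hf : Function.Bijective f :=
      (Nat.bijective_iff_injective_and_card f).2
        ⟨fun u v h => Fin.ext (hphinj u u.2 v v.2 (congrArg Subtype.val h)),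
          by rw [Nat.card_fin, C.card]⟩
    obtain ⟨v, hv⟩ := hf.2 ⟨q, hq⟩
    exact ⟨v, v.2, congrArg Subtype.val hv⟩
  have hmemL : ∀ g, P.el g ∈ centralizer ({s} : Set G) := fun g =>
    mul_mem (mul_mem (C.Qcent (hphQ _)) (pow_mem (hx ▸ C.x_mem) _)) (pow_mem (ht ▸ C.t_mem) _)
  have hsurj : ∀ g ∈ centralizer ({s} : Set G), ∃ c < 192, P.el c = g := by
    intro g hg
    obtain ⟨i, j, hi, hj, hq⟩ := C.span g hg
    obtain ⟨v, hv, hvq⟩ := hphsurj _ hq
    refine ⟨v + 32 * (i + 3 * j), by omega, ?_⟩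
    have hcode : vOf (v + 32 * (i + 3 * j)) = v ∧ iOf (v + 32 * (i + 3 * j)) = i ∧
        jOf (v + 32 * (i + 3 * j)) = j := by
      simp only [vOf, iOf, jOf]; omega
    rw [Gens.el, hcode.1, hcode.2.1, hcode.2.2, hvq, hx, ht, mul_assoc, inv_mul_cancel_right]
  have hinj : ∀ u < 192, ∀ v < 192, P.el u = P.el v → u = v := by
    let f : Fin 192 → centralizer ({s} : Set G) := fun c => ⟨P.el c, hmemL c⟩
    have hf : Function.Bijective f :=
      (Nat.bijective_iff_surjective_and_card f).2 ⟨fun g => by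
        obtain ⟨c, hc, hcg⟩ := hsurj g g.2
        exact ⟨⟨c, hc⟩, Subtype.ext hcg⟩, by rw [Nat.card_fin, C.card_cent]⟩
    intro u hu v hv h
    exact congrArg Fin.val (hf.1 (Subtype.ext h : f ⟨u, hu⟩ = f ⟨v, hv⟩))
  refine ⟨⟨P.el, fun a _ b _ => P.el_mul a b, hinj, fun g => ⟨hsurj g, ?_⟩, ?_⟩, fun q hq => ?_⟩
  · rintro ⟨c, -, rfl⟩
    exact hmemL c
  · simp [Gens.el, Gens.ph, vOf, iOf, jOf, dig]
  · obtain ⟨v, hv, hvq⟩ := hphsurj q hq
    refine ⟨v, hv, ?_⟩
    have hcode : vOf v = v ∧ iOf v = 0 ∧ jOf v = 0 := by simp only [vOf, iOf, jOf]; omega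
    show P.el v = q
    rw [Gens.el, hcode.1, hcode.2.1, hcode.2.2, hvq, pow_zero, pow_zero, mul_one, mul_one]

/-- The commutation rules of two planes. -/
theorem Core.build (C : Core s Q x t e) {k : Kind} {a c : G} (P : Plane s Q x a) (R : Plane s Q x c)
    (hca : c * a = a * c) (hbd : x * c * x⁻¹ * a = s * a * (x * c * x⁻¹)) (hk : k.sq = e)
    (hta : t * a * t⁻¹ = if k.swaps then c else a) (htc : t * c * t⁻¹ = if k.swaps then a else c) :
    ∃ D : Local k s, ∀ q ∈ Q, ∃ v < 32, D.el v = q := by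
  have hx := C.x_mem
  have ht := C.t_mem
  have hrev : ∀ g : G, t * (x * g * x⁻¹) * t⁻¹ =
      x * (x * (t * g * t⁻¹) * x⁻¹) * x⁻¹ := by
    intro g
    rw [C.t_conj_x g, C.t_conj_x (x * (x * g * x⁻¹) * x⁻¹), C.x_cube_conj]
  have hdb : x * c * x⁻¹ * (x * a * x⁻¹) = x * a * x⁻¹ * (x * c * x⁻¹) := comm_conj hca
  have hcb : c * (x * a * x⁻¹) = s * (x * a * x⁻¹) * c := by
    have h1 : Anti s (x * c * x⁻¹) a := hbd
    have h2 : Anti s a (c * (x * c * x⁻¹)) :=
      C.anti_mul_right P.mem R.mem hca.symm (C.anti_symm h1)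
    have h3 := C.anti_conj hx h2
    have e1 : x * (c * (x * c * x⁻¹)) * x⁻¹ = c := by
      rw [show x * (c * (x * c * x⁻¹)) * x⁻¹ = x * c * x⁻¹ * (x * (x * c * x⁻¹) * x⁻¹) by group, R.rot,
        R.comm, ← mul_assoc, C.b_sq R, one_mul]
    rw [e1] at h3
    exact C.anti_symm h3
  let B : Gens k s :=
  { a₁ := a, b₁ := x * a * x⁻¹, a₂ := c, b₂ := x * c * x⁻¹, x := x, t := t
    s_sq := C.s_sq
    a₁_sq := P.sq
    b₁_sq := C.b_sq P
    a₂_sq := R.sq
    b₂_sq := C.b_sq R
    s_a₁ := C.cen a P.mem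
    s_b₁ := C.cen _ (C.b_mem P)
    s_a₂ := C.cen c R.mem
    s_b₂ := C.cen _ (C.b_mem R)
    a₁_b₁ := P.comm
    a₂_b₂ := R.comm
    a₂_a₁ := hca
    a₂_b₁ := hcb
    b₂_a₁ := hbd
    b₂_b₁ := hdb
    x_cube := C.x_cube
    x_s := mem_centralizer_singleton_iff.1 hx
    x_a₁ := conj_to_mul rfl
    x_b₁ := conj_to_mul P.rot
    x_a₂ := conj_to_mul rfl
    x_b₂ := conj_to_mul R.rot
    t_sq := hk ▸ C.t_sq
    t_s := mem_centralizer_singleton_iff.1 ht
    t_x := C.t_x
    t_a₁ := conj_to_mul hta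
    t_a₂ := conj_to_mul htc
    t_b₁ := conj_to_mul (by
      rw [hrev, hta]; split
      · exact R.rot
      · exact P.rot)
    t_b₂ := conj_to_mul (by
      rw [hrev, htc]; split
      · exact P.rot
      · exact R.rot) }
  exact B.toLocal C rfl rfl P.mem (C.b_mem P) R.mem (C.b_mem R)

theorem Core.t_conj_x' (C : Core s Q x t e) (g : G) :
    t * (x * g * x⁻¹) * t⁻¹ = x * (x * (t * g * t⁻¹) * x⁻¹) * x⁻¹ := by
  rw [C.t_conj_x g, C.t_conj_x (x * (x * g * x⁻¹) * x⁻¹), C.x_cube_conj]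

/-- A plane whose image by `t` lies inside it has a rotation fixed by `t`. -/
theorem Core.exists_fixed (C : Core s Q x t e) {a : G} (P : Plane s Q x a)
    (h : t * a * t⁻¹ ∈ Subgroup.closure ({s, a, x * a * x⁻¹} : Set G)) :
    ∃ d, Plane s Q x d ∧ t * d * t⁻¹ = d ∧
      (d = a ∨ d = x * a * x⁻¹ ∨ d = a * (x * a * x⁻¹)) := by
  rcases C.plane_in_eight P (C.transfer P) h with h' | h' | h'
  · exact ⟨a, P, h', Or.inl rfl⟩
  · refine ⟨_, P.rot ▸ C.rotate (C.rotate P), ?_, Or.inr (Or.inr rfl)⟩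
    rw [← P.rot, ← C.t_conj_x, h']
  · refine ⟨_, C.rotate P, ?_, Or.inr (Or.inl rfl)⟩
    rw [C.t_conj_x', h', ← P.rot, C.x_cube_conj]

/-- Two planes are not centralised by each other. -/
theorem Core.pair_rules (C : Core s Q x t e) {a c : G} (P : Plane s Q x a) (R : Plane s Q x c)
    (hne : c ∉ Subgroup.closure ({s, a, x * a * x⁻¹} : Set G)) (hca : c * a = a * c) :
    x * c * x⁻¹ * a = s * a * (x * c * x⁻¹) := by
  rcases C.comm_or (C.b_mem R) P.mem with h | h
  · exfalso
    refine hne (C.mem_eight P R.mem hca ?_)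
    have hd : x * (x * c * x⁻¹) * x⁻¹ * a = a * (x * (x * c * x⁻¹) * x⁻¹) := by
      rw [R.rot, mul_assoc, h, ← mul_assoc, hca, mul_assoc]
    have := comm_conj (w := x) hd
    rwa [C.x_cube_conj] at this
  · exact h

/-- The four models. -/
theorem exists_local (C : Core s Q x t e) {q : G} (hq : q ∈ Q) (h2 : q * q = 1) (h1 : q ≠ 1)
    (hqs : q ≠ s) : ∃ (k : Kind) (D : Local k s), ∀ q ∈ Q, ∃ v < 32, D.el v = q := by
  have he := C.e_lt
  obtain ⟨a, -, P⟩ := C.plane_of_involution hq h2 h1 hqs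
  by_cases hsw : ∃ a, Plane s Q x a ∧
      t * a * t⁻¹ ∉ Subgroup.closure ({s, a, x * a * x⁻¹} : Set G)
  · clear P a
    obtain ⟨a₀, P₀, ha₀⟩ := hsw
    -- a rotation commuting with its image
    obtain ⟨a, P, hca, hne⟩ : ∃ a, Plane s Q x a ∧ t * a * t⁻¹ * a = a * (t * a * t⁻¹) ∧
        t * a * t⁻¹ ∉ Subgroup.closure ({s, a, x * a * x⁻¹} : Set G) := by
      set b := x * a₀ * x⁻¹
      set a' := t * a₀ * t⁻¹ with ha'
      have Pb := C.rotate P₀
      have Pc : Plane s Q x (a₀ * b) := P₀.rot ▸ C.rotate Pb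
      have Pa' := C.transfer P₀
      have ht := C.t_mem
      have hx := C.x_mem
      have hB : t * (a₀ * b) * t⁻¹ = x * a' * x⁻¹ := by rw [ha', C.t_conj_x, P₀.rot]
      have hC : t * b * t⁻¹ = x * (x * a' * x⁻¹) * x⁻¹ := C.t_conj_x' a₀
      have hClos : ∀ y : G, y ∈ Subgroup.closure ({s, a₀, b} : Set G) →
          x * y * x⁻¹ ∈ Subgroup.closure ({s, a₀, b} : Set G) := fun y hy => C.eight_stable P₀ hy
      have hsame : ∀ d, d ∈ Subgroup.closure ({s, a₀, b} : Set G) →
          Subgroup.closure ({s, d, x * d * x⁻¹} : Set G) ≤ Subgroup.closure ({s, a₀, b} : Set G) := by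
        intro d hd
        rw [closure_le]
        rintro y (rfl | rfl | rfl)
        · exact subset_closure (by simp)
        · exact hd
        · exact hClos d hd
      have hab : a₀ * b ∈ Subgroup.closure ({s, a₀, b} : Set G) :=
        mul_mem (subset_closure (by simp)) (subset_closure (by simp))
      rcases C.comm_or Pa'.mem P₀.mem with h | h
      · exact ⟨a₀, P₀, h, ha₀⟩
      rcases C.comm_or (C.transfer Pb).mem Pb.mem with h' | h'
      · refine ⟨b, Pb, h', fun hh => ha₀ ?_⟩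
        have := hClos _ (hsame b (subset_closure (by simp)) hh)
        rwa [hC, C.x_cube_conj] at this
      rcases C.comm_or (C.transfer Pc).mem Pc.mem with h'' | h''
      · refine ⟨_, Pc, h'', fun hh => ha₀ ?_⟩
        have := hClos _ (hClos _ (hsame _ hab hh))
        rwa [hB, C.x_cube_conj] at this
      exfalso
      set B := x * a' * x⁻¹ with hBdef
      have hq1 : a' ∈ Q := Pa'.mem
      have hrot' : x * B * x⁻¹ = a' * B := Pa'.rot
      rw [hC, hrot'] at h'
      rw [hB] at h''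
      have k1 : Anti s a₀ a' := C.anti_symm h
      have k2 : Anti s b B := C.anti_conj hx k1
      have k3 : Anti s (a₀ * b) (a' * B) := by
        rw [← hrot', ← P₀.rot]; exact C.anti_conj hx k2
      have k4 : a' * b = b * a' := by
        rcases C.comm_or hq1 (C.b_mem P₀) with h5 | h5
        · exact h5
        · exfalso
          exact C.not_comm_anti (C.anti_symm h') (C.comm_mul (C.b_mem P₀) hq1 (C.anti_symm h5) k2)
      have k5 : B * a₀ = a₀ * B := by
        rcases C.comm_or (C.b_mem Pa') P₀.mem with h5 | h5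
        · exact h5
        · exfalso
          exact C.not_comm_anti h'' (C.comm_mul (C.b_mem Pa') P₀.mem h5 (C.anti_symm k2))
      have k6 : Anti s (a' * B) a₀ :=
        C.anti_symm (C.anti_mul_left P₀.mem k1 k5.symm)
      have k7 : Anti s (a' * B) b :=
        C.anti_symm (C.anti_mul_right (C.b_mem P₀) hq1 k4.symm k2)
      exact C.not_comm_anti (C.anti_symm k3)
        (C.comm_mul (mul_mem hq1 (C.b_mem Pa')) P₀.mem k6 k7)
    have htt : t * (t * a * t⁻¹) * t⁻¹ = a := by
      have e1 : t * (t * a * t⁻¹) * t⁻¹ = t * t * a * (t * t)⁻¹ := by group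
      rw [e1, C.t_sq]
      interval_cases e <;> simp [← mul_assoc, C.cen a P.mem, mul_inv_cancel_right]
    have hbd := C.pair_rules P (C.transfer P) hne hca
    interval_cases e
    · exact ⟨.B0, C.build P (C.transfer P) hca hbd rfl (by simp [Kind.swaps]) (by simpa [Kind.swaps] using htt)⟩
    · exact ⟨.B1, C.build P (C.transfer P) hca hbd rfl (by simp [Kind.swaps]) (by simpa [Kind.swaps] using htt)⟩
  · push Not at hsw
    obtain ⟨d, R₀, -⟩ := C.exists_second P
    obtain ⟨a₁, P₁, hta, -⟩ := C.exists_fixed P (hsw a P)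
    obtain ⟨c₀, R₁, hc₀⟩ := C.exists_second P₁
    obtain ⟨c, R, htc, hcc⟩ := C.exists_fixed R₁ (hsw c₀ R₁)
    have hne : c ∉ Subgroup.closure ({s, a₁, x * a₁ * x⁻¹} : Set G) := by
      intro hh
      apply hc₀
      have hst := fun y hy => C.eight_stable P₁ (y := y) hy
      rcases hcc with rfl | rfl | rfl
      · exact hh
      · have := hst _ (hst _ hh)
        rwa [C.x_cube_conj] at this
      · have := hst _ hh
        rwa [← R₁.rot, C.x_cube_conj] at this
    have hca : c * a₁ = a₁ * c := by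
      rcases C.comm_or R.mem P₁.mem with h | h
      · exact h
      exfalso
      have ht := C.t_mem
      -- `t` sends `x c x⁻¹` to `c * (x c x⁻¹)`
      have htd : t * (x * c * x⁻¹) * t⁻¹ = c * (x * c * x⁻¹) := by
        rw [C.t_conj_x', htc, R.rot]
      rcases C.comm_or P₁.mem (C.b_mem R) with h' | h'
      · have := Core.comm_conj (w := t) h'
        rw [hta, htd] at this
        exact C.not_comm_anti (C.anti_mul_left P₁.mem (C.anti_symm h) h') this
      · have := C.anti_conj ht h'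
        rw [hta, htd] at this
        exact C.not_comm_anti this (C.comm_mul P₁.mem R.mem (C.anti_symm h) h')
    have hbd := C.pair_rules P₁ R hne hca
    interval_cases e
    · exact ⟨.A0, C.build P₁ R hca hbd rfl (by simp [Kind.swaps, hta]) (by simp [Kind.swaps, htc])⟩
    · exact ⟨.A1, C.build P₁ R hca hbd rfl (by simp [Kind.swaps, hta]) (by simp [Kind.swaps, htc])⟩

end Cfsg.Agent.ExtraThirtyTwo
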