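import Cfsg.Agent.Lib.ExtraThirtyTwo.CountNineData
import Cfsg.Agent.Lib.Involutions.OrderFormula

/-!
The order of a group with the fusion pattern of the alternating group of degree nine.
-/

set_option autoImplicit false
set_option maxRecDepth 20000

namespace Cfsg.Agent.ExtraThirtyTwo

open Subgroup

universe u

namespace CountNine

section General

variable {G : Type u} [Group G] [Finite G]

omit [Finite G] in
theorem conj_order {r g : G} (hr : orderOf r = 2) (hg : IsConj r g) : orderOf g = 2 := by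
  obtain ⟨k, rfl⟩ := isConj_iff.1 hg
  rw [Involutions.Basic.orderOf_conj, hr]

/-- A count of pairs over an involution is a count of their codes. -/
theorem pair_card {α : Type} [DecidableEq α] {x₁ x₂ x : G} (h₁ : orderOf x₁ = 2) (h₂ : orderOf x₂ = 2)
    (hx : orderOf x = 2) (hnc : ¬ IsConj x₁ x₂) (A B : List α) (i : α → G)
    (hA : A.Nodup) (hB : B.Nodup)
    (hiA : ∀ a ∈ A, IsConj x₁ (i a)) (hiB : ∀ b ∈ B, IsConj x₂ (i b))
    (hcA : ∀ g, IsConj x₁ g → g * x = x * g → ∃ a ∈ A, i a = g)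
    (hcB : ∀ g, IsConj x₂ g → g * x = x * g → ∃ b ∈ B, i b = g)
    (injA : ∀ a ∈ A, ∀ a' ∈ A, i a = i a' → a = a') (injB : ∀ b ∈ B, ∀ b' ∈ B, i b = i b' → b = b')
    (R : α → α → Bool) (hR : ∀ a ∈ A, ∀ b ∈ B, (R a b = true ↔ x ∈ zpowers (i a * i b))) :
    Nat.card {p : G × G // IsConj x₁ p.1 ∧ IsConj x₂ p.2 ∧ x ∈ zpowers (p.1 * p.2)} =
      (A.flatMap fun a => (B.filter (R a)).map fun b => (a, b)).length := by
  classical
  set L := A.flatMap fun a => (B.filter (R a)).map fun b => (a, b) with hLdef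
  have hL : ∀ q : α × α, q ∈ L ↔ q.1 ∈ A ∧ q.2 ∈ B ∧ R q.1 q.2 = true := by
    rintro ⟨a, b⟩
    simp only [hLdef, List.mem_flatMap, List.mem_map, List.mem_filter]
    constructor
    · rintro ⟨a', ha', b', ⟨hb', hr⟩, e⟩
      obtain ⟨rfl, rfl⟩ := Prod.mk.injEq .. ▸ e
      exact ⟨ha', hb', hr⟩
    · rintro ⟨h1, h2, h3⟩
      exact ⟨a, h1, b, ⟨h2, h3⟩, rfl⟩
  have hnd : L.Nodup := by
    refine List.nodup_flatMap.2 ⟨fun a _ => ?_, ?_⟩
    · exact (hB.filter _).map fun u v h => congrArg Prod.snd h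
    · refine hA.imp fun {a a'} hne q hqa hqb => ?_
      simp only [List.mem_map] at hqa hqb
      obtain ⟨y, -, rfl⟩ := hqa
      obtain ⟨y', -, e⟩ := hqb
      exact hne (congrArg Prod.fst e).symm
  rw [← List.toFinset_card_of_nodup hnd, ← Fintype.card_coe, ← Nat.card_eq_fintype_card]
  have hm : ∀ q : L.toFinset, q.1.1 ∈ A ∧ q.1.2 ∈ B ∧ R q.1.1 q.1.2 = true := fun q =>
    (hL q.1).1 (List.mem_toFinset.1 q.2)
  let F : L.toFinset → {p : G × G // IsConj x₁ p.1 ∧ IsConj x₂ p.2 ∧ x ∈ zpowers (p.1 * p.2)} :=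
    fun q => ⟨(i q.1.1, i q.1.2), hiA _ (hm q).1, hiB _ (hm q).2.1,
      (hR _ (hm q).1 _ (hm q).2.1).1 (hm q).2.2⟩
  refine (Nat.card_congr (Equiv.ofBijective F ⟨?_, ?_⟩)).symm
  · intro q q' h
    have e := congrArg Subtype.val h
    exact Subtype.ext (Prod.ext (injA _ (hm q).1 _ (hm q').1 (congrArg Prod.fst e))
      (injB _ (hm q).2.1 _ (hm q').2.1 (congrArg Prod.snd e)))
  · rintro ⟨⟨g, h⟩, hg, hh, hz⟩
    obtain ⟨-, hc1, hc2⟩ := Involutions.Basic.middle_involution (conj_order h₁ hg)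
      (conj_order h₂ hh) (Involutions.Basic.even_orderOf_mul_of_not_isConj (conj_order h₁ hg)
        (conj_order h₂ hh) fun e => hnc ((hg.trans e).trans hh.symm))
    rw [← Involutions.OrderFormula.eq_middle hx hz] at hc1 hc2
    obtain ⟨a, ha, rfl⟩ := hcA g hg hc1.eq.symm
    obtain ⟨b, hb, rfl⟩ := hcB h hh hc2.eq.symm
    exact ⟨⟨(a, b), List.mem_toFinset.2 ((hL (a, b)).2 ⟨ha, hb, (hR a ha b hb).2 hz⟩)⟩, rfl⟩

theorem mem_zpowers_bounded {w x : G} (hx : orderOf x = 2) {N M : ℕ} (hM : N / 2 < M)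
    (hN : ∃ k < N, w ^ (k + 1) = 1) : x ∈ zpowers w ↔ ∃ k < M, w ^ k = x := by
  constructor
  · intro h
    obtain ⟨k, hk, e⟩ := hN
    have hle : orderOf w ≤ k + 1 := orderOf_le_of_pow_eq_one (by omega) e
    exact ⟨orderOf w / 2, by omega, (Involutions.OrderFormula.eq_middle hx h).symm⟩
  · rintro ⟨k, -, rfl⟩
    exact pow_mem (mem_zpowers w) k

end General

theorem tab_injective : Function.Injective tab := fun p q h =>
  Equiv.ext fun i => Fin.ext (congrFun (List.ofFn_injective h) i)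

theorem getD_tab (p : Equiv.Perm (Fin 9)) (i : Fin 9) (d : ℕ) : (tab p).getD (i : ℕ) d = (p i : ℕ) := by
  rw [tab, List.getD_eq_getElem _ _ (by rw [List.length_ofFn]; exact i.2), List.getElem_ofFn]

theorem tab_mul (p q : Equiv.Perm (Fin 9)) : tab (p * q) = comp (tab p) (tab q) := by
  show List.ofFn _ = (List.ofFn _).map _
  rw [List.map_ofFn]
  exact congrArg List.ofFn (funext fun i => (getD_tab p (q i) 0).symm)

theorem tab_one : tab 1 = idT := by decide +kernel

theorem tab_b : tab (Equiv.swap 0 1 * Equiv.swap 2 3) = bT := by decide +kernel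

theorem fixT_tab (p : Equiv.Perm (Fin 9)) :
    fixT (tab p) = (Finset.univ.filter fun i => p i = i).card := by
  have key : ∀ i : Fin 9, (tab p).getD i 9 = (p i : ℕ) := fun i => getD_tab p i 9
  have : fixT (tab p) = ((List.range 9).toFinset.filter fun i => (tab p).getD i 9 == i).card := by
    rw [fixT, ← List.toFinset_filter, List.toFinset_card_of_nodup (List.nodup_range.filter _)]
  rw [this]
  refine (Finset.card_bij (fun (i : Fin 9) _ => (i : ℕ)) ?_ (fun a _ b _ h => Fin.ext h) ?_).symm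
  · intro i hi
    simp only [Finset.mem_filter, Finset.mem_univ, true_and] at hi
    simp only [Finset.mem_filter, List.mem_toFinset, List.mem_range, beq_iff_eq]
    exact ⟨i.2, by rw [key, hi]⟩
  · intro n hn
    simp only [Finset.mem_filter, List.mem_toFinset, List.mem_range, beq_iff_eq] at hn
    refine ⟨⟨n, hn.1⟩, ?_, rfl⟩
    simp only [Finset.mem_filter, Finset.mem_univ, true_and]
    exact Fin.ext ((key ⟨n, hn.1⟩).symm.trans hn.2)

theorem reach_iff (p : Equiv.Perm (Fin 9)) (t : List ℕ) : ∀ (n : ℕ) (a : Equiv.Perm (Fin 9)),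
    reach (tab p) t n (tab a) = true ↔ ∃ k < n, tab (p ^ k * a) = t
  | 0, a => by simp [reach]
  | n + 1, a => by
    rw [reach, Bool.or_eq_true, beq_iff_eq, ← tab_mul, reach_iff p t n]
    constructor
    · rintro (h | ⟨k, hk, h⟩)
      · exact ⟨0, by omega, by rwa [pow_zero, one_mul]⟩
      · exact ⟨k + 1, by omega, by rwa [pow_succ, mul_assoc]⟩
    · rintro ⟨k, hk, h⟩
      rcases k with _ | k
      · exact Or.inl (by rwa [pow_zero, one_mul] at h)
      · exact Or.inr ⟨k, by omega, by rwa [pow_succ, mul_assoc] at h⟩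

theorem cand_even {p : Equiv.Perm (Fin 9)} (hp : p ∈ cand) :
    p * p = 1 ∧ p * (Equiv.swap 0 1 * Equiv.swap 2 3) = (Equiv.swap 0 1 * Equiv.swap 2 3) * p ∧
      (Equiv.Perm.sign p = 1 ↔ fixT (tab p) ∈ [1, 5, 9]) := by
  simp only [cand, List.mem_flatMap, List.mem_map] at hp
  obtain ⟨q, hq, r, hr, rfl⟩ := hp
  obtain ⟨hc, hs⟩ := invFour_sq q hq
  refine ⟨?_, ?_, ?_⟩
  · rw [← map_mul, Prod.mk_mul_mk, hs, invFive_sq r hr]
    exact map_one _
  · show _ * b9 = b9 * _
    rw [← CentB.join_b, ← map_mul, ← map_mul, Prod.mk_mul_mk, Prod.mk_mul_mk, hc, mul_one, one_mul]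
  · have h := List.all_eq_true.1 (List.all_eq_true.1 even_iff q hq) r hr
    rw [CentB.sign_join]
    simp only [beq_iff_eq] at h
    rw [← List.contains_iff_mem, ← h, decide_eq_true_iff]

theorem mem_cand {p : Equiv.Perm (Fin 9)}
    (hc : p * (Equiv.swap 0 1 * Equiv.swap 2 3) = (Equiv.swap 0 1 * Equiv.swap 2 3) * p)
    (h2 : p * p = 1) : p ∈ cand := by
  obtain ⟨q, r, rfl, hq⟩ := CentB.exists_join hc
  rw [← map_mul, ← map_one CentB.join] at h2
  have h := CentB.join_injective h2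
  simp only [cand, List.mem_flatMap, List.mem_map]
  exact ⟨q, invFour_all q hq (congrArg Prod.fst h), r, invFive_all r (congrArg Prod.snd h), rfl⟩

theorem exists_tab {a : List ℕ} :
    (a ∈ sTabs ↔ ∃ p ∈ cand, tab p = a ∧ fixT (tab p) = 1) ∧
      (a ∈ bTabs ↔ ∃ p ∈ cand, tab p = a ∧ fixT (tab p) = 5) := by
  rw [← tabs_eq.1, ← tabs_eq.2]
  simp only [List.mem_filter, List.mem_map, beq_iff_eq]
  constructor <;> constructor
  all_goals first
    | (rintro ⟨⟨p, hp, rfl⟩, h⟩; exact ⟨p, hp, rfl, h⟩)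
    | (rintro ⟨p, hp, rfl, h⟩; exact ⟨⟨p, hp, rfl⟩, h⟩)

end CountNine

open CountNine in
theorem Local.card_nine {G : Type u} [Group G] [Finite G] {s : G} (D : Local Kind.A0 s)
    (h2 : IsConj s (D.el 2)) (h8 : IsConj s (D.el 8)) (h10 : ¬ IsConj s (D.el 10))
    (h96 : IsConj s (D.el 96)) (h97 : ¬ IsConj s (D.el 97))
    (hclass : ∀ g : G, orderOf g = 2 → IsConj s g ∨ IsConj (D.el 10) g)
    (hK : Nat.card (Subgroup.centralizer ({D.el 10} : Set G)) = 480)
    (ψ : ↥(Subgroup.centralizer ({D.el 10} : Set G)) →* Equiv.Perm (Fin 9))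
    (hinj : Function.Injective ψ)
    (hrange : ∀ p, (∃ x, ψ x = p) ↔ (Equiv.Perm.sign p = 1 ∧
      p * (Equiv.swap 0 1 * Equiv.swap 2 3) = (Equiv.swap 0 1 * Equiv.swap 2 3) * p))
    (hb : ψ ⟨D.el 10, Subgroup.mem_centralizer_singleton_iff.2 rfl⟩ =
      Equiv.swap 0 1 * Equiv.swap 2 3)
    (hs : ∀ x : ↥(Subgroup.centralizer ({D.el 10} : Set G)), orderOf x = 2 →
      (IsConj s (x : G) ↔ (Finset.univ.filter fun i => ψ x i = i).card = 1)) :
    Nat.card G = 181440 := by
  classical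
  have hb2 : orderOf (D.el 10) = 2 := (D.orderOf_two (by norm_num)).2 (by decide +kernel)
  obtain ⟨hsi, hbi, hsplit⟩ := codes_inv
  obtain ⟨hnd1, hnd2, hnd3, hnd4⟩ := lists_nodup
  -- the codes of the two classes
  have hlift : ∀ x, x < 192 → ∀ r, r < 192 → ((List.range 192).any fun g => mul .A0 g r == mul .A0 x g) = true →
      IsConj (D.el r) (D.el x) := by
    intro x hx r hr h
    simp only [List.any_eq_true, List.mem_range, beq_iff_eq] at h
    obtain ⟨g, hg, e⟩ := h
    exact isConj_iff.2 ⟨D.el g, D.conj_eq hg hr hx e⟩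
  have hsc : ∀ x ∈ sCodes, IsConj s (D.el x) := by
    intro x hx
    obtain ⟨r, hr, h⟩ := List.any_eq_true.1 (List.all_eq_true.1 sCodes_conj x hx)
    simp only [List.mem_cons, List.not_mem_nil, or_false] at hr
    have hc := hlift x (hsi x hx).1 r (by omega) h
    rcases hr with rfl | rfl | rfl | rfl
    · rwa [D.s_eq] at hc
    · exact h2.trans hc
    · exact h8.trans hc
    · exact h96.trans hc
  have hbc : ∀ x ∈ bCodes, IsConj (D.el 10) (D.el x) := by
    intro x hx
    obtain ⟨r, hr, h⟩ := List.any_eq_true.1 (List.all_eq_true.1 bCodes_conj x hx)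
    simp only [List.mem_cons, List.not_mem_nil, or_false] at hr
    have hc := hlift x (hbi x hx).1 r (by omega) h
    rcases hr with rfl | rfl
    · exact hc
    · exact ((hclass _ ((D.orderOf_two (by norm_num)).2 (by decide +kernel))).resolve_left h97).trans hc
  have hcode : ∀ g, orderOf g = 2 → g * s = s * g →
      ∃ x, D.el x = g ∧ (x ∈ sCodes ∨ x ∈ bCodes) := by
    intro g hg hc
    obtain ⟨x, hx, rfl⟩ := (D.mem' g).1 (mem_centralizer_singleton_iff.2 hc)
    have h := List.all_eq_true.1 hsplit x (List.mem_range.2 hx)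
    simp only [(D.orderOf_two hx).1 hg, Bool.not_true, Bool.false_or, Bool.or_eq_true,
      List.contains_iff_mem] at h
    exact ⟨x, rfl, h⟩
  have hexcl : ∀ g : G, IsConj s g → ¬ IsConj (D.el 10) g := fun g a b => h10 (a.trans b.symm)
  have hpow : ∀ m, m < 192 → ∀ k, powC k m < 192 ∧ D.el (powC k m) = D.el m ^ k := by
    intro m hm k
    induction k with
    | zero => exact ⟨by simp [powC], by rw [powC, D.el_one, pow_zero]⟩
    | succ k ih => exact ⟨mul_lt _ _ _, by rw [powC, D.el_mul ih.1 hm, ih.2, pow_succ]⟩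
  have e1 : Nat.card {p : G × G // IsConj s p.1 ∧ IsConj (D.el 10) p.2 ∧ s ∈ zpowers (p.1 * p.2)} =
      pairs₁.length := by
    refine pair_card D.orderOf_s hb2 D.orderOf_s h10 sCodes bCodes D.el hnd1 hnd2 hsc hbc ?_ ?_
      (fun a ha b hb' => D.el_inj (hsi a ha).1 (hsi b hb').1)
      (fun a ha b hb' => D.el_inj (hbi a ha).1 (hbi b hb').1)
      (fun x y => (List.range 7).any fun k => powC k (mul .A0 x y) == 1) ?_
    · intro g hg hc
      obtain ⟨x, rfl, h | h⟩ := hcode g (conj_order D.orderOf_s hg) hc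
      · exact ⟨x, h, rfl⟩
      · exact absurd (hbc x h) (hexcl _ hg)
    · intro g hg hc
      obtain ⟨x, rfl, h | h⟩ := hcode g (conj_order hb2 hg) hc
      · exact absurd hg (hexcl _ (hsc x h))
      · exact ⟨x, h, rfl⟩
    · intro a ha b hb'
      have hm := mul_lt Kind.A0 a b
      have hP := hpow _ hm
      rw [← D.el_mul (hsi a ha).1 (hbi b hb').1,
        mem_zpowers_bounded D.orderOf_s (M := 7) (N := 6) (by norm_num) ?_]
      · simp only [List.any_eq_true, List.mem_range, beq_iff_eq]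
        refine exists_congr fun k => and_congr_right fun _ => ⟨fun h => ?_, fun h => ?_⟩
        · rw [← (hP k).2, h, D.s_eq]
        · exact D.el_inj (hP k).1 (by norm_num) (((hP k).2.trans h).trans D.s_eq.symm)
      · have h := List.all_eq_true.1 (List.all_eq_true.1 bounded₁ a ha) b hb'
        simp only [List.any_eq_true, List.mem_range, beq_iff_eq] at h
        obtain ⟨k, hk, e⟩ := h
        exact ⟨k, hk, by rw [← (hP (k + 1)).2, e, D.el_one]⟩
  -- lists of images
  let i : List ℕ → G := fun a => if h : ∃ x : (Subgroup.centralizer ({D.el 10} : Set G)), tab (ψ x) = a then (h.choose : G) else 1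
  have hi : ∀ x : (Subgroup.centralizer ({D.el 10} : Set G)), i (tab (ψ x)) = x := by
    intro x
    have h : ∃ y : (Subgroup.centralizer ({D.el 10} : Set G)), tab (ψ y) = tab (ψ x) := ⟨x, rfl⟩
    show (if h' : _ then ((Exists.choose h' : (Subgroup.centralizer ({D.el 10} : Set G))) : G) else 1) = _
    rw [dif_pos h]
    exact congrArg Subtype.val (hinj (tab_injective h.choose_spec))
  have hfix : ∀ x : (Subgroup.centralizer ({D.el 10} : Set G)), fixT (tab (ψ x)) = (Finset.univ.filter fun j => ψ x j = j).card := fun x =>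
    fixT_tab _
  have hof : ∀ p ∈ cand, fixT (tab p) = 1 ∨ fixT (tab p) = 5 →
      ∃ x : (Subgroup.centralizer ({D.el 10} : Set G)), ψ x = p ∧ orderOf x = 2 := by
    intro p hp hf
    obtain ⟨hsq, hcomm, hev⟩ := cand_even hp
    obtain ⟨x, hx⟩ := (hrange p).2 ⟨hev.2 (by rcases hf with h | h <;> simp [h]), hcomm⟩
    refine ⟨x, hx, ?_⟩
    rw [← orderOf_injective ψ hinj x, hx, Involutions.Basic.orderOf_two_iff]
    refine ⟨hsq, fun h1 => ?_⟩
    rw [h1, tab_one] at hf
    revert hf; decide +kernel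
  have hof' : ∀ x : (Subgroup.centralizer ({D.el 10} : Set G)), orderOf x = 2 → ψ x ∈ cand ∧ (fixT (tab (ψ x)) = 1 ∨ fixT (tab (ψ x)) = 5) := by
    intro x hx
    obtain ⟨hsign, hcomm⟩ := (hrange (ψ x)).1 ⟨x, rfl⟩
    have hmem : ψ x ∈ cand := mem_cand hcomm (by
      rw [← map_mul, Involutions.Basic.inv_sq_one hx, map_one])
    refine ⟨hmem, ?_⟩
    have h := (cand_even hmem).2.2.1 hsign
    simp only [List.mem_cons, List.not_mem_nil, or_false] at h
    rcases h with h | h | h
    · exact Or.inl h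
    · exact Or.inr h
    · exfalso
      rw [fixT_tab] at h
      have hall : (Finset.univ.filter fun j => ψ x j = j) = Finset.univ :=
        Finset.eq_univ_of_card _ (by rw [h]; simp)
      refine Involutions.Basic.ne_one hx (hinj ?_)
      rw [map_one]
      exact Equiv.ext fun j => by simpa using (Finset.ext_iff.1 hall j).2 (Finset.mem_univ j)
  have hsmem : ∀ a ∈ sTabs, ∃ x : (Subgroup.centralizer ({D.el 10} : Set G)), tab (ψ x) = a ∧ IsConj s (x : G) := by
    intro a ha
    obtain ⟨p, hp, rfl, hf⟩ := exists_tab.1.1 ha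
    obtain ⟨x, rfl, hx⟩ := hof p hp (Or.inl hf)
    exact ⟨x, rfl, (hs x hx).2 (by rw [← hfix]; exact hf)⟩
  have hbmem : ∀ a ∈ bTabs, ∃ x : (Subgroup.centralizer ({D.el 10} : Set G)), tab (ψ x) = a ∧ IsConj (D.el 10) (x : G) := by
    intro a ha
    obtain ⟨p, hp, rfl, hf⟩ := exists_tab.2.1 ha
    obtain ⟨x, rfl, hx⟩ := hof p hp (Or.inr hf)
    refine ⟨x, rfl, (hclass x (by rw [Subgroup.orderOf_coe, hx])).resolve_left fun h => ?_⟩
    have := (hs x hx).1 h
    rw [← hfix] at this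
    omega
  have e2 : Nat.card {p : G × G // IsConj s p.1 ∧ IsConj (D.el 10) p.2 ∧ D.el 10 ∈ zpowers (p.1 * p.2)} =
      pairs₂.length := by
    refine pair_card D.orderOf_s hb2 hb2 h10 sTabs bTabs i hnd3 hnd4 ?_ ?_ ?_ ?_ ?_ ?_
      (fun x y => reach (comp x y) bT 7 idT) ?_
    · intro a ha
      obtain ⟨x, rfl, h⟩ := hsmem a ha
      rwa [hi]
    · intro a ha
      obtain ⟨x, rfl, h⟩ := hbmem a ha
      rwa [hi]
    · intro g hg hc
      have hgK : g ∈ (Subgroup.centralizer ({D.el 10} : Set G)) := Subgroup.mem_centralizer_singleton_iff.2 hc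
      have hx : orderOf (⟨g, hgK⟩ : (Subgroup.centralizer ({D.el 10} : Set G))) = 2 := by
        rw [← Subgroup.orderOf_coe]; exact conj_order D.orderOf_s hg
      refine ⟨_, exists_tab.1.2 ⟨_, (hof' _ hx).1, rfl, ?_⟩, hi ⟨g, hgK⟩⟩
      rw [hfix]
      exact (hs _ hx).1 hg
    · intro g hg hc
      have hgK : g ∈ (Subgroup.centralizer ({D.el 10} : Set G)) := Subgroup.mem_centralizer_singleton_iff.2 hc
      have hx : orderOf (⟨g, hgK⟩ : (Subgroup.centralizer ({D.el 10} : Set G))) = 2 := by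
        rw [← Subgroup.orderOf_coe]; exact conj_order hb2 hg
      refine ⟨_, exists_tab.2.2 ⟨_, (hof' _ hx).1, rfl, ?_⟩, hi ⟨g, hgK⟩⟩
      refine (hof' _ hx).2.resolve_left fun h => ?_
      rw [hfix] at h
      exact hexcl g ((hs _ hx).2 h) hg
    · intro a ha b hb' h
      obtain ⟨x, rfl, -⟩ := hsmem a ha
      obtain ⟨y, rfl, -⟩ := hsmem b hb'
      rw [hi, hi] at h
      rw [Subtype.ext h]
    · intro a ha b hb' h
      obtain ⟨x, rfl, -⟩ := hbmem a ha
      obtain ⟨y, rfl, -⟩ := hbmem b hb'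
      rw [hi, hi] at h
      rw [Subtype.ext h]
    · intro a ha b hb'
      obtain ⟨x, rfl, -⟩ := hsmem a ha
      obtain ⟨y, rfl, -⟩ := hbmem b hb'
      have hbd := List.all_eq_true.1 (List.all_eq_true.1 bounded₂ _ ha) _ hb'
      rw [← tab_mul, ← map_mul, reach_iff] at hbd
      rw [hi, hi, ← tab_mul, ← map_mul, ← tab_one, reach_iff, ← Subgroup.coe_mul,
        mem_zpowers_bounded hb2 (M := 7) (N := 12) (by norm_num) ?_]
      · constructor
        · rintro ⟨k, hk, e⟩
          rw [mul_one, ← map_pow, ← tab_b, ← hb] at e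
          refine ⟨k, by omega, ?_⟩
          have := congrArg Subtype.val (hinj (tab_injective e))
          rwa [SubmonoidClass.coe_pow] at this
        · rintro ⟨k, hk, e⟩
          refine ⟨k, hk, ?_⟩
          rw [mul_one, ← map_pow, ← tab_b, ← hb]
          exact congrArg (fun z => tab (ψ z)) (Subtype.ext (by rw [SubmonoidClass.coe_pow, e]))
      · obtain ⟨k, hk, e⟩ := hbd
        refine ⟨k, hk, ?_⟩
        rw [← map_pow, ← map_mul, ← pow_succ, ← tab_one, ← map_one ψ] at e
        have := congrArg Subtype.val (hinj (tab_injective e))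
        rwa [SubmonoidClass.coe_pow] at this
  have h := Involutions.OrderFormula.order_formula s (D.el 10) D.orderOf_s hb2 h10 hclass
  rw [hK, D.card_centralizer, e1, e2, count₁, count₂] at h
  exact h

end Cfsg.Agent.ExtraThirtyTwo
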