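import Cfsg.Agent.Lib.ExtraThirtyTwo.Sylow

/-!
Checks on the split model `A0`, the centraliser of a central involution in the alternating groups of
degree eight and nine.
-/

set_option autoImplicit false
set_option maxRecDepth 20000

namespace Cfsg.Agent.ExtraThirtyTwo

/-- The elementary abelian group of order sixteen. -/
def fL : List ℕ := [0, 1, 2, 3, 8, 9, 10, 11, 96, 97, 98, 99, 104, 105, 106, 107]

/-- The first elementary abelian group of order eight in the core. -/
def eL : List ℕ := [0, 1, 2, 3, 4, 5, 6, 7]

/-- Representatives of the classes of involutions. -/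
def reps : List ℕ := [1, 2, 8, 10, 96, 97]

/-- The representative of the class of an involution of the elementary group of order sixteen. -/
def repF : ℕ → ℕ
  | 1 => 1
  | 2 | 3 => 2
  | 8 | 9 => 8
  | 10 | 11 => 10
  | 96 | 98 | 104 | 107 => 96
  | _ => 97

theorem a0_classes : ((List.range 192).all fun x =>
    !isInv .A0 x || reps.any fun r => (List.range 192).any fun g => mul .A0 g r == mul .A0 x g) = true := by
  decide +kernel

theorem fL_facts : fL.Nodup ∧ (∀ x ∈ fL, x < 192) ∧ closedL .A0 fL = true ∧
    (fL.all fun x => fL.all fun y => comm .A0 x y) = true ∧
    (fL.all fun x => x == 0 || isInv .A0 x) = true ∧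
    (fL.all fun x => x == 0 || (classL .A0 (repF x)).contains x) = true := by
  refine ⟨by decide +kernel, by decide +kernel, by decide +kernel, by decide +kernel, by decide +kernel, ?_⟩
  decide +kernel

theorem fL_selfcent : ((List.range 192).all fun g => !(fL.all (comm .A0 g)) || fL.contains g) = true := by
  decide +kernel

theorem fL_norm : ((List.range 192).all fun g =>
    (fL.all fun f => fL.any fun f' => mul .A0 g f == mul .A0 f' g) == sylL.contains g) = true := by
  decide +kernel

theorem outside_cent : ((List.range 192).all fun x =>
    !isInv .A0 x || decide (x < 32) || ((List.range 192).any fun g =>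
      (centL .A0 x).all fun y => fL.any fun f => mul .A0 g f == mul .A0 y g)) = true := by
  decide +kernel

theorem inner_small : ((List.range 32).all fun x => (List.range 32).all fun y =>
    decide (x ≤ 1) || decide (y ≤ 1) || x == y || mul .A0 x 1 == y || !isInv .A0 x || !isInv .A0 y ||
      !comm .A0 x y ||
      decide (((List.range 32).filter fun z => comm .A0 x z && comm .A0 y z).length < 16)) = true := by
  decide +kernel

/-- The three classes of six involutions in the core. -/
theorem six_facts : ([2, 8, 10].all fun u => (centL .A0 u).length == 32 && candL .A0 u == [mul .A0 u 1] &&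
    (centL .A0 u).contains u && (sylL.any fun g => mul .A0 g u == mul .A0 (mul .A0 u 1) g) &&
    (fL.all fun f => (centL .A0 u).contains f) &&
    (centL .A0 u).all fun y => sylL.contains y) = true := by
  decide +kernel

/-- A conjugate of the elementary group of order sixteen inside the Sylow subgroup is the group itself. -/
theorem fL_in_syl : ((List.range 192).all fun g =>
    (fL.all fun f => sylL.any fun y => mul .A0 g f == mul .A0 y g) == sylL.contains g) = true := by
  decide +kernel

/-- The automorphism of the model with given images of the generators. -/
def autA0 (a b c d x₁ t₁ : ℕ) (g : ℕ) : ℕ :=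
  mul .A0 (mul .A0 (lin a b c d (vOf g))
    (if iOf g = 1 then x₁ else if iOf g = 2 then mul .A0 x₁ x₁ else 0)) (if jOf g = 1 then t₁ else 0)

/-- The automorphisms used to normalise the fusion. -/
def autP : ℕ → ℕ → ℕ
  | 0 => autA0 8 16 2 4 32 96
  | 1 => autA0 10 21 8 16 40 104
  | 2 => autA0 2 4 10 21 34 98
  | _ => autA0 2 4 8 16 32 97

/-- The generators of the model. -/
def gensL : List ℕ := [1, 2, 4, 8, 16, 32, 64, 96]

theorem autP_hom : ([0, 1, 2, 3].all fun i => gensL.all fun g => (List.range 192).all fun h =>
    autP i (mul .A0 g h) == mul .A0 (autP i g) (autP i h)) = true := by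
  decide +kernel

theorem gensL_gen : ((List.range 192).all fun g =>
    g == 0 || gensL.any fun a => (List.range g).any fun h => mul .A0 a h == g) = true := by
  decide +kernel

theorem autP_bij : ([0, 1, 2, 3].all fun i => ((List.range 192).all fun y =>
    (List.range 192).any fun x => autP i x == y) && autP i 1 == 1 &&
    ((List.range 192).all fun x => decide (autP i x < 192))) = true := by
  decide +kernel

end Cfsg.Agent.ExtraThirtyTwo
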