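import Cfsg.Agent.Lib.ExtraThirtyTwo.A0Facts

/-!
Fusion of involutions over the split model: the elementary group of order sixteen controls it, and
there are three possible patterns.
-/

set_option autoImplicit false

namespace Cfsg.Agent.ExtraThirtyTwo

open Subgroup

universe u

theorem fL_lt : ∀ x ∈ fL, x < 192 := fL_facts.2.1

/-- The classes after an automorphism. -/
def permR : ℕ → ℕ → ℕ
  | 0, 2 => 8 | 0, 8 => 2
  | 1, 2 => 10 | 1, 10 => 2
  | 2, 8 => 10 | 2, 10 => 8
  | 3, 96 => 97 | 3, 97 => 96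
  | _, r => r

theorem permR_facts : ([0, 1, 2, 3].all fun i => reps.all fun r =>
    (classL .A0 (permR i r)).contains (autP i r)) = true := by
  decide +kernel

/-- The number of conjugates of `s` in the elementary group for a given pattern of fusion. -/
def countF (b2 b8 b10 b96 b97 : Bool) : ℕ :=
  (fL.filter fun x => !(x == 0) && (repF x == 1 || (repF x == 2 && b2) || (repF x == 8 && b8) ||
    (repF x == 10 && b10) || (repF x == 96 && b96) || (repF x == 97 && b97))).length

theorem count_cases : ∀ b2 b8 b10 b96 b97 : Bool, b2 = true → 3 ∣ 64 * countF b2 b8 b10 b96 b97 →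
    ((!b8 && !b10 && !b96 && !b97) = true ∧ countF b2 b8 b10 b96 b97 = 3) ∨
    (((b8 && !b10) || (!b8 && b10)) && ((b96 && !b97) || (!b96 && b97))) = true ∨
    (b8 && b10 && b96 && b97) = true := by
  decide +kernel

variable {G : Type u} [Group G] [Finite G] {s : G}

namespace Local

variable (D : Local .A0 s)

include D in
theorem model_assoc {x y z : ℕ} (hx : x < 192) (hy : y < 192) (hz : z < 192) :
    mul .A0 (mul .A0 x y) z = mul .A0 x (mul .A0 y z) :=
  D.el_inj (mul_lt _ _ _) (mul_lt _ _ _) (by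
    rw [D.el_mul (mul_lt _ _ _) hz, D.el_mul hx hy, D.el_mul hx (mul_lt _ _ _), D.el_mul hy hz,
      mul_assoc])

include D in
theorem autP_mul {i : ℕ} (hi : i ∈ [0, 1, 2, 3]) : ∀ g < 192, ∀ h < 192,
    autP i (mul .A0 g h) = mul .A0 (autP i g) (autP i h) := by
  have hlt : ∀ x < 192, autP i x < 192 := fun x hx => by
    have h := List.all_eq_true.1 autP_bij i hi
    simp only [Bool.and_eq_true] at h
    exact of_decide_eq_true (List.all_eq_true.1 h.2 x (List.mem_range.2 hx))
  intro g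
  induction g using Nat.strong_induction_on with
  | _ g ih =>
    intro hg h hh
    have hgen := List.all_eq_true.1 gensL_gen g (List.mem_range.2 hg)
    simp only [Bool.or_eq_true, beq_iff_eq, List.any_eq_true, List.mem_range] at hgen
    rcases hgen with rfl | ⟨a, ha, g', hg', rfl⟩
    · have h0 : ∀ x < 192, mul .A0 0 x = x := fun x hx =>
        D.el_inj (mul_lt _ _ _) hx (by rw [D.el_mul (by norm_num) hx, D.el_one, one_mul])
      have e : autP i 0 = 0 := by
        simp only [List.mem_cons, List.not_mem_nil, or_false] at hi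
        rcases hi with rfl | rfl | rfl | rfl <;> decide +kernel
      rw [h0 h hh, e, h0 _ (hlt h hh)]
    · have ha' : a < 192 := by
        simp only [gensL, List.mem_cons, List.not_mem_nil, or_false] at ha
        omega
      have hg'' : g' < 192 := by omega
      have key : ∀ y < 192, autP i (mul .A0 a y) = mul .A0 (autP i a) (autP i y) := fun y hy => by
        simpa using List.all_eq_true.1 (List.all_eq_true.1 (List.all_eq_true.1 autP_hom i hi) a ha) y
          (List.mem_range.2 hy)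
      rw [D.model_assoc ha' hg'' hh, key _ (mul_lt _ _ _), ih g' hg' hg'' h hh, key g' hg'',
        ← D.model_assoc (hlt a ha') (hlt g' hg'') (hlt h hh)]

/-- The table moved by an automorphism. -/
noncomputable def autTable (i : ℕ) (hi : i ∈ [0, 1, 2, 3]) : Local .A0 s := by
  have h := List.all_eq_true.1 autP_bij i hi
  simp only [Bool.and_eq_true, beq_iff_eq] at h
  have hlt : ∀ x < 192, autP i x < 192 := fun x hx =>
    of_decide_eq_true (List.all_eq_true.1 h.2 x (List.mem_range.2 hx))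
  have hsurj : ∀ y < 192, ∃ x < 192, autP i x = y := fun y hy => by
    simpa using List.all_eq_true.1 h.1.1 y (List.mem_range.2 hy)
  refine D.reindex (autP i) hlt (D.autP_mul hi) hsurj ?_ h.1.2
  let f : Fin 192 → Fin 192 := fun x => ⟨autP i x, hlt x x.2⟩
  have hf : Function.Injective f := Finite.injective_iff_surjective.2 fun y => by
    obtain ⟨x, hx, e⟩ := hsurj y y.2
    exact ⟨⟨x, hx⟩, Fin.ext e⟩
  exact fun x hx y hy e => congrArg Fin.val (hf (Fin.ext e : f ⟨x, hx⟩ = f ⟨y, hy⟩))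

theorem el_autTable {i : ℕ} (hi : i ∈ [0, 1, 2, 3]) (x : ℕ) :
    (D.autTable i hi).el x = D.el (autP i x) := rfl

theorem isConj_autTable {i r : ℕ} (hi : i ∈ [0, 1, 2, 3]) (hr : r ∈ reps) :
    IsConj s ((D.autTable i hi).el r) ↔ IsConj s (D.el (permR i r)) := by
  have hlt : permR i r < 192 := by
    simp only [reps, List.mem_cons, List.not_mem_nil, or_false] at hi hr
    rcases hi with rfl | rfl | rfl | rfl <;> rcases hr with rfl | rfl | rfl | rfl | rfl | rfl <;>
      decide +kernel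
  have hc := D.isConj_of_mem_classL hlt
    (by simpa using List.all_eq_true.1 (List.all_eq_true.1 permR_facts i hi) r hr :
      autP i r ∈ classL .A0 (permR i r))
  rw [el_autTable]
  exact ⟨fun h => h.trans hc.symm, fun h => h.trans hc⟩

omit [Finite G] in
theorem exists_rep {x : ℕ} (hx : x < 192) (hi : isInv .A0 x = true) :
    ∃ r ∈ reps, IsConj (D.el r) (D.el x) := by
  have h := List.all_eq_true.1 a0_classes x (List.mem_range.2 hx)
  simp only [hi, Bool.not_true, Bool.false_or, List.any_eq_true, beq_iff_eq, List.mem_range] at h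
  obtain ⟨r, hr, g, hg, e⟩ := h
  refine ⟨r, hr, isConj_iff.2 ⟨D.el g, D.conj_eq hg ?_ hx e⟩⟩
  simp only [reps, List.mem_cons, List.not_mem_nil, or_false] at hr
  omega

/-- The elementary group of order sixteen. -/
def fgrp : Subgroup G := D.listSubgroup fL fL_lt (by decide +kernel) fL_facts.2.2.1

theorem card_fgrp : Nat.card D.fgrp = 16 :=
  (D.card_listSubgroup fL_facts.1).trans (by decide +kernel)

theorem el_mem_fgrp {x : ℕ} (hx : x ∈ fL) : D.el x ∈ D.fgrp := ⟨x, hx, rfl⟩

theorem s_mem_fgrp : s ∈ D.fgrp := ⟨1, by decide +kernel, D.s_eq⟩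

theorem fgrp_comm {a b : G} (ha : a ∈ D.fgrp) (hb : b ∈ D.fgrp) : a * b = b * a := by
  obtain ⟨x, hx, rfl⟩ := ha
  obtain ⟨y, hy, rfl⟩ := hb
  exact (D.commute_iff (fL_lt x hx) (fL_lt y hy)).2
    (List.all_eq_true.1 (List.all_eq_true.1 fL_facts.2.2.2.1 x hx) y hy)

theorem fgrp_sq {a : G} (ha : a ∈ D.fgrp) : a * a = 1 := by
  obtain ⟨x, hx, rfl⟩ := ha
  have h := List.all_eq_true.1 fL_facts.2.2.2.2.1 x hx
  simp only [Bool.or_eq_true, beq_iff_eq] at h
  rcases h with rfl | h
  · rw [D.el_one, mul_one]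
  · exact Involutions.Basic.inv_sq_one ((D.orderOf_two (fL_lt x hx)).2 h)

theorem fgrp_le : D.fgrp ≤ centralizer ({s} : Set G) := by
  rintro g ⟨x, hx, rfl⟩
  exact D.el_mem (fL_lt x hx)

theorem norm_of_map {n : G} (h : ∀ f ∈ D.fgrp, n * f * n⁻¹ ∈ D.fgrp) :
    n ∈ normalizer (D.fgrp : Set G) := by
  have he : D.fgrp.map (MulAut.conj n).toMonoidHom = D.fgrp := by
    refine eq_of_le_of_card_ge ?_ ?_
    · rintro _ ⟨f, hf, rfl⟩
      exact h f hf
    · rw [Nat.card_congr (D.fgrp.equivMapOfInjective (MulAut.conj n).toMonoidHom (MulAut.conj n).injective).toEquiv]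
  refine mem_normalizer_iff.2 fun f => ⟨h f, fun hf => ?_⟩
  rw [← he] at hf
  obtain ⟨f', hf', e⟩ := hf
  rw [MulEquiv.coe_toMonoidHom, MulAut.conj_apply] at e
  exact mul_left_cancel (mul_right_cancel e) ▸ hf'

/-- An elementary abelian subgroup of order sixteen of the centraliser of `s` is moved to the
standard one by the centraliser. -/
theorem move_into {w : G} (hw : ∀ f ∈ D.fgrp, w * f * w⁻¹ ∈ centralizer ({s} : Set G)) :
    ∃ g < 192, D.el g * w ∈ normalizer (D.fgrp : Set G) := by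
  classical
  have hcodes : ∀ f ∈ fL, ∃ c < 192, D.el c = w * D.el f * w⁻¹ := fun f hf =>
    (D.mem' _).1 (hw _ (D.el_mem_fgrp hf))
  choose! c hc hce using hcodes
  have hcinj : ∀ a ∈ fL, ∀ b ∈ fL, c a = c b → a = b := fun a ha b hb h =>
    D.el_inj (fL_lt a ha) (fL_lt b hb) (mul_left_cancel (mul_right_cancel
      ((hce a ha).symm.trans ((congrArg D.el h).trans (hce b hb)))))
  have hcomm : ∀ a ∈ fL, ∀ b ∈ fL, comm .A0 (c a) (c b) = true := fun a ha b hb => by
    rw [← D.commute_iff (hc a ha) (hc b hb), hce a ha, hce b hb]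
    exact (show Commute (D.el a) (D.el b) from
      D.fgrp_comm (D.el_mem_fgrp ha) (D.el_mem_fgrp hb)).map (MulAut.conj w)
  have hsq : ∀ a ∈ fL, c a = 0 ∨ isInv .A0 (c a) = true := fun a ha => by
    by_cases h : c a = 0
    · exact Or.inl h
    refine Or.inr ((D.orderOf_two (hc a ha)).1 (Involutions.Basic.orderOf_two_iff.2 ⟨?_, ?_⟩))
    · rw [hce a ha]
      calc w * D.el a * w⁻¹ * (w * D.el a * w⁻¹) = w * (D.el a * D.el a) * w⁻¹ := by group
        _ = 1 := by rw [D.fgrp_sq (D.el_mem_fgrp ha)]; group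
    · exact fun e => h ((D.el_eq_one (hc a ha)).1 e)
  -- one of the elements lies outside the core
  obtain ⟨a, ha, ha32⟩ : ∃ a ∈ fL, 32 ≤ c a := by
    by_contra hcon
    push Not at hcon
    set S : Finset ℕ := fL.toFinset.image c with hS
    have hScard : S.card = 16 := by
      rw [hS, Finset.card_image_of_injOn, List.toFinset_card_of_nodup fL_facts.1]
      · rfl
      · exact fun x hx y hy => hcinj x (List.mem_toFinset.1 hx) y (List.mem_toFinset.1 hy)
    have hpick : ∀ T : Finset ℕ, T.card < 16 → ∃ y ∈ S, y ∉ T := fun T hT => by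
      by_contra h
      push Not at h
      have := Finset.card_le_card (show S ⊆ T from h)
      omega
    obtain ⟨x, hx, hxT⟩ := hpick {0, 1} (by decide)
    obtain ⟨y, hy, hyT⟩ := hpick {0, 1, x, mul .A0 x 1} ((Finset.card_le_four).trans_lt (by norm_num))
    simp only [Finset.mem_insert, Finset.mem_singleton, not_or] at hxT hyT
    obtain ⟨a, ha, rfl⟩ := Finset.mem_image.1 hx
    obtain ⟨b, hb, rfl⟩ := Finset.mem_image.1 hy
    rw [List.mem_toFinset] at ha hb
    have h := List.all_eq_true.1 (List.all_eq_true.1 inner_small _ (List.mem_range.2 (hcon a ha))) _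
      (List.mem_range.2 (hcon b hb))
    have hsub : S ⊆ ((List.range 32).filter fun z => comm .A0 (c a) z && comm .A0 (c b) z).toFinset := by
      intro z hz
      obtain ⟨d, hd, rfl⟩ := Finset.mem_image.1 hz
      rw [List.mem_toFinset] at hd
      simp [hcon d hd, hcomm a ha d hd, hcomm b hb d hd]
    have h16 := Finset.card_le_card hsub
    rw [hScard, List.toFinset_card_of_nodup (List.nodup_range.filter _)] at h16
    have hne1 : ¬ c a ≤ 1 := by omega
    have hne2 : ¬ c b ≤ 1 := by omega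
    simp only [hne1, hne2, decide_false, (hsq a ha).resolve_left hxT.1,
      (hsq b hb).resolve_left hyT.1, hcomm a ha b hb, Bool.not_true, Bool.or_false, Bool.false_or,
      Bool.or_eq_true, beq_iff_eq, decide_eq_true_eq] at h
    rcases h with (h | h) | h
    · exact hyT.2.2.1 h.symm
    · exact hyT.2.2.2 h.symm
    · omega
  have h := List.all_eq_true.1 outside_cent _ (List.mem_range.2 (hc a ha))
  have hne32 : ¬ c a < 32 := by omega
  have hca0 : c a ≠ 0 := by omega
  simp only [(hsq a ha).resolve_left hca0, hne32, decide_false, Bool.not_true, Bool.false_or,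
    List.any_eq_true, List.mem_range, List.all_eq_true, beq_iff_eq] at h
  obtain ⟨g, hg, hall⟩ := h
  obtain ⟨g₁, hg₁, hge⟩ := (D.mem' _).1 (inv_mem (D.el_mem hg))
  refine ⟨g₁, hg₁, D.norm_of_map ?_⟩
  rintro f ⟨b, hb, rfl⟩
  obtain ⟨f', hf', e⟩ := hall (c b) (List.mem_filter.2 ⟨List.mem_range.2 (hc b hb), hcomm a ha b hb⟩)
  have := D.conj_eq hg (fL_lt f' hf') (hc b hb) e
  rw [hce b hb] at this
  refine ⟨f', hf', ?_⟩
  rw [hge]
  calc D.el f' = (D.el g)⁻¹ * (D.el g * D.el f' * (D.el g)⁻¹) * D.el g := by group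
    _ = (D.el g)⁻¹ * (w * D.el b * w⁻¹) * D.el g := by rw [this]
    _ = _ := by group

/-- The normaliser of the elementary group controls the fusion of `s` in it. -/
theorem exists_norm_map {f : ℕ} (hf : f ∈ fL) (hconj : IsConj s (D.el f)) :
    ∃ n ∈ normalizer (D.fgrp : Set G), n * s * n⁻¹ = D.el f := by
  obtain ⟨w, hw⟩ := isConj_iff.1 hconj
  obtain ⟨g, hg, hn⟩ := D.move_into (w := w⁻¹) fun a ha => by
    rw [mem_centralizer_singleton_iff]
    have hc : Commute a (D.el f) := D.fgrp_comm ha (D.el_mem_fgrp hf)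
    have := hc.map (MulAut.conj w⁻¹)
    rw [← hw] at this
    simpa [mul_assoc, inv_inv] using this.eq
  refine ⟨(D.el g * w⁻¹)⁻¹, inv_mem hn, ?_⟩
  simp only [mul_inv_rev, inv_inv, ← hw]
  have hgs : (D.el g)⁻¹ * s = s * (D.el g)⁻¹ :=
    ((show Commute (D.el g) s from mem_centralizer_singleton_iff.1 (D.el_mem hg)).inv_left).eq
  calc w * (D.el g)⁻¹ * s * (D.el g * w⁻¹) = w * ((D.el g)⁻¹ * s) * D.el g * w⁻¹ := by group
    _ = w * s * w⁻¹ := by rw [hgs]; group

/-- An element of the centraliser of `s` normalising the elementary group is in the Sylow subgroup. -/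
theorem norm_cent {g : ℕ} (hg : g < 192) :
    D.el g ∈ normalizer (D.fgrp : Set G) ↔ g ∈ sylL := by
  have hfact := List.all_eq_true.1 fL_norm g (List.mem_range.2 hg)
  rw [beq_iff_eq, Bool.eq_iff_iff, List.contains_iff_mem] at hfact
  rw [← hfact]
  simp only [List.all_eq_true, List.any_eq_true, beq_iff_eq]
  constructor
  · intro h f hf
    obtain ⟨f', hf', e⟩ := (mem_normalizer_iff.1 h _).1 (D.el_mem_fgrp hf)
    refine ⟨f', hf', D.el_inj (mul_lt _ _ _) (mul_lt _ _ _) ?_⟩
    rw [D.el_mul hg (fL_lt f hf), D.el_mul (fL_lt f' hf') hg, e, inv_mul_cancel_right]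
  · intro h
    refine D.norm_of_map ?_
    rintro _ ⟨f, hf, rfl⟩
    obtain ⟨f', hf', e⟩ := h f hf
    exact ⟨f', hf', (D.conj_eq hg (fL_lt f hf) (fL_lt f' hf') e).symm⟩

/-- A fused pair in the core gives an element permuting three involutions cyclically. -/
theorem exists_three {u : ℕ} (hu : u ∈ [2, 8, 10]) (hconj : IsConj s (D.el u)) :
    ∃ n ∈ normalizer (D.fgrp : Set G), n * s * n⁻¹ = D.el u ∧
      n * D.el u * n⁻¹ = D.el (mul .A0 u 1) ∧ n * D.el (mul .A0 u 1) * n⁻¹ = s := by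
  have hu192 : u < 192 := by simp at hu; omega
  have h := List.all_eq_true.1 six_facts u hu
  simp only [Bool.and_eq_true, beq_iff_eq, List.any_eq_true, List.all_eq_true,
    List.contains_iff_mem] at h
  obtain ⟨⟨⟨⟨⟨hlen, hcand⟩, -⟩, g₀, hg₀, hswap⟩, hfsub⟩, hsyl⟩ := h
  obtain ⟨τ, hτu, hτmap, w, hw, hτs⟩ := D.exists_swap hu192 hconj (m := 5) hlen (by norm_num)
  rw [hcand, List.mem_singleton] at hw
  subst hw
  have hmap : ∀ f ∈ D.fgrp, ∃ y ∈ centL .A0 u, τ * f * τ⁻¹ = D.el y := by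
    rintro _ ⟨f, hf, rfl⟩
    exact hτmap f (by simpa using hfsub f hf)
  obtain ⟨g, hg, hn⟩ := D.move_into (w := τ) fun f hf => by
    obtain ⟨y, hy, e⟩ := hmap f hf
    rw [e]; exact D.el_mem (sylL_sub y (by simpa using hsyl y hy))
  obtain ⟨g', hg', hge⟩ := (D.mem' _).1 (inv_mem (D.el_mem hg))
  have hg'syl : g' ∈ sylL := by
    have hfact := List.all_eq_true.1 fL_in_syl g' (List.mem_range.2 hg')
    rw [beq_iff_eq, Bool.eq_iff_iff, List.contains_iff_mem] at hfact
    rw [← hfact]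
    simp only [List.all_eq_true, List.any_eq_true, beq_iff_eq]
    intro f hf
    obtain ⟨y, hy, e⟩ := hmap _ ((mem_normalizer_iff.1 (inv_mem hn) _).1 (D.el_mem_fgrp hf))
    refine ⟨y, by simpa using hsyl y hy, D.el_inj (mul_lt _ _ _) (mul_lt _ _ _) ?_⟩
    have hy192 : y < 192 := sylL_sub y (by simpa using hsyl y hy)
    rw [D.el_mul hg' (fL_lt f hf), D.el_mul hy192 hg', ← e, hge]
    group
  have hτN : τ ∈ normalizer (D.fgrp : Set G) := by
    have := mul_mem ((D.norm_cent hg').2 hg'syl) hn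
    rwa [hge, inv_mul_cancel_left] at this
  have hg₀' : g₀ < 192 := sylL_sub g₀ hg₀
  have hus : D.el (mul .A0 u 1) = D.el u * s := by
    rw [D.el_mul hu192 (by norm_num), D.s_eq]
  have hc0 : D.el g₀ * D.el u * (D.el g₀)⁻¹ = D.el (mul .A0 u 1) :=
    D.conj_eq hg₀' hu192 (mul_lt _ _ _) hswap
  have hg₀s : D.el g₀ * s * (D.el g₀)⁻¹ = s := by
    rw [mem_centralizer_singleton_iff.1 (D.el_mem hg₀'), mul_inv_cancel_right]
  have hss := Involutions.Basic.inv_sq_one D.orderOf_s
  have hc1 : D.el g₀ * D.el (mul .A0 u 1) * (D.el g₀)⁻¹ = D.el u := by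
    calc D.el g₀ * D.el (mul .A0 u 1) * (D.el g₀)⁻¹
        = (D.el g₀ * D.el u * (D.el g₀)⁻¹) * (D.el g₀ * s * (D.el g₀)⁻¹) := by rw [hus]; group
      _ = D.el u := by rw [hc0, hg₀s, hus, mul_assoc, hss, mul_one]
  refine ⟨D.el g₀ * τ, mul_mem ((D.norm_cent hg₀').2 hg₀) hτN, ?_, ?_, ?_⟩
  · calc D.el g₀ * τ * s * (D.el g₀ * τ)⁻¹ = D.el g₀ * (τ * s * τ⁻¹) * (D.el g₀)⁻¹ := by group
      _ = D.el u := by rw [hτs, hc1]
  · calc D.el g₀ * τ * D.el u * (D.el g₀ * τ)⁻¹ = D.el g₀ * (τ * D.el u * τ⁻¹) * (D.el g₀)⁻¹ := by group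
      _ = _ := by rw [hτu, hc0]
  · have h2 : τ * D.el (mul .A0 u 1) * τ⁻¹ = s := by
      calc τ * D.el (mul .A0 u 1) * τ⁻¹ = (τ * D.el u * τ⁻¹) * (τ * s * τ⁻¹) := by rw [hus]; group
        _ = s := by
          rw [hτu, hτs, hus, ← mul_assoc, Involutions.Basic.inv_sq_one (show orderOf (D.el u) = 2 from
            (isConj_iff.1 hconj).elim fun c hc => hc ▸ (Involutions.Basic.orderOf_conj c s).trans D.orderOf_s),
            one_mul]
    calc D.el g₀ * τ * D.el (mul .A0 u 1) * (D.el g₀ * τ)⁻¹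
        = D.el g₀ * (τ * D.el (mul .A0 u 1) * τ⁻¹) * (D.el g₀)⁻¹ := by group
      _ = s := by rw [h2, hg₀s]

theorem three_dvd_norm {u : ℕ} (hu : u ∈ [2, 8, 10]) (hconj : IsConj s (D.el u)) :
    3 ∣ Nat.card (normalizer (D.fgrp : Set G)) := by
  obtain ⟨n, hn, h1, h2, h3⟩ := D.exists_three hu hconj
  by_contra hd
  have hcop : Nat.Coprime 3 (orderOf n) := by
    refine (Nat.Prime.coprime_iff_not_dvd Nat.prime_three).2 fun h => hd ?_
    exact h.trans (Subgroup.orderOf_dvd_natCard _ hn)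
  obtain ⟨m, hm⟩ := exists_pow_eq_self_of_coprime hcop
  have hc : Commute (n ^ 3) s := by
    refine mul_inv_eq_iff_eq_mul.1 ?_
    calc n ^ 3 * s * (n ^ 3)⁻¹ = n * (n * (n * s * n⁻¹) * n⁻¹) * n⁻¹ := by rw [pow_three]; group
      _ = s := by rw [h1, h2, h3]
  have hns : Commute n s := hm ▸ hc.pow_left m
  have hu1 : u ≠ 1 := by simp at hu; omega
  rw [hns.eq, mul_inv_cancel_right] at h1
  exact hu1 (D.el_inj (by simp at hu; omega) (by norm_num) (h1.symm.trans D.s_eq.symm))

theorem isConj_repF {x : ℕ} (hx : x ∈ fL) (hx0 : x ≠ 0) :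
    IsConj (D.el (repF x)) (D.el x) := by
  have h := List.all_eq_true.1 fL_facts.2.2.2.2.2 x hx
  simp only [Bool.or_eq_true, beq_iff_eq, List.contains_iff_mem, hx0, false_or] at h
  refine D.isConj_of_mem_classL ?_ h
  simp only [fL, List.mem_cons, List.not_mem_nil, or_false] at hx
  rcases hx with rfl | rfl | rfl | rfl | rfl | rfl | rfl | rfl | rfl | rfl | rfl | rfl | rfl | rfl | rfl | rfl <;>
    simp [repF]

open scoped Classical in
theorem card_norm : Nat.card (normalizer (D.fgrp : Set G)) =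
    64 * (fL.filter fun x => decide (IsConj s (D.el x))).length := by
  set N := normalizer (D.fgrp : Set G) with hN
  letI : MulAction N G := MulAction.compHom G (ConjAct.toConjAct.toMonoidHom.comp N.subtype)
  have hsmul : ∀ (n : N) (g : G), n • g = (n : G) * g * (n : G)⁻¹ := fun _ _ => rfl
  have horb : (MulAction.orbit N s) =
      D.el '' ((fL.filter fun x => decide (IsConj s (D.el x))).toFinset : Set ℕ) := by
    ext g
    simp only [MulAction.mem_orbit_iff, hsmul, Set.mem_image, Finset.mem_coe, List.mem_toFinset,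
      List.mem_filter, decide_eq_true_eq]
    constructor
    · rintro ⟨⟨n, hn⟩, rfl⟩
      obtain ⟨x, hx, e⟩ := (mem_normalizer_iff.1 hn _).1 D.s_mem_fgrp
      exact ⟨x, ⟨hx, e ▸ isConj_iff.2 ⟨n, rfl⟩⟩, e⟩
    · rintro ⟨x, ⟨hx, hc⟩, rfl⟩
      obtain ⟨n, hn, e⟩ := D.exists_norm_map hx hc
      exact ⟨⟨n, hn⟩, e⟩
  have hcard : Nat.card (MulAction.orbit N s) =
      (fL.filter fun x => decide (IsConj s (D.el x))).length := by
    rw [horb, Nat.card_coe_set_eq, Set.InjOn.ncard_image, Set.ncard_coe_finset,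
      List.toFinset_card_of_nodup (fL_facts.1.filter _)]
    intro x hx y hy h
    simp only [Finset.mem_coe, List.mem_toFinset, List.mem_filter] at hx hy
    exact D.el_inj (fL_lt x hx.1) (fL_lt y hy.1) h
  have hstab : Nat.card (MulAction.stabilizer N s) = 64 := by
    rw [← D.card_sylowGroup]
    refine Nat.card_congr (Equiv.ofBijective
      (fun n : MulAction.stabilizer N s => (⟨((n : N) : G), ?_⟩ : D.sylowGroup)) ⟨?_, ?_⟩)
    · have h : ((n : N) : G) * s * ((n : N) : G)⁻¹ = s := MulAction.mem_stabilizer_iff.1 n.2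
      obtain ⟨c, hc, e⟩ := (D.mem' _).1 (mem_centralizer_singleton_iff.2 (mul_inv_eq_iff_eq_mul.1 h))
      exact ⟨c, (D.norm_cent hc).1 (e ▸ (n : N).2), e⟩
    · intro a b h
      exact Subtype.ext (Subtype.ext (congrArg (fun z : D.sylowGroup => (z : G)) h))
    · rintro ⟨g, c, hc, rfl⟩
      refine ⟨⟨⟨D.el c, (D.norm_cent (sylL_sub c hc)).2 hc⟩, MulAction.mem_stabilizer_iff.2 ?_⟩, rfl⟩
      rw [hsmul, mem_centralizer_singleton_iff.1 (D.el_mem (sylL_sub c hc)), mul_inv_cancel_right]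
  rw [← (MulAction.stabilizer N s).card_mul_index, hstab, MulAction.index_stabilizer,
    ← Nat.card_coe_set_eq, hcard]

open scoped Classical in
theorem card_norm_count : Nat.card (normalizer (D.fgrp : Set G)) =
    64 * countF (decide (IsConj s (D.el 2))) (decide (IsConj s (D.el 8))) (decide (IsConj s (D.el 10)))
      (decide (IsConj s (D.el 96))) (decide (IsConj s (D.el 97))) := by
  rw [D.card_norm, countF]
  refine congrArg (64 * ·) (congrArg List.length (List.filter_congr fun x hx => ?_))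
  by_cases hx0 : x = 0
  · subst hx0
    have : ¬ IsConj s (D.el 0) := fun h => by
      rw [D.el_one] at h
      exact Involutions.Basic.ne_one D.orderOf_s (isConj_one_left.1 h)
    rw [decide_eq_false this]
    rfl
  · have hc := D.isConj_repF hx hx0
    have hiff : IsConj s (D.el x) ↔ IsConj s (D.el (repF x)) :=
      ⟨fun h => h.trans hc.symm, fun h => h.trans hc⟩
    have h1 : IsConj s (D.el 1) := by rw [D.s_eq]
    simp only [fL, List.mem_cons, List.not_mem_nil, or_false] at hx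
    rcases hx with rfl | rfl | rfl | rfl | rfl | rfl | rfl | rfl | rfl | rfl | rfl | rfl | rfl | rfl | rfl | rfl <;>
      simp_all [repF]

end Local

open Local in
/-- The patterns of fusion. -/
theorem fusion_patterns (D : Local .A0 s) {u : ℕ} (hu : u ∈ [2, 8, 10]) (hconj : IsConj s (D.el u)) :
    ∃ D' : Local .A0 s, IsConj s (D'.el 2) ∧
      ((¬ IsConj s (D'.el 8) ∧ ¬ IsConj s (D'.el 10) ∧ ¬ IsConj s (D'.el 96) ∧ ¬ IsConj s (D'.el 97)) ∨
       (IsConj s (D'.el 8) ∧ ¬ IsConj s (D'.el 10) ∧ IsConj s (D'.el 96) ∧ ¬ IsConj s (D'.el 97)) ∨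
       (IsConj s (D'.el 8) ∧ IsConj s (D'.el 10) ∧ IsConj s (D'.el 96) ∧ IsConj s (D'.el 97))) := by
  classical
  obtain ⟨D₁, h2⟩ : ∃ D₁ : Local .A0 s, IsConj s (D₁.el 2) := by
    simp only [List.mem_cons, List.not_mem_nil, or_false] at hu
    rcases hu with rfl | rfl | rfl
    · exact ⟨D, hconj⟩
    · exact ⟨D.autTable 0 (by simp), (D.isConj_autTable (by simp) (by simp [reps])).2 hconj⟩
    · exact ⟨D.autTable 1 (by simp), (D.isConj_autTable (by simp) (by simp [reps])).2 hconj⟩
  have hd : 3 ∣ 64 * countF (decide (IsConj s (D₁.el 2))) (decide (IsConj s (D₁.el 8)))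
      (decide (IsConj s (D₁.el 10))) (decide (IsConj s (D₁.el 96))) (decide (IsConj s (D₁.el 97))) :=
    D₁.card_norm_count ▸ D₁.three_dvd_norm (by simp) h2
  rcases count_cases _ _ _ _ _ (decide_eq_true h2) hd with ⟨h, -⟩ | h | h
  · refine ⟨D₁, h2, Or.inl ?_⟩
    simpa [and_assoc] using h
  · simp only [Bool.and_eq_true, Bool.or_eq_true, Bool.not_eq_true', decide_eq_true_eq,
      decide_eq_false_iff_not] at h
    have tr : ∀ i (hi : i ∈ [0, 1, 2, 3]) (E : Local .A0 s) r, r ∈ reps →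
        (IsConj s ((E.autTable i hi).el r) ↔ IsConj s (E.el (permR i r))) :=
      fun i hi E r hr => E.isConj_autTable hi hr
    obtain ⟨D₂, k2, k8, k10, k96, k97⟩ : ∃ D₂ : Local .A0 s, IsConj s (D₂.el 2) ∧
        IsConj s (D₂.el 8) ∧ ¬ IsConj s (D₂.el 10) ∧
        (IsConj s (D₂.el 96) ↔ IsConj s (D₁.el 96)) ∧ (IsConj s (D₂.el 97) ↔ IsConj s (D₁.el 97)) := by
      rcases h.1 with ⟨a, b⟩ | ⟨a, b⟩
      · exact ⟨D₁, h2, a, b, Iff.rfl, Iff.rfl⟩
      · refine ⟨D₁.autTable 2 (by simp), (tr 2 (by simp) D₁ 2 (by simp [reps])).2 h2,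
          (tr 2 (by simp) D₁ 8 (by simp [reps])).2 b, fun hh => a ((tr 2 (by simp) D₁ 10 (by simp [reps])).1 hh),
          tr 2 (by simp) D₁ 96 (by simp [reps]), tr 2 (by simp) D₁ 97 (by simp [reps])⟩
    rcases h.2 with ⟨a, b⟩ | ⟨a, b⟩
    · exact ⟨D₂, k2, Or.inr (Or.inl ⟨k8, k10, k96.2 a, fun hh => b (k97.1 hh)⟩)⟩
    · exact ⟨D₂.autTable 3 (by simp), (tr 3 (by simp) D₂ 2 (by simp [reps])).2 k2,
        Or.inr (Or.inl ⟨(tr 3 (by simp) D₂ 8 (by simp [reps])).2 k8,
          fun hh => k10 ((tr 3 (by simp) D₂ 10 (by simp [reps])).1 hh),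
          (tr 3 (by simp) D₂ 96 (by simp [reps])).2 (k97.2 b),
          fun hh => a (k96.1 ((tr 3 (by simp) D₂ 97 (by simp [reps])).1 hh))⟩)⟩
  · refine ⟨D₁, h2, Or.inr (Or.inr ?_)⟩
    simpa [and_assoc] using h

end Cfsg.Agent.ExtraThirtyTwo
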