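import Cfsg.Agent.Lib.ExtraThirtyTwo.A0Classes

/-!
A subgroup containing the centraliser of the central involution and the normaliser of the elementary
group of order sixteen has at most two classes of involutions in the pattern of degree eight.
-/

set_option autoImplicit false

namespace Cfsg.Agent.ExtraThirtyTwo

open Subgroup

universe u

variable {G : Type u} [Group G] [Finite G] {s : G}

theorem Local.classes_in (D : Local Kind.A0 s) (h2 : IsConj s (D.el 2)) (h8 : IsConj s (D.el 8))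
    (h10 : ¬ IsConj s (D.el 10)) (h96 : IsConj s (D.el 96)) (h97 : ¬ IsConj s (D.el 97))
    (H : Subgroup G) (hCs : centralizer ({s} : Set G) ≤ H) (hN : normalizer (D.fgrp : Set G) ≤ H) :
    ∀ j ∈ H, orderOf j = 2 → ∃ h ∈ H, h * j * h⁻¹ = s ∨ h * j * h⁻¹ = D.el 10 := by
  classical
  have : Fact (Nat.Prime 2) := ⟨Nat.prime_two⟩
  have hTH : (D.sylow : Subgroup G) ≤ H := by
    rw [D.coe_sylow]
    rintro _ ⟨x, hx, rfl⟩
    exact hCs (D.el_mem (sylL_sub x hx))
  intro j hj hj2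
  -- into the Sylow subgroup
  have hz : IsPGroup 2 (Subgroup.zpowers (⟨j, hj⟩ : H)) :=
    IsPGroup.of_card (n := 1) (by rw [Nat.card_zpowers, ← Subgroup.orderOf_coe]; simpa using hj2)
  obtain ⟨P, hP⟩ := hz.exists_le_sylow
  obtain ⟨c, hc⟩ := MulAction.exists_smul_eq H P (D.sylow.subtype hTH)
  have hmem : (c : G) * j * (c : G)⁻¹ ∈ (D.sylow : Subgroup G) := by
    have : c * ⟨j, hj⟩ * c⁻¹ ∈ ((D.sylow.subtype hTH : Sylow 2 H) : Subgroup H) := by
      rw [← hc]
      exact ⟨_, hP (Subgroup.mem_zpowers _), rfl⟩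
    simpa [Subgroup.mem_subgroupOf] using this
  rw [D.coe_sylow] at hmem
  obtain ⟨x, hx, hxe⟩ := hmem
  have hx192 : x < 192 := sylL_sub x hx
  have hinv : isInv .A0 x = true := (D.orderOf_two hx192).1 (by
    rw [hxe, Involutions.Basic.orderOf_conj, hj2])
  have ht := List.all_eq_true.1 a0_classes x (List.mem_range.2 hx192)
  simp only [hinv, Bool.not_true, Bool.false_or, List.any_eq_true, beq_iff_eq, List.mem_range] at ht
  obtain ⟨r, hr, g, hg, e⟩ := ht
  have hr192 : r < 192 := by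
    simp only [reps, List.mem_cons, List.not_mem_nil, or_false] at hr
    omega
  have hge := D.conj_eq hg hr192 hx192 e
  obtain ⟨k, hk, hkr⟩ : ∃ k ∈ H, k * D.el r * k⁻¹ = s ∨ k * D.el r * k⁻¹ = D.el 10 := by
    have hto : ∀ f ∈ fL, IsConj s (D.el f) → ∃ k ∈ H, k * D.el f * k⁻¹ = s ∨ k * D.el f * k⁻¹ = D.el 10 := by
      intro f hf hconj
      obtain ⟨n, hn, e⟩ := D.exists_norm_map hf hconj
      exact ⟨n⁻¹, inv_mem (hN hn), Or.inl (by rw [← e]; group)⟩
    have hfl : r ∈ fL := (by decide +kernel : ∀ r ∈ reps, r ∈ fL) r hr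
    simp only [reps, List.mem_cons, List.not_mem_nil, or_false] at hr
    rcases hr with rfl | rfl | rfl | rfl | rfl | rfl
    · exact hto _ hfl (by rw [D.s_eq])
    · exact hto _ hfl h2
    · exact hto _ hfl h8
    · exact ⟨1, one_mem _, Or.inr (by group)⟩
    · exact hto _ hfl h96
    · obtain ⟨n, hn, e⟩ := (D.six_trans h2 h8 h10 h96 h97).2 97 (by decide)
      exact ⟨n⁻¹, inv_mem (hN hn), Or.inr (by rw [← e]; group)⟩
  refine ⟨k * (D.el g)⁻¹ * (c : G), mul_mem (mul_mem hk (inv_mem (hCs (D.el_mem hg)))) c.2, ?_⟩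
  have : k * (D.el g)⁻¹ * (c : G) * j * (k * (D.el g)⁻¹ * (c : G))⁻¹ = k * D.el r * k⁻¹ := by
    calc k * (D.el g)⁻¹ * (c : G) * j * (k * (D.el g)⁻¹ * (c : G))⁻¹
        = k * ((D.el g)⁻¹ * ((c : G) * j * (c : G)⁻¹) * D.el g) * k⁻¹ := by group
      _ = k * D.el r * k⁻¹ := by rw [← hxe, ← hge]; group
  rwa [this]

end Cfsg.Agent.ExtraThirtyTwo
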