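import Cfsg.Agent.Lib.ExtraThirtyTwo.A0Fusion

/-!
Checks on the centraliser in the model of the involution `10` of the second class.
-/

set_option autoImplicit false
set_option maxRecDepth 20000

namespace Cfsg.Agent.ExtraThirtyTwo

namespace CentB

/-- The centraliser of the involution `10` in the model. -/
def cL : List ℕ := centL .A0 10

/-- The involutions of the elementary group of order sixteen conjugate to the central one. -/
def sL : List ℕ := [1, 2, 3, 8, 9, 96, 98, 104, 107]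

/-- The four-group moved by the elements of order three. -/
def aL : List ℕ := [0, 11, 97, 106]

/-- The four-group fixed by the elements of order three. -/
def vL : List ℕ := [0, 10, 99, 105]

/-- The double transposition of four points. -/
def b4 : Equiv.Perm (Fin 4) := Equiv.swap 0 1 * Equiv.swap 2 3

/-- The cosets of `aL` in `cL` with their permutations of four points. -/
def thTab : List (List ℕ × Equiv.Perm (Fin 4)) :=
  [([0, 11, 97, 106], 1), ([1, 10, 96, 107], b4),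
   ([2, 9, 99, 104], Equiv.swap 0 2 * Equiv.swap 1 3), ([3, 8, 98, 105], Equiv.swap 0 3 * Equiv.swap 1 2),
   ([20, 30, 117, 127], Equiv.swap 2 3), ([21, 31, 116, 126], b4 * Equiv.swap 2 3),
   ([22, 28, 119, 125], Equiv.swap 0 2 * Equiv.swap 1 3 * Equiv.swap 2 3),
   ([23, 29, 118, 124], Equiv.swap 0 3 * Equiv.swap 1 2 * Equiv.swap 2 3)]

/-- The permutation of four points of a code. -/
def th (x : ℕ) : Equiv.Perm (Fin 4) := ((thTab.find? fun r => r.1.contains x).map Prod.snd).getD 1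

/-- The number of fixed points. -/
def fix {n : ℕ} (p : Equiv.Perm (Fin n)) : ℕ := (Finset.univ.filter fun i => p i = i).card

theorem cL_facts : cL.Nodup ∧ cL.length = 32 ∧ (∀ x ∈ cL, x < 192) ∧ closedL .A0 cL = true ∧
    (∀ x ∈ cL, x ∈ sylL) ∧ (∀ x ∈ fL, x ∈ cL) ∧ 20 ∈ cL ∧ 20 ∉ fL ∧ 10 ∈ cL := by
  refine ⟨by decide +kernel, by decide +kernel, by decide +kernel, by decide +kernel, ?_⟩
  decide +kernel

theorem aL_facts : aL.Nodup ∧ (∀ x ∈ aL, x < 192) ∧ (∀ x ∈ aL, x ∈ fL) ∧ closedL .A0 aL = true ∧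
    (∀ x ∈ vL, x ∈ fL) ∧ mul .A0 10 11 = 1 ∧ (aL.all fun x => vL.all fun y => !(x == y) || x == 0) = true := by
  decide +kernel

/-- The elementary group contains all conjugates of the central involution in `cL`. -/
theorem outer_inv : (cL.all fun x => !isInv .A0 x || fL.contains x ||
    ((classL .A0 10).contains x && decide ((cL.filter fun y => comm .A0 x y).length < 16))) = true := by
  decide +kernel

theorem cL_center : ∀ x ∈ cL, cL.all (comm .A0 x) = true → x = 0 ∨ x = 1 ∨ x = 10 ∨ x = 11 := by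
  decide +kernel

theorem outer_quot : ∀ x ∈ cL, ∀ y ∈ cL, x ∉ fL → y ∉ fL → ∃ f ∈ fL, mul .A0 x f = y := by
  decide +kernel

theorem outer_noncomm : ∀ x ∈ cL, x ∉ fL → ∃ a ∈ aL, comm .A0 x a = false := by
  decide +kernel

theorem sL_iff : ∀ x ∈ fL, x ≠ 0 → (x ∈ sL ↔ repF x ∈ [1, 2, 8, 96]) := by
  decide +kernel

theorem aL_iff : ∀ x ∈ fL, (x ∈ aL ↔ x = 0 ∨ (x ∉ sL ∧ mul .A0 10 x ∈ sL)) := by
  decide +kernel

theorem vL_iff : ∀ x ∈ fL, (x = 99 ∨ x = 105) ↔ x ∈ fL ∧ x ≠ 0 ∧ x ≠ 10 ∧ x ∉ sL ∧ mul .A0 10 x ∉ sL := by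
  decide +kernel

theorem swap_twenty : mul .A0 20 99 = mul .A0 105 20 := by
  decide +kernel

theorem th_hom : (cL.all fun x => cL.all fun y => decide (th (mul .A0 x y) = th x * th y)) = true := by
  decide +kernel

theorem th_ker : ∀ x ∈ cL, th x = 1 ↔ x ∈ cL ∧ x ∈ aL := by
  decide +kernel

theorem th_b : th 10 = b4 := by
  decide +kernel

theorem th_surj : ∀ p : Equiv.Perm (Fin 4), p * b4 = b4 * p → ∃ x ∈ cL, th x = p := by
  decide +kernel

theorem th_sign : ∀ x ∈ cL, (x ∈ fL → Equiv.Perm.sign (th x) = 1) ∧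
    (x ∉ fL → Equiv.Perm.sign (th x) = -1) := by
  decide +kernel

theorem th_outer_fix : ∀ x ∈ cL, x ∉ fL → isInv .A0 x = true → fix (th x) = 2 := by
  decide +kernel

theorem fL_split : ∀ x ∈ fL, x ≠ 0 → ∃ v ∈ vL, ∃ a ∈ aL, mul .A0 v a = x ∧
    (x ∈ sL ↔ fix (th x) = 0 ∧ a ≠ 0) ∧ (v = 0 → fix (th x) = 4) ∧ (v ≠ 0 → fix (th x) = 0) ∧
    (v = 0 → a ≠ 0) := by
  decide +kernel

theorem perm_five : ∀ p : Equiv.Perm (Fin 5), p * p = 1 → p ≠ 1 →
    (Equiv.Perm.sign p = 1 → fix p = 1) ∧ (Equiv.Perm.sign p = -1 → fix p = 3) := by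
  decide +kernel

end CentB

end Cfsg.Agent.ExtraThirtyTwo
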