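import Cfsg.Agent.Lib.ExtraThirtyTwo.CentBFacts
import Mathlib.GroupTheory.Focal
import Mathlib.GroupTheory.Perm.Cycle.Type

/-!
The centraliser of an involution of the second class in the fusion pattern of the alternating group of degree
nine: two transfers give a normal series ending in a group with elementary Sylow subgroup of order four, each
involution of which has it as its centraliser.
-/

set_option autoImplicit false

namespace Cfsg.Agent.ExtraThirtyTwo

open Subgroup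

universe u

namespace CentB

/-- The transfer to a quotient of a Sylow subgroup containing its focal subgroup. -/
theorem exists_residue {G : Type u} [Group G] [Finite G] {Q P H : Subgroup G} (hPQ : P ≤ Q) (hHP : H ≤ P)
    {n : ℕ} (hP : Nat.card P = 2 ^ n) (hQ2 : ¬ 2 ^ (n + 1) ∣ Nat.card Q)
    (hfoc : ∀ x ∈ P, ∀ u ∈ Q, u * x * u⁻¹ ∈ P → x⁻¹ * (u * x * u⁻¹) ∈ H) :
    ∃ M : Subgroup G, M ≤ Q ∧ (∀ u ∈ Q, ∀ v ∈ Q, u * v * u⁻¹ * v⁻¹ ∈ M) ∧ M ⊓ P = H ∧
      Nat.card M * 2 ^ n = Nat.card Q * Nat.card H := by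
  have : Fact (Nat.Prime 2) := ⟨Nat.prime_two⟩
  have hc : Nat.card (P.subgroupOf Q) = 2 ^ n := by
    rw [Nat.card_congr (subgroupOfEquivOfLe hPQ).toEquiv, hP]
  have hd : 2 ^ n ∣ Nat.card Q := hP ▸ card_dvd_of_le hPQ
  let S : Sylow 2 Q := Sylow.ofCard (P.subgroupOf Q) (by
    rw [hc]
    rw [Nat.Prime.pow_dvd_iff_le_factorization Nat.prime_two Nat.card_pos.ne'] at hd hQ2
    congr 1
    omega)
  set T := (S : Subgroup Q).transferFocal with hT
  have hfocH : (S : Subgroup Q).focalSubgroup ≤ H.subgroupOf Q := by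
    rw [focalSubgroup_def, closure_le]
    rintro g ⟨hg, x, hx, u, rfl⟩
    have hg' : (x : G) * u * (x : G)⁻¹ * (u : G)⁻¹ ∈ P := hg
    have hx' : (x : G) ∈ P := hx
    have h1 : (u : G) * (x : G)⁻¹ * (u : G)⁻¹ ∈ P := by
      have := mul_mem (inv_mem hx') hg'
      simpa [mul_assoc] using this
    have := hfoc _ (inv_mem hx') u u.2 h1
    simpa [mem_subgroupOf, commutatorElement_def, mul_assoc] using this
  set M0 := T.ker ⊔ H.subgroupOf Q with hM0
  have hcomm : ∀ a b : Q, a * b * a⁻¹ * b⁻¹ ∈ M0 := fun a b => by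
    refine mem_sup_left ?_
    rw [MonoidHom.mem_ker, map_mul, map_mul, map_mul, map_inv, map_inv, mul_comm' (T a) (T b),
      mul_inv_cancel_right, mul_inv_cancel]
  have hM0n : M0.Normal := ⟨fun m hm g => by
    simpa using mul_mem (hcomm g m) hm⟩
  have hinf : M0 ⊓ P.subgroupOf Q = H.subgroupOf Q := by
    refine le_antisymm ?_ (le_inf le_sup_right fun x hx => hHP hx)
    rintro x ⟨hxM, hxP⟩
    obtain ⟨k, hk, h, hh, rfl⟩ := mem_sup_of_normal_left.1 hxM
    have hkP : k ∈ P.subgroupOf Q := by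
      have := mul_mem hxP ((P.subgroupOf Q).inv_mem (hHP hh))
      simpa using this
    exact mul_mem (hfocH ((ker_transferFocal_inf_eq_focalSubgroup S).le ⟨hk, hkP⟩)) hh
  let ρ : ↥(P.subgroupOf Q) →* Q ⧸ M0 := (QuotientGroup.mk' M0).comp (P.subgroupOf Q).subtype
  have hρ : Function.Surjective ρ := by
    intro q
    obtain ⟨x, rfl⟩ := QuotientGroup.mk'_surjective M0 q
    obtain ⟨y, hy⟩ := focalSubgroupOf.pow_index_surjective S (T x)
    obtain ⟨p, rfl⟩ := QuotientGroup.mk'_surjective _ y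
    refine ⟨p, ?_⟩
    have hTp : T (p : Q) = T x := ((S : Subgroup Q).transferFocal_eq_pow p).trans hy
    refine (QuotientGroup.eq (s := M0)).2 (mem_sup_left ?_)
    rw [MonoidHom.mem_ker, map_mul, map_inv]
    exact inv_mul_eq_one.2 hTp
  have hker : Nat.card ρ.ker = Nat.card H := by
    rw [← card_map_of_injective (f := (P.subgroupOf Q).subtype) Subtype.val_injective,
      ← Nat.card_congr (subgroupOfEquivOfLe (hHP.trans hPQ)).toEquiv]
    congr 2
    ext x
    rw [← hinf]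
    simp [ρ, mem_map, and_comm]
  have hidx : 2 ^ n = M0.index * Nat.card H := by
    rw [← hc, card_eq_card_quotient_mul_card_subgroup ρ.ker, hker,
      Nat.card_congr (QuotientGroup.quotientKerEquivOfSurjective ρ hρ).toEquiv, index_eq_card]
  refine ⟨M0.map Q.subtype, map_subtype_le _, fun u hu v hv => ⟨_, hcomm ⟨u, hu⟩ ⟨v, hv⟩, rfl⟩, ?_, ?_⟩
  · ext x
    constructor
    · rintro ⟨⟨y, hy, rfl⟩, hyP⟩
      exact (hinf.le ⟨hy, hyP⟩ : y ∈ H.subgroupOf Q)
    · intro hx
      exact ⟨⟨⟨x, hPQ (hHP hx)⟩, (hinf.ge (show (⟨x, _⟩ : Q) ∈ H.subgroupOf Q from hx)).1, rfl⟩, hHP hx⟩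
  · rw [card_map_of_injective Subtype.val_injective, hidx, ← M0.card_mul_index, mul_assoc]

variable {G : Type u} [Group G] [Finite G] {s : G} (D : Local Kind.A0 s)

/-- The centraliser of the involution `10`. -/
def kgrp : Subgroup G := centralizer ({D.el 10} : Set G)

/-- Its intersection with the centraliser of `s`. -/
def cgrp : Subgroup G := D.listSubgroup cL cL_facts.2.2.1 (by decide +kernel) cL_facts.2.2.2.1

/-- The four-group moved by the elements of order three. -/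
def agrp : Subgroup G := D.listSubgroup aL aL_facts.2.1 (by decide +kernel) aL_facts.2.2.2.1

theorem cL_lt {x : ℕ} (hx : x ∈ cL) : x < 192 := cL_facts.2.2.1 x hx

theorem fL_cL {x : ℕ} (hx : x ∈ fL) : x ∈ cL := cL_facts.2.2.2.2.2.1 x hx

theorem aL_fL {x : ℕ} (hx : x ∈ aL) : x ∈ fL := aL_facts.2.2.1 x hx

theorem mem_kgrp {g : G} : g ∈ kgrp D ↔ g * D.el 10 = D.el 10 * g := mem_centralizer_singleton_iff

theorem mem_cgrp {g : G} : g ∈ cgrp D ↔ g * s = s * g ∧ g ∈ kgrp D := by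
  have h := D.mem_cent (x := 10) (by norm_num) (g := g)
  rw [mem_inf, mem_centralizer_singleton_iff] at h
  exact h.symm

theorem cgrp_le : cgrp D ≤ kgrp D := fun _ hg => ((mem_cgrp D).1 hg).2

theorem el_mem_cgrp {x : ℕ} (hx : x ∈ cL) : D.el x ∈ cgrp D := ⟨x, hx, rfl⟩

theorem el_mem_agrp {x : ℕ} (hx : x ∈ aL) : D.el x ∈ agrp D := ⟨x, hx, rfl⟩

theorem fgrp_le_cgrp : D.fgrp ≤ cgrp D := by
  rintro g ⟨x, hx, rfl⟩
  exact el_mem_cgrp D (fL_cL hx)

theorem agrp_le : agrp D ≤ D.fgrp := by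
  rintro g ⟨x, hx, rfl⟩
  exact D.el_mem_fgrp (aL_fL hx)

theorem card_cgrp : Nat.card (cgrp D) = 32 := (D.card_listSubgroup cL_facts.1).trans cL_facts.2.1

theorem card_agrp : Nat.card (agrp D) = 4 := D.card_listSubgroup aL_facts.1

theorem mem_norm_of_cgrp {g : G} (hg : g ∈ cgrp D) :
    g ∈ normalizer (D.fgrp : Set G) ⊓ centralizer ({D.el 10} : Set G) := by
  refine ⟨?_, cgrp_le D hg⟩
  obtain ⟨x, hx, rfl⟩ := hg
  exact (D.norm_cent (cL_lt hx)).2 (cL_facts.2.2.2.2.1 x hx)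

theorem s_comm_cgrp {g : G} (hg : g ∈ cgrp D) : s * g = g * s := ((mem_cgrp D).1 hg).1.symm

theorem el_eleven : D.el 10 * D.el 11 = s := by
  rw [← D.el_mul (by norm_num) (by norm_num), aL_facts.2.2.2.2.2.1, D.s_eq]

theorem mem_cgrp_of_eleven {g : G} (hK : g ∈ kgrp D) (h : g * D.el 11 = D.el 11 * g) : g ∈ cgrp D := by
  refine (mem_cgrp D).2 ⟨?_, hK⟩
  rw [← el_eleven D, ← mul_assoc, (mem_kgrp D).1 hK, mul_assoc, h, mul_assoc]

theorem b_mul_self : D.el 10 * D.el 10 = 1 := D.fgrp_sq (D.el_mem_fgrp (by decide +kernel))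

theorem code_of_fgrp {x : ℕ} (hx : x < 192) (h : D.el x ∈ D.fgrp) : x ∈ fL := by
  obtain ⟨y, hy, e⟩ := h
  exact D.el_inj (fL_lt y hy) hx e ▸ hy

theorem not_sixty_four (h10 : ¬ IsConj s (D.el 10)) : ¬ 64 ∣ Nat.card (kgrp D) := by
  intro hd
  have : Fact (Nat.Prime 2) := ⟨Nat.prime_two⟩
  obtain ⟨R, hR⟩ := Sylow.exists_subgroup_card_pow_prime 2 (show 2 ^ 6 ∣ Nat.card (kgrp D) from hd)
  set R' := R.map (kgrp D).subtype with hR'
  have hR'c : Nat.card R' = 2 ^ 6 := by rw [hR', card_map_of_injective Subtype.val_injective, hR]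
  have hR'2 : IsPGroup 2 R' := IsPGroup.of_card hR'c
  obtain ⟨Q, hQ⟩ := hR'2.exists_le_sylow
  obtain ⟨g, hg⟩ := MulAction.exists_smul_eq G Q D.sylow
  refine h10 (IsConj.symm (isConj_iff.2 ⟨g, ?_⟩))
  have hQR : (Q : Subgroup G) = R' := by
    refine (eq_of_le_of_card_ge hQ ?_).symm
    rw [hR'c, Q.card_eq_multiplicity, D.factorization_two]
  have hcent : ∀ y ∈ sylL, Commute (g * D.el 10 * g⁻¹) (D.el y) := by
    intro y hy
    have hy' : D.el y ∈ (g • Q : Sylow 2 G) := by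
      rw [hg]
      exact ⟨y, hy, rfl⟩
    obtain ⟨q, hq, e⟩ := hy'
    rw [← e]
    have hq' : q ∈ kgrp D := map_subtype_le R (hQR.le hq)
    exact (show Commute (D.el 10) q from ((mem_kgrp D).1 hq').symm).map (MulAut.conj g)
  obtain ⟨w, hw, hwe⟩ := (D.mem' (g * D.el 10 * g⁻¹)).1 (mem_centralizer_singleton_iff.2 (by
    have := hcent 1 (by decide +kernel)
    rwa [D.s_eq] at this))
  rw [← hwe]
  have hw2 : orderOf (D.el w) = 2 := by
    rw [hwe, Involutions.Basic.orderOf_conj]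
    exact (D.orderOf_two (by norm_num)).2 (by decide +kernel)
  have hwsyl : ∀ y ∈ sylL, comm Kind.A0 w y = true := fun y hy =>
    (D.commute_iff hw (sylL_sub y hy)).1 (hwe ▸ hcent y hy)
  have key : ((List.range 192).all fun w =>
      !(isInv Kind.A0 w) || w == 1 || !(sylL.all (comm Kind.A0 w))) = true := by decide +kernel
  have hall : sylL.all (comm Kind.A0 w) = true := List.all_eq_true.2 hwsyl
  have := List.all_eq_true.1 key w (List.mem_range.2 hw)
  simp only [(D.orderOf_two hw).1 hw2, hall, Bool.not_true, Bool.false_or, Bool.or_false,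
    beq_iff_eq] at this
  rw [this, D.s_eq]

/-- The hypotheses of the pattern. -/
structure Hyp : Prop where
  h2 : IsConj s (D.el 2)
  h8 : IsConj s (D.el 8)
  h10 : ¬ IsConj s (D.el 10)
  h96 : IsConj s (D.el 96)
  h97 : ¬ IsConj s (D.el 97)
  hN : Nat.card ↥(normalizer (D.fgrp : Set G) ⊓ centralizer ({D.el 10} : Set G)) = 96

variable {D} (W : Hyp D)

include W in
theorem conj_iff {x : ℕ} (hx : x ∈ fL) : IsConj s (D.el x) ↔ x ∈ sL := by
  by_cases hx0 : x = 0
  · subst hx0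
    rw [D.el_one]
    exact iff_of_false (fun h => Involutions.Basic.ne_one D.orderOf_s (isConj_one_left.1 h)) (by decide +kernel)
  have hc := D.isConj_repF hx hx0
  have hiff : IsConj s (D.el x) ↔ IsConj s (D.el (repF x)) := ⟨fun h => h.trans hc.symm, fun h => h.trans hc⟩
  have h1 : IsConj s (D.el 1) := by rw [D.s_eq]
  rw [hiff, sL_iff x hx hx0]
  obtain ⟨h2, h8, h10, h96, h97, -⟩ := W
  simp only [fL, List.mem_cons, List.not_mem_nil, or_false] at hx
  rcases hx with rfl | rfl | rfl | rfl | rfl | rfl | rfl | rfl | rfl | rfl | rfl | rfl | rfl | rfl | rfl | rfl <;>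
    simp_all [repF]

include W in
theorem outer_small {x : ℕ} (hx : x ∈ cL) (hi : isInv .A0 x = true) (hF : x ∉ fL) :
    ¬ IsConj s (D.el x) ∧ (cL.filter fun y => comm .A0 x y).length < 16 := by
  have h := List.all_eq_true.1 outer_inv x hx
  simp only [hi, Bool.not_true, Bool.false_or, Bool.or_eq_true, List.contains_iff_mem, hF, false_or,
    Bool.and_eq_true, decide_eq_true_eq] at h
  exact ⟨fun hc => W.h10 (hc.trans (D.isConj_of_mem_classL (by norm_num) h.1).symm), h.2⟩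

include W in
/-- The elementary group is strongly closed. -/
theorem closed {f u : G} (hf : f ∈ D.fgrp) (hu : u ∈ kgrp D) (hS : u * f * u⁻¹ ∈ cgrp D) :
    u * f * u⁻¹ ∈ D.fgrp := by
  classical
  have : Fact (Nat.Prime 2) := ⟨Nat.prime_two⟩
  obtain ⟨x, hx, hxe⟩ := hS
  by_contra hnF
  have hxF : x ∉ fL := fun h => hnF (hxe ▸ D.el_mem_fgrp h)
  have hxlt := cL_lt hx
  have hinv : isInv .A0 x = true := by
    refine (D.orderOf_two hxlt).1 ?_
    rw [hxe, Involutions.Basic.orderOf_conj]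
    refine orderOf_eq_prime (by rw [pow_two]; exact D.fgrp_sq hf) fun h => hnF ?_
    rw [h, mul_one, mul_inv_cancel]
    exact one_mem _
  obtain ⟨hns, hsmall⟩ := outer_small W hx hinv hxF
  have hxK : D.el x ∈ kgrp D := cgrp_le D (el_mem_cgrp D hx)
  have hnb : ¬ IsConj s (D.el 10 * D.el x) := by
    rw [← D.el_mul (by norm_num) hxlt]
    intro h
    have hm : mul .A0 10 x ∈ cL := by
      simpa using List.all_eq_true.1 (List.all_eq_true.1 cL_facts.2.2.2.1 10 cL_facts.2.2.2.2.2.2.2.2) x hx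
    have hmF : mul .A0 10 x ∉ fL := fun hm' => by
      refine hxF (code_of_fgrp D hxlt ?_)
      have := mul_mem (D.el_mem_fgrp (show (10 : ℕ) ∈ fL by decide +kernel)) (D.el_mem_fgrp hm')
      rwa [D.el_mul (by norm_num) hxlt, ← mul_assoc, b_mul_self D, one_mul] at this
    have hinv' : isInv .A0 (mul .A0 10 x) = true := by
      refine (D.orderOf_two (mul_lt _ _ _)).1 ?_
      obtain ⟨c, hc⟩ := isConj_iff.1 h
      rw [D.el_mul (by norm_num) hxlt] at hc ⊢
      rw [← hc, Involutions.Basic.orderOf_conj, D.orderOf_s]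
    exact (outer_small W hm hinv' hmF).1 h
  set X := kgrp D ⊓ centralizer ({D.el x} : Set G) with hX
  by_cases h32 : 2 ^ 5 ∣ Nat.card X
  · -- some conjugate is central in `cgrp`
    obtain ⟨R, hR⟩ := Sylow.exists_subgroup_card_pow_prime 2 h32
    set R₁ : Subgroup (kgrp D) := (R.map X.subtype).subgroupOf (kgrp D) with hR₁
    have hR₁c : Nat.card R₁ = 2 ^ 5 := by
      rw [hR₁, Nat.card_congr (subgroupOfEquivOfLe ((map_subtype_le R).trans inf_le_left)).toEquiv,
        card_map_of_injective Subtype.val_injective, hR]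
    have hfac : (Nat.card (kgrp D)).factorization 2 = 5 := by
      have h1 : 2 ^ 5 ∣ Nat.card (kgrp D) := by
        have := card_dvd_of_le (cgrp_le D)
        rwa [card_cgrp D] at this
      have h2 : ¬ 2 ^ 6 ∣ Nat.card (kgrp D) := not_sixty_four D W.h10
      rw [Nat.Prime.pow_dvd_iff_le_factorization Nat.prime_two Nat.card_pos.ne'] at h1 h2
      omega
    let P : Sylow 2 (kgrp D) := Sylow.ofCard ((cgrp D).subgroupOf (kgrp D)) (by
      rw [Nat.card_congr (subgroupOfEquivOfLe (cgrp_le D)).toEquiv, card_cgrp D, hfac]; norm_num)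
    obtain ⟨k, hk⟩ := MulAction.exists_smul_eq (kgrp D) (Sylow.ofCard R₁ (by rw [hR₁c, hfac])) P
    have hcen : ∀ y ∈ cL, Commute ((k : G) * D.el x * (k : G)⁻¹) (D.el y) := by
      intro y hy
      have hy' : (⟨D.el y, cgrp_le D (el_mem_cgrp D hy)⟩ : kgrp D) ∈ P := el_mem_cgrp D hy
      rw [← hk] at hy'
      obtain ⟨q, hq, e⟩ := hy'
      have e' : (k : G) * q * (k : G)⁻¹ = D.el y := congrArg Subtype.val e
      rw [← e']
      have hq' : (q : G) ∈ R.map X.subtype := hq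
      exact (show Commute (D.el x) q from
        (mem_centralizer_singleton_iff.1 (map_subtype_le R hq').2).symm).map (MulAut.conj (k : G))
    have hzS : (k : G) * D.el x * (k : G)⁻¹ ∈ cgrp D := by
      refine (mem_cgrp D).2 ⟨?_, mul_mem (mul_mem k.2 hxK) (inv_mem k.2)⟩
      have := hcen 1 (fL_cL (by decide +kernel))
      rwa [D.s_eq] at this
    obtain ⟨z, hz, hze⟩ := hzS
    have hzc := cL_center z hz (List.all_eq_true.2 fun y hy =>
      (D.commute_iff (cL_lt hz) (cL_lt hy)).1 (hze ▸ hcen y hy))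
    have hkb := (mem_kgrp D).1 k.2
    rcases hzc with rfl | rfl | rfl | rfl
    · rw [D.el_one] at hze
      have := (D.el_eq_one hxlt).1 (conj_eq_one_iff.1 hze.symm)
      exact hxF (this ▸ by decide +kernel)
    · rw [D.s_eq] at hze
      exact hns (isConj_iff.2 ⟨(k : G), hze.symm⟩ : IsConj (D.el x) s).symm
    · have h10x : D.el x = D.el 10 := by
        calc D.el x = (k : G)⁻¹ * ((k : G) * D.el x * (k : G)⁻¹) * k := by group
          _ = D.el 10 := by rw [← hze, mul_assoc, ← hkb, inv_mul_cancel_left]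
      exact hxF (D.el_inj hxlt (by norm_num) h10x ▸ by decide +kernel)
    · refine hnb (isConj_iff.2 ⟨(k : G), ?_⟩ : IsConj (D.el 10 * D.el x) s).symm
      calc (k : G) * (D.el 10 * D.el x) * (k : G)⁻¹
          = ((k : G) * D.el 10) * D.el x * (k : G)⁻¹ := by group
        _ = D.el 10 * ((k : G) * D.el x * (k : G)⁻¹) := by rw [hkb]; group
        _ = s := by rw [← hze, el_eleven D]
  · -- the Sylow subgroup of its centraliser is a conjugate of the elementary group
    set F' := D.fgrp.map (MulAut.conj u).toMonoidHom with hF'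
    have hF'X : F' ≤ X := by
      rintro _ ⟨a, ha, rfl⟩
      refine ⟨(kgrp D).mul_mem ((kgrp D).mul_mem hu (cgrp_le D (fgrp_le_cgrp D ha))) ((kgrp D).inv_mem hu), ?_⟩
      show u * a * u⁻¹ ∈ centralizer ({D.el x} : Set G)
      rw [mem_centralizer_singleton_iff, hxe]
      exact ((show Commute a f from D.fgrp_comm ha hf).map (MulAut.conj u)).eq
    have hF'c : Nat.card F' = 16 := by
      rw [hF', card_map_of_injective (MulAut.conj u).injective, D.card_fgrp]
    have hfac : (Nat.card X).factorization 2 = 4 := by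
      have h1 : 2 ^ 4 ∣ Nat.card X := by
        have := card_dvd_of_le hF'X
        rwa [hF'c] at this
      rw [Nat.Prime.pow_dvd_iff_le_factorization Nat.prime_two Nat.card_pos.ne'] at h1 h32
      omega
    let P : Sylow 2 X := Sylow.ofCard (F'.subgroupOf X) (by
      rw [Nat.card_congr (subgroupOfEquivOfLe hF'X).toEquiv, hF'c, hfac]; norm_num)
    have hsX : s ∈ X := ⟨(mem_kgrp D).2 (by
        have h := ((D.commute_iff (x := 1) (y := 10) (by norm_num) (by norm_num)).2 (by decide +kernel)).eq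
        rwa [D.s_eq] at h),
      mem_centralizer_singleton_iff.2 (s_comm_cgrp D (el_mem_cgrp D hx))⟩
    have hs2 : IsPGroup 2 (zpowers (⟨s, hsX⟩ : X)) := by
      refine IsPGroup.of_card (n := 1) ?_
      rw [Nat.card_zpowers, Subgroup.orderOf_mk, D.orderOf_s, pow_one]
    obtain ⟨Q, hQ⟩ := hs2.exists_le_sylow
    obtain ⟨k, hk⟩ := MulAction.exists_smul_eq X Q P
    have hks : (k : G) * s * (k : G)⁻¹ ∈ F' := by
      have h : k * (⟨s, hsX⟩ : X) * k⁻¹ ∈ (k • Q : Sylow 2 X) :=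
        ⟨_, hQ (mem_zpowers _), rfl⟩
      rw [hk] at h
      exact h
    obtain ⟨a, ha, hae⟩ := hks
    rw [MulEquiv.coe_toMonoidHom, MulAut.conj_apply] at hae
    -- sixteen elements of `cL` commuting with `x`
    set w := (k : G)⁻¹ * u with hw
    have hmem : ∀ c ∈ D.fgrp, ∃ y ∈ cL.filter (fun y => comm .A0 x y), D.el y = w * c * w⁻¹ := by
      intro c hc
      have hwK : w * c * w⁻¹ ∈ kgrp D :=
        mul_mem (mul_mem (mul_mem (inv_mem k.2.1) hu) (cgrp_le D (fgrp_le_cgrp D hc)))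
          (inv_mem (mul_mem (inv_mem k.2.1) hu))
      have hcs : Commute (w * c * w⁻¹) s := by
        have hws : w * a * w⁻¹ = s := by
          calc w * a * w⁻¹ = (k : G)⁻¹ * (u * a * u⁻¹) * k := by rw [hw]; group
            _ = s := by rw [hae]; group
        rw [← hws]
        exact (show Commute c a from D.fgrp_comm hc ha).map (MulAut.conj w)
      obtain ⟨y, hy, hye⟩ := (mem_cgrp D).2 ⟨hcs.eq, hwK⟩
      refine ⟨y, List.mem_filter.2 ⟨hy, ?_⟩, hye⟩
      rw [← D.commute_iff hxlt (cL_lt hy), hye]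
      have hwf : w * f * w⁻¹ = D.el x := by
        calc w * f * w⁻¹ = (k : G)⁻¹ * (u * f * u⁻¹) * k := by rw [hw]; group
          _ = D.el x := by
            rw [← hxe, mul_assoc, ← mem_centralizer_singleton_iff.1 k.2.2, inv_mul_cancel_left]
      rw [← hwf]
      exact (show Commute f c from D.fgrp_comm hf hc).map (MulAut.conj w)
    choose φ hφ hφe using hmem
    set T := (cL.filter fun y => comm .A0 x y).toFinset with hT
    have hinj : Function.Injective (fun c : D.fgrp => (⟨φ c c.2, List.mem_toFinset.2 (hφ c c.2)⟩ : T)) := by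
      intro c d h
      have h' : D.el (φ c c.2) = D.el (φ d d.2) := congrArg D.el (congrArg Subtype.val h)
      rw [hφe, hφe] at h'
      exact Subtype.ext (mul_left_cancel (mul_right_cancel h'))
    have h16 := Nat.card_le_card_of_injective _ hinj
    rw [D.card_fgrp, Nat.card_eq_fintype_card, Fintype.card_coe, hT,
      List.toFinset_card_of_nodup (cL_facts.1.filter _)] at h16
    omega

include W in
/-- The kernels of the two transfers. -/
theorem exists_series : ∃ K₁ K₂ : Subgroup G, K₁ ≤ kgrp D ∧ K₂ ≤ K₁ ∧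
    (∀ u ∈ K₁, ∀ v ∈ K₁, u * v * u⁻¹ * v⁻¹ ∈ K₂) ∧ (∀ u ∈ kgrp D, ∀ v ∈ K₁, u * v * u⁻¹ ∈ K₁) ∧
    K₂ ⊓ cgrp D = agrp D ∧ Nat.card (kgrp D) = 8 * Nat.card K₂ ∧
    (∃ n ∈ K₂, n ∈ normalizer (D.fgrp : Set G) ∧ n ^ 3 = 1 ∧ n ≠ 1) ∧
    (∀ n ∈ normalizer (D.fgrp : Set G), n ∈ kgrp D → ∀ a ∈ agrp D, n * a * n⁻¹ ∈ agrp D) ∧
    (∀ n ∈ normalizer (D.fgrp : Set G), n ∈ K₁ → ∀ v ∈ vL, n * D.el v * n⁻¹ = D.el v) := by
  classical
  have : Fact (Nat.Prime 2) := ⟨Nat.prime_two⟩
  -- the first transfer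
  have hK64 := not_sixty_four D W.h10
  obtain ⟨K₁, hK₁, hK₁c, hK₁S, hK₁card⟩ := exists_residue (cgrp_le D) (fgrp_le_cgrp D) (n := 5) (card_cgrp D)
    hK64 fun x hx u hu hy => by
      by_cases hxF : x ∈ D.fgrp
      · exact mul_mem (inv_mem hxF) (closed W hxF hu hy)
      have hyF : u * x * u⁻¹ ∉ D.fgrp := fun h => hxF (by
        have e : u⁻¹ * (u * x * u⁻¹) * (u⁻¹)⁻¹ = x := by group
        have := closed W h (inv_mem hu) (e.symm ▸ hx)
        rwa [e] at this)
      obtain ⟨a, ha, rfl⟩ := hx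
      obtain ⟨c, hc, hce⟩ := hy
      obtain ⟨f, hf, e⟩ := outer_quot a ha c hc (fun h => hxF (D.el_mem_fgrp h))
        (fun h => hyF (hce ▸ D.el_mem_fgrp h))
      rw [← hce, ← e, D.el_mul (cL_lt ha) (fL_lt f hf), inv_mul_cancel_left]
      exact D.el_mem_fgrp hf
  rw [D.card_fgrp] at hK₁card
  have hK₁n : ∀ u ∈ kgrp D, ∀ v ∈ K₁, u * v * u⁻¹ ∈ K₁ := fun u hu v hv => by
    simpa using mul_mem (hK₁c u hu v (hK₁ hv)) hv
  have hFK₁ : D.fgrp ≤ K₁ := fun g hg => (hK₁S.ge hg).1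
  have hd20 : D.el 20 ∈ cgrp D := el_mem_cgrp D cL_facts.2.2.2.2.2.2.1
  have hd20' : D.el 20 ∉ K₁ := fun h =>
    cL_facts.2.2.2.2.2.2.2.1 (code_of_fgrp D (by norm_num) (hK₁S.le ⟨h, hd20⟩))
  -- odd elements lie in `K₁`
  have hK₁idx : (K₁.subgroupOf (kgrp D)).index = 2 := by
    have h := (K₁.subgroupOf (kgrp D)).card_mul_index
    rw [Nat.card_congr (subgroupOfEquivOfLe hK₁).toEquiv] at h
    have := Nat.card_pos (α := K₁)
    have h' : Nat.card K₁ * (K₁.subgroupOf (kgrp D)).index = Nat.card K₁ * 2 := by omega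
    exact Nat.eq_of_mul_eq_mul_left this h'
  have hsq : ∀ g ∈ kgrp D, g * g ∈ K₁ := fun g hg =>
    mul_self_mem_of_index_two hK₁idx (⟨g, hg⟩ : kgrp D)
  -- invariance of the two four-groups
  set N := normalizer (D.fgrp : Set G) ⊓ centralizer ({D.el 10} : Set G) with hN
  have hinv : ∀ n ∈ N, ∀ x ∈ fL, ∃ y ∈ fL, D.el y = n * D.el x * n⁻¹ ∧ (x ∈ sL ↔ y ∈ sL) ∧
      (mul .A0 10 x ∈ sL ↔ mul .A0 10 y ∈ sL) ∧ (x = 0 ↔ y = 0) ∧ (x = 10 ↔ y = 10) := by
    intro n hn x hx
    obtain ⟨y, hy, hye⟩ := (mem_normalizer_iff.1 hn.1 _).1 (D.el_mem_fgrp hx)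
    have hb : n * D.el 10 * n⁻¹ = D.el 10 := by
      rw [(mem_kgrp D).1 hn.2, mul_inv_cancel_right]
    have hmul : ∀ z ∈ fL, mul .A0 10 z ∈ fL := fun z hz => by
      simpa using List.all_eq_true.1 (List.all_eq_true.1 fL_facts.2.2.1 10 (by decide +kernel)) z hz
    have hcj : IsConj (D.el x) (D.el y) := isConj_iff.2 ⟨n, hye.symm⟩
    have hcj' : IsConj (D.el (mul .A0 10 x)) (D.el (mul .A0 10 y)) := by
      refine isConj_iff.2 ⟨n, ?_⟩
      rw [D.el_mul (by norm_num) (fL_lt x hx), D.el_mul (by norm_num) (fL_lt y hy), hye]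
      calc n * (D.el 10 * D.el x) * n⁻¹ = (n * D.el 10 * n⁻¹) * (n * D.el x * n⁻¹) := by group
        _ = _ := by rw [hb]
    refine ⟨y, hy, hye, ?_, ?_, ?_, ?_⟩
    · rw [← conj_iff W hx, ← conj_iff W hy]
      exact ⟨fun h => h.trans hcj, fun h => h.trans hcj.symm⟩
    · rw [← conj_iff W (hmul x hx), ← conj_iff W (hmul y hy)]
      exact ⟨fun h => h.trans hcj', fun h => h.trans hcj'.symm⟩
    · rw [← D.el_eq_one (fL_lt x hx), ← D.el_eq_one (fL_lt y hy), hye, conj_eq_one_iff]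
    · constructor
      · intro h
        exact D.el_inj (fL_lt y hy) (by norm_num) (by rw [hye, h, hb])
      · intro h
        refine D.el_inj (fL_lt x hx) (by norm_num) (mul_left_cancel (a := n) (mul_right_cancel (b := n⁻¹) ?_))
        rw [← hye, h, hb]
  have hA : ∀ n ∈ N, ∀ a ∈ agrp D, n * a * n⁻¹ ∈ agrp D := by
    rintro n hn _ ⟨a, ha, rfl⟩
    obtain ⟨y, hy, hye, h1, h2, h3, -⟩ := hinv n hn a (aL_fL ha)
    have := (aL_iff a (aL_fL ha)).1 ha
    rw [h1, h2, h3] at this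
    exact hye ▸ el_mem_agrp D ((aL_iff y hy).2 this)
  have hpair : ∀ n ∈ N, ∀ x, x = 99 ∨ x = 105 → n * D.el x * n⁻¹ = D.el 99 ∨ n * D.el x * n⁻¹ = D.el 105 := by
    intro n hn x hx
    have hxF : x ∈ fL := by rcases hx with rfl | rfl <;> decide +kernel
    obtain ⟨y, hy, hye, h1, h2, h3, h4⟩ := hinv n hn x hxF
    have h := (vL_iff x hxF).1 hx
    rw [ne_eq, ne_eq, h1, h2, h3, h4] at h
    rcases (vL_iff y hy).2 ⟨hy, h.2⟩ with rfl | rfl
    · exact Or.inl hye.symm
    · exact Or.inr hye.symm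
  -- the normaliser inside `K₁`
  set N₁ := N ⊓ K₁ with hN₁
  have hSN : cgrp D ≤ N := fun g hg => mem_norm_of_cgrp D hg
  have hN₁idx : (K₁.subgroupOf N).index = 2 := by
    refine index_eq_two_iff.2 ⟨⟨D.el 20, hSN hd20⟩, fun g => ?_⟩
    show Xor ((g : G) * D.el 20 ∈ K₁) ((g : G) ∈ K₁)
    have h : ((g : G) * D.el 20 ∈ K₁) ↔ ((g : G) ∈ K₁ ↔ D.el 20 ∈ K₁) :=
      mul_mem_iff_of_index_two hK₁idx (a := (⟨g, g.2.2⟩ : kgrp D)) (b := ⟨D.el 20, cgrp_le D hd20⟩)
    by_cases hg : (g : G) ∈ K₁ <;> simp [Xor, h, hd20', hg]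
  have hN₁c : Nat.card N₁ = 48 := by
    have h := (K₁.subgroupOf N).card_mul_index
    rw [hN₁idx, W.hN, ← card_map_of_injective (f := N.subtype) Subtype.val_injective,
      subgroupOf_map_subtype, inf_comm] at h
    rw [hN₁]
    omega
  have hFN₁ : D.fgrp ≤ N₁ := le_inf ((fgrp_le_cgrp D).trans hSN) hFK₁
  have hv : ∀ n ∈ N₁, ∀ v ∈ vL, n * D.el v * n⁻¹ = D.el v := by
    intro n hn v hv
    have hFn : (D.fgrp.subgroupOf N₁).Normal := ⟨fun f hf g => (mem_normalizer_iff.1 g.2.1.1 f).1 hf⟩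
    have hidx : (D.fgrp.subgroupOf N₁).index = 3 := by
      have h := (D.fgrp.subgroupOf N₁).card_mul_index
      rw [Nat.card_congr (subgroupOfEquivOfLe hFN₁).toEquiv, D.card_fgrp, hN₁c] at h
      omega
    have hn3 : n ^ 3 ∈ D.fgrp := hidx ▸ pow_index_mem (D.fgrp.subgroupOf N₁) (⟨n, hn⟩ : N₁)
    simp only [vL, List.mem_cons, List.not_mem_nil, or_false] at hv
    rcases hv with rfl | rfl | hv
    · rw [D.el_one, mul_one, mul_inv_cancel]
    · rw [(mem_kgrp D).1 hn.1.2, mul_inv_cancel_right]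
    have hcub : n * (n * (n * D.el v * n⁻¹) * n⁻¹) * n⁻¹ = D.el v := by
      have hvF : D.el v ∈ D.fgrp := D.el_mem_fgrp (by rcases hv with rfl | rfl <;> decide +kernel)
      calc n * (n * (n * D.el v * n⁻¹) * n⁻¹) * n⁻¹ = n ^ 3 * D.el v * (n ^ 3)⁻¹ := by rw [pow_three]; group
        _ = D.el v := by rw [D.fgrp_comm hn3 hvF, mul_inv_cancel_right]
    have hcases := hpair n hn.1 v hv
    have h99 := hpair n hn.1 99 (Or.inl rfl)
    have h105 := hpair n hn.1 105 (Or.inr rfl)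
    have hne : D.el 99 ≠ D.el 105 := fun h => by
      have := D.el_inj (by norm_num) (by norm_num) h
      omega
    rcases hv with rfl | rfl
    · rcases h99 with e | e
      · exact e
      · exfalso
        rcases h105 with e' | e'
        · rw [e, e', e] at hcub
          exact hne hcub.symm
        · exact hne (mul_left_cancel (mul_right_cancel (e.trans e'.symm)))
    · rcases h105 with e | e
      · exfalso
        rcases h99 with e' | e'
        · exact hne (mul_left_cancel (mul_right_cancel (e'.trans e.symm)))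
        · rw [e, e', e] at hcub
          exact hne hcub
      · exact e
  -- the second transfer
  obtain ⟨K₂, hK₂, hK₂c, hK₂F, hK₂card⟩ := exists_residue hFK₁ (agrp_le D) (n := 4) D.card_fgrp
    (fun h => hK64 (by omega)) fun x hx u hu hy => by
      have hfac : (Nat.card K₁).factorization 2 = 4 := by
        have h1 : 2 ^ 4 ∣ Nat.card K₁ := by
          have := card_dvd_of_le hFK₁
          rwa [D.card_fgrp] at this
        have h2 : ¬ 2 ^ 5 ∣ Nat.card K₁ := fun h => hK64 (by omega)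
        rw [Nat.Prime.pow_dvd_iff_le_factorization Nat.prime_two Nat.card_pos.ne'] at h1 h2
        omega
      let P : Sylow 2 K₁ := Sylow.ofCard (D.fgrp.subgroupOf K₁) (by
        rw [Nat.card_congr (subgroupOfEquivOfLe hFK₁).toEquiv, D.card_fgrp, hfac]; norm_num)
      have : IsMulCommutative P := ⟨⟨fun a b => Subtype.ext (Subtype.ext (D.fgrp_comm a.2 b.2))⟩⟩
      obtain ⟨⟨n, hnK⟩, hnN, hne⟩ := Sylow.conj_eq_normalizer_conj_of_mem P
        (⟨x, hFK₁ hx⟩ : K₁) (⟨u, hu⟩ : K₁)⁻¹ hx (by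
          show (u⁻¹)⁻¹ * x * u⁻¹ ∈ D.fgrp
          rwa [inv_inv])
      have hne' : u * x * u⁻¹ = n⁻¹ * x * n := by simpa using congrArg Subtype.val hne
      have hn : n⁻¹ ∈ N₁ := by
        refine inv_mem ⟨⟨D.norm_of_map fun f hf => ?_, hK₁ hnK⟩, hnK⟩
        exact (mem_normalizer_iff.1 hnN (⟨f, hFK₁ hf⟩ : K₁)).1 hf
      obtain ⟨c, hc, rfl⟩ := hx
      rcases eq_or_ne c 0 with rfl | hc0
      · rw [D.el_one, mul_one, mul_inv_cancel, inv_one, one_mul]
        exact one_mem _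
      obtain ⟨v, hvL, a, ha, hva, -⟩ := fL_split c hc hc0
      have hva' : D.el c = D.el v * D.el a := by
        rw [← hva, D.el_mul (fL_lt v (aL_facts.2.2.2.2.1 v hvL)) (aL_facts.2.1 a ha)]
      have h1 := hv _ hn v hvL
      rw [inv_inv] at h1
      have h2 := hA _ hn.1 _ (el_mem_agrp D ha)
      rw [inv_inv] at h2
      have : (D.el c)⁻¹ * (u * D.el c * u⁻¹) = (D.el a)⁻¹ * (n⁻¹ * D.el a * n) := by
        rw [hne', hva']
        calc (D.el v * D.el a)⁻¹ * (n⁻¹ * (D.el v * D.el a) * n)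
            = (D.el a)⁻¹ * (D.el v)⁻¹ * (n⁻¹ * D.el v * n) * (n⁻¹ * D.el a * n) := by group
          _ = _ := by rw [h1]; group
      rw [this]
      exact mul_mem (inv_mem (el_mem_agrp D ha)) h2
  rw [card_agrp D] at hK₂card
  refine ⟨K₁, K₂, hK₁, hK₂, hK₂c, hK₁n, ?_, by omega, ?_, fun n hn hk => hA n ⟨hn, hk⟩,
    fun n hn hk => hv n ⟨⟨hn, hK₁ hk⟩, hk⟩⟩
  · refine le_antisymm (fun g hg => hK₂F.le ⟨hg.1, hK₁S.le ⟨hK₂ hg.1, hg.2⟩⟩) fun g hg => ?_
    exact ⟨(hK₂F.ge hg).1, fgrp_le_cgrp D (agrp_le D hg)⟩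
  · -- an element of order three
    have : Fact (Nat.Prime 3) := ⟨Nat.prime_three⟩
    obtain ⟨⟨n, hnN⟩, hn⟩ := exists_prime_orderOf_dvd_card' 3 (show 3 ∣ Nat.card N by rw [W.hN]; norm_num)
    rw [orderOf_mk] at hn
    have hn3 : n ^ 3 = 1 := hn ▸ pow_orderOf_eq_one n
    have hn4 : n ^ 4 = n := by rw [pow_succ, hn3, one_mul]
    have hnK : n ∈ kgrp D := hnN.2
    have hnK₁ : n ∈ K₁ := by
      have h4 : n ^ 4 = n ^ 2 * n ^ 2 := by rw [← pow_add]
      rw [← hn4, h4]
      exact hsq _ (pow_mem hnK 2)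
    have hidx : (K₂.subgroupOf K₁).index = 4 := by
      have h := (K₂.subgroupOf K₁).card_mul_index
      rw [Nat.card_congr (subgroupOfEquivOfLe hK₂).toEquiv] at h
      have := Nat.card_pos (α := K₂)
      exact Nat.eq_of_mul_eq_mul_left this (by omega)
    have hK₂n : (K₂.subgroupOf K₁).Normal := ⟨fun m hm g => by
      show (g : G) * m * (g : G)⁻¹ ∈ K₂
      simpa using mul_mem (hK₂c g g.2 m m.2) hm⟩
    have := pow_index_mem (K₂.subgroupOf K₁) (⟨n, hnK₁⟩ : K₁)
    rw [hidx] at this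
    have hn' : n ^ 4 ∈ K₂ := this
    rw [hn4] at hn'
    exact ⟨n, hn', hnN.1, hn3, fun h => by simp [h] at hn⟩

end CentB

end Cfsg.Agent.ExtraThirtyTwo
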