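import Cfsg.Agent.Lib.ExtraThirtyTwo.CentB

/-!
The two counts of pairs of involutions for the pattern of the alternating group of degree nine.
-/

set_option autoImplicit false
set_option maxRecDepth 20000

namespace Cfsg.Agent.ExtraThirtyTwo

namespace CountNine

/-- The powers of a code. -/
def powC : ℕ → ℕ → ℕ
  | 0, _ => 0
  | n + 1, x => mul .A0 (powC n x) x

/-- The involutions of the model conjugate to the central one. -/
def sCodes : List ℕ :=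
  [1, 2, 3, 4, 5, 6, 7, 8, 9, 16, 17, 24, 25, 96, 98, 104, 107, 128, 134, 152, 159, 160, 164, 176, 181]

/-- The other involutions of the model. -/
def bCodes : List ℕ :=
  [10, 11, 20, 21, 30, 31, 97, 99, 105, 106, 129, 135, 153, 158, 161, 165, 177, 180]

theorem codes_inv : (∀ x ∈ sCodes, x < 192 ∧ isInv .A0 x = true) ∧
    (∀ x ∈ bCodes, x < 192 ∧ isInv .A0 x = true) ∧
    ((List.range 192).all fun x => !isInv .A0 x || sCodes.contains x || bCodes.contains x) = true := by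
  decide +kernel

theorem sCodes_conj : (sCodes.all fun x => [1, 2, 8, 96].any fun r =>
    (List.range 192).any fun g => mul .A0 g r == mul .A0 x g) = true := by
  decide +kernel

theorem bCodes_conj : (bCodes.all fun x => [10, 97].any fun r =>
    (List.range 192).any fun g => mul .A0 g r == mul .A0 x g) = true := by
  decide +kernel

/-- The pairs over the central involution. -/
def pairs₁ : List (ℕ × ℕ) :=
  sCodes.flatMap fun x => (bCodes.filter fun y =>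
    (List.range 7).any fun k => powC k (mul .A0 x y) == 1).map fun y => (x, y)

/-- The images of a permutation. -/
def tab (p : Equiv.Perm (Fin 9)) : List ℕ := List.ofFn fun i => (p i : ℕ)

/-- The composition of lists of images. -/
def comp (a b : List ℕ) : List ℕ := b.map fun j => a.getD j 0

/-- The list of the identity. -/
def idT : List ℕ := [0, 1, 2, 3, 4, 5, 6, 7, 8]

/-- The list of the double transposition. -/
def bT : List ℕ := [1, 0, 3, 2, 4, 5, 6, 7, 8]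

/-- The number of fixed points. -/
def fixT (a : List ℕ) : ℕ := ((List.range 9).filter fun i => a.getD i 9 == i).length

/-- Whether `t` is among the first powers. -/
def reach (w t : List ℕ) : ℕ → List ℕ → Bool
  | 0, _ => false
  | n + 1, acc => acc == t || reach w t n (comp w acc)

/-- The involutions of four points commuting with the double transposition, and the identity. -/
def invFour : List (Equiv.Perm (Fin 4)) :=
  [1, CentB.b4, Equiv.swap 0 2 * Equiv.swap 1 3, Equiv.swap 0 3 * Equiv.swap 1 2,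
   Equiv.swap 0 1, Equiv.swap 2 3]

/-- The involutions of five points, and the identity. -/
def invFive : List (Equiv.Perm (Fin 5)) :=
  [1, Equiv.swap 0 1, Equiv.swap 0 2, Equiv.swap 0 3, Equiv.swap 0 4, Equiv.swap 1 2, Equiv.swap 1 3,
   Equiv.swap 1 4, Equiv.swap 2 3, Equiv.swap 2 4, Equiv.swap 3 4,
   Equiv.swap 1 2 * Equiv.swap 3 4, Equiv.swap 1 3 * Equiv.swap 2 4, Equiv.swap 1 4 * Equiv.swap 2 3,
   Equiv.swap 0 2 * Equiv.swap 3 4, Equiv.swap 0 3 * Equiv.swap 2 4, Equiv.swap 0 4 * Equiv.swap 2 3,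
   Equiv.swap 0 1 * Equiv.swap 3 4, Equiv.swap 0 3 * Equiv.swap 1 4, Equiv.swap 0 4 * Equiv.swap 1 3,
   Equiv.swap 0 1 * Equiv.swap 2 4, Equiv.swap 0 2 * Equiv.swap 1 4, Equiv.swap 0 4 * Equiv.swap 1 2,
   Equiv.swap 0 1 * Equiv.swap 2 3, Equiv.swap 0 2 * Equiv.swap 1 3, Equiv.swap 0 3 * Equiv.swap 1 2]

/-- The candidates for involutions of the centraliser. -/
def cand : List (Equiv.Perm (Fin 9)) :=
  invFour.flatMap fun q => invFive.map fun r => CentB.join (q, r)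

/-- The lists with one fixed point. -/
def sTabs : List (List ℕ) :=
  [[1, 0, 3, 2, 4, 6, 5, 8, 7], [1, 0, 3, 2, 4, 7, 8, 5, 6], [1, 0, 3, 2, 4, 8, 7, 6, 5],
  [1, 0, 3, 2, 6, 5, 4, 8, 7], [1, 0, 3, 2, 7, 5, 8, 4, 6], [1, 0, 3, 2, 8, 5, 7, 6, 4],
  [1, 0, 3, 2, 5, 4, 6, 8, 7], [1, 0, 3, 2, 7, 8, 6, 4, 5], [1, 0, 3, 2, 8, 7, 6, 5, 4],
  [1, 0, 3, 2, 5, 4, 8, 7, 6], [1, 0, 3, 2, 6, 8, 4, 7, 5], [1, 0, 3, 2, 8, 6, 5, 7, 4],
  [1, 0, 3, 2, 5, 4, 7, 6, 8], [1, 0, 3, 2, 6, 7, 4, 5, 8], [1, 0, 3, 2, 7, 6, 5, 4, 8],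
  [2, 3, 0, 1, 4, 6, 5, 8, 7], [2, 3, 0, 1, 4, 7, 8, 5, 6], [2, 3, 0, 1, 4, 8, 7, 6, 5],
  [2, 3, 0, 1, 6, 5, 4, 8, 7], [2, 3, 0, 1, 7, 5, 8, 4, 6], [2, 3, 0, 1, 8, 5, 7, 6, 4],
  [2, 3, 0, 1, 5, 4, 6, 8, 7], [2, 3, 0, 1, 7, 8, 6, 4, 5], [2, 3, 0, 1, 8, 7, 6, 5, 4],
  [2, 3, 0, 1, 5, 4, 8, 7, 6], [2, 3, 0, 1, 6, 8, 4, 7, 5], [2, 3, 0, 1, 8, 6, 5, 7, 4],
  [2, 3, 0, 1, 5, 4, 7, 6, 8], [2, 3, 0, 1, 6, 7, 4, 5, 8], [2, 3, 0, 1, 7, 6, 5, 4, 8],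
  [3, 2, 1, 0, 4, 6, 5, 8, 7], [3, 2, 1, 0, 4, 7, 8, 5, 6], [3, 2, 1, 0, 4, 8, 7, 6, 5],
  [3, 2, 1, 0, 6, 5, 4, 8, 7], [3, 2, 1, 0, 7, 5, 8, 4, 6], [3, 2, 1, 0, 8, 5, 7, 6, 4],
  [3, 2, 1, 0, 5, 4, 6, 8, 7], [3, 2, 1, 0, 7, 8, 6, 4, 5], [3, 2, 1, 0, 8, 7, 6, 5, 4],
  [3, 2, 1, 0, 5, 4, 8, 7, 6], [3, 2, 1, 0, 6, 8, 4, 7, 5], [3, 2, 1, 0, 8, 6, 5, 7, 4],
  [3, 2, 1, 0, 5, 4, 7, 6, 8], [3, 2, 1, 0, 6, 7, 4, 5, 8], [3, 2, 1, 0, 7, 6, 5, 4, 8]]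

/-- The lists with five fixed points. -/
def bTabs : List (List ℕ) :=
  [[0, 1, 2, 3, 4, 6, 5, 8, 7], [0, 1, 2, 3, 4, 7, 8, 5, 6], [0, 1, 2, 3, 4, 8, 7, 6, 5],
  [0, 1, 2, 3, 6, 5, 4, 8, 7], [0, 1, 2, 3, 7, 5, 8, 4, 6], [0, 1, 2, 3, 8, 5, 7, 6, 4],
  [0, 1, 2, 3, 5, 4, 6, 8, 7], [0, 1, 2, 3, 7, 8, 6, 4, 5], [0, 1, 2, 3, 8, 7, 6, 5, 4],
  [0, 1, 2, 3, 5, 4, 8, 7, 6], [0, 1, 2, 3, 6, 8, 4, 7, 5], [0, 1, 2, 3, 8, 6, 5, 7, 4],
  [0, 1, 2, 3, 5, 4, 7, 6, 8], [0, 1, 2, 3, 6, 7, 4, 5, 8], [0, 1, 2, 3, 7, 6, 5, 4, 8],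
  [1, 0, 3, 2, 4, 5, 6, 7, 8], [2, 3, 0, 1, 4, 5, 6, 7, 8], [3, 2, 1, 0, 4, 5, 6, 7, 8],
  [1, 0, 2, 3, 5, 4, 6, 7, 8], [1, 0, 2, 3, 6, 5, 4, 7, 8], [1, 0, 2, 3, 7, 5, 6, 4, 8],
  [1, 0, 2, 3, 8, 5, 6, 7, 4], [1, 0, 2, 3, 4, 6, 5, 7, 8], [1, 0, 2, 3, 4, 7, 6, 5, 8],
  [1, 0, 2, 3, 4, 8, 6, 7, 5], [1, 0, 2, 3, 4, 5, 7, 6, 8], [1, 0, 2, 3, 4, 5, 8, 7, 6],
  [1, 0, 2, 3, 4, 5, 6, 8, 7], [0, 1, 3, 2, 5, 4, 6, 7, 8], [0, 1, 3, 2, 6, 5, 4, 7, 8],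
  [0, 1, 3, 2, 7, 5, 6, 4, 8], [0, 1, 3, 2, 8, 5, 6, 7, 4], [0, 1, 3, 2, 4, 6, 5, 7, 8],
  [0, 1, 3, 2, 4, 7, 6, 5, 8], [0, 1, 3, 2, 4, 8, 6, 7, 5], [0, 1, 3, 2, 4, 5, 7, 6, 8],
  [0, 1, 3, 2, 4, 5, 8, 7, 6], [0, 1, 3, 2, 4, 5, 6, 8, 7]]

/-- The pairs over the second involution. -/
def pairs₂ : List (List ℕ × List ℕ) :=
  sTabs.flatMap fun x => (bTabs.filter fun y => reach (comp x y) bT 7 idT).map fun y => (x, y)

theorem tabs_eq : ((cand.map tab).filter fun a => fixT a == 1) = sTabs ∧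
    ((cand.map tab).filter fun a => fixT a == 5) = bTabs := by
  decide +kernel

theorem invFour_all : ∀ q : Equiv.Perm (Fin 4), q * CentB.b4 = CentB.b4 * q → q * q = 1 → q ∈ invFour := by
  decide +kernel

theorem invFive_all : ∀ r : Equiv.Perm (Fin 5), r * r = 1 → r ∈ invFive := by
  decide +kernel

theorem invFour_sq : ∀ q ∈ invFour, q * CentB.b4 = CentB.b4 * q ∧ q * q = 1 := by
  decide +kernel

theorem invFive_sq : ∀ r ∈ invFive, r * r = 1 := by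
  decide +kernel

theorem even_iff : (invFour.all fun q => invFive.all fun r =>
    decide (Equiv.Perm.sign q * Equiv.Perm.sign r = 1) == [1, 5, 9].contains (fixT (tab (CentB.join (q, r))))) = true := by
  decide +kernel

theorem lists_nodup : sCodes.Nodup ∧ bCodes.Nodup ∧ sTabs.Nodup ∧ bTabs.Nodup := by
  decide +kernel

theorem bounded₁ : (sCodes.all fun x => bCodes.all fun y =>
    (List.range 6).any fun k => powC (k + 1) (mul .A0 x y) == 0) = true := by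
  decide +kernel

theorem bounded₂ : (sTabs.all fun x => bTabs.all fun y =>
    reach (comp x y) idT 12 (comp x y)) = true := by
  decide +kernel

theorem count₁ : pairs₁.length = 156 := by
  decide +kernel

theorem count₂ : pairs₂.length = 555 := by
  decide +kernel

end CountNine

end Cfsg.Agent.ExtraThirtyTwo
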