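import Cfsg.Agent.Lib.ExtraThirtyTwo.Pres
import Cfsg.Agent.Lib.Involutions.Basic

/-!
An involution centraliser given by one of the four models.
-/

set_option autoImplicit false

namespace Cfsg.Agent.ExtraThirtyTwo

open Subgroup

universe u

variable {G : Type u} [Group G]

/-- Composition of a word of codes. -/
def prodL (k : Kind) : List ℕ → ℕ
  | [] => 0
  | x :: l => mul k x (prodL k l)

/-- Two codes commute. -/
def comm (k : Kind) (x y : ℕ) : Bool := mul k x y == mul k y x

/-- The code of an involution. -/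
def isInv (k : Kind) (x : ℕ) : Bool := mul k x x == 0 && !(x == 0)

/-- The centraliser in the model. -/
def centL (k : Kind) (x : ℕ) : List ℕ := (List.range 192).filter (comm k x)

/-- The conjugates in the model. -/
def classL (k : Kind) (x : ℕ) : List ℕ :=
  (List.range 192).filter fun y => (List.range 192).any fun g => mul k g x == mul k y g

/-- A list of codes closed under products. -/
def closedL (k : Kind) (l : List ℕ) : Bool := l.all fun x => l.all fun y => l.contains (mul k x y)

/-- The centraliser of `s` is given by the model, with `s` at code `1`. -/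
structure Local (k : Kind) (s : G) where
  /-- The element of a code. -/
  el : ℕ → G
  mul' : ∀ x < 192, ∀ y < 192, el (mul k x y) = el x * el y
  inj' : ∀ x < 192, ∀ y < 192, el x = el y → x = y
  mem' : ∀ g, g ∈ centralizer ({s} : Set G) ↔ ∃ x < 192, el x = g
  s_eq : el 1 = s

namespace Local

variable {k : Kind} {s : G} (D : Local k s)

theorem el_mul {x y : ℕ} (hx : x < 192) (hy : y < 192) : D.el (mul k x y) = D.el x * D.el y :=
  D.mul' x hx y hy

theorem el_inj {x y : ℕ} (hx : x < 192) (hy : y < 192) (h : D.el x = D.el y) : x = y :=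
  D.inj' x hx y hy h

theorem el_mem {x : ℕ} (hx : x < 192) : D.el x ∈ centralizer ({s} : Set G) :=
  (D.mem' _).2 ⟨x, hx, rfl⟩

theorem el_one : D.el 0 = 1 := by
  have h : mul k 0 0 = 0 := by cases k <;> decide +kernel
  have h2 := D.el_mul (x := 0) (y := 0) (by norm_num) (by norm_num)
  rw [h] at h2
  exact left_eq_mul.1 h2

theorem el_eq_one {x : ℕ} (hx : x < 192) : D.el x = 1 ↔ x = 0 :=
  ⟨fun h => D.el_inj hx (by norm_num) (h.trans D.el_one.symm), fun h => h ▸ D.el_one⟩

theorem commute_iff {x y : ℕ} (hx : x < 192) (hy : y < 192) :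
    Commute (D.el x) (D.el y) ↔ comm k x y = true := by
  unfold ExtraThirtyTwo.comm
  rw [beq_iff_eq, Commute, SemiconjBy, ← D.el_mul hx hy, ← D.el_mul hy hx]
  exact ⟨fun h => D.el_inj (mul_lt k x y) (mul_lt k y x) h, fun h => congrArg D.el h⟩

theorem conj_eq {g x y : ℕ} (hg : g < 192) (hx : x < 192) (hy : y < 192)
    (h : mul k g x = mul k y g) : D.el g * D.el x * (D.el g)⁻¹ = D.el y := by
  rw [← D.el_mul hg hx, h, D.el_mul hy hg, mul_inv_cancel_right]

theorem orderOf_two {x : ℕ} (hx : x < 192) : orderOf (D.el x) = 2 ↔ isInv k x = true := by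
  rw [Involutions.Basic.orderOf_two_iff, ← D.el_mul hx hx]
  simp only [isInv, Bool.and_eq_true, beq_iff_eq, Bool.not_eq_true', beq_eq_false_iff_ne, ne_eq]
  rw [D.el_eq_one (mul_lt k x x), D.el_eq_one hx]

include D in
theorem orderOf_s : orderOf s = 2 := by
  rw [← D.s_eq]
  exact (D.orderOf_two (by norm_num)).2 (by cases k <;> decide +kernel)

theorem el_prodL : ∀ l : List ℕ, (∀ x ∈ l, x < 192) → D.el (prodL k l) = (l.map D.el).prod
  | [], _ => D.el_one
  | x :: l, h => by
    have hl : prodL k l < 192 := by cases l <;> simp [prodL, mul_lt]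
    rw [prodL, D.el_mul (h x List.mem_cons_self) hl,
      el_prodL l (fun y hy => h y (List.mem_cons_of_mem _ hy)), List.map_cons, List.prod_cons]

include D in
theorem card_centralizer : Nat.card (centralizer ({s} : Set G)) = 192 := by
  have e : Nat.card (centralizer ({s} : Set G)) = Nat.card (Fin 192) := by
    refine (Nat.card_congr (Equiv.ofBijective
      (fun x : Fin 192 => (⟨D.el x, D.el_mem x.2⟩ : centralizer ({s} : Set G))) ⟨?_, ?_⟩)).symm
    · exact fun x y h => Fin.ext (D.el_inj x.2 y.2 (congrArg Subtype.val h))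
    · rintro ⟨g, hg⟩
      obtain ⟨x, hx, rfl⟩ := (D.mem' g).1 hg
      exact ⟨⟨x, hx⟩, rfl⟩
  rw [e, Nat.card_fin]

/-- The subgroup of a closed list of codes. -/
def listSubgroup [Finite G] (l : List ℕ) (hlt : ∀ x ∈ l, x < 192) (hone : 0 ∈ l)
    (hcl : closedL k l = true) : Subgroup G where
  carrier := {g | ∃ x ∈ l, D.el x = g}
  one_mem' := ⟨0, hone, D.el_one⟩
  mul_mem' := by
    rintro a b ⟨x, hx, rfl⟩ ⟨y, hy, rfl⟩
    refine ⟨mul k x y, ?_, D.el_mul (hlt x hx) (hlt y hy)⟩
    simpa using List.all_eq_true.1 (List.all_eq_true.1 hcl x hx) y hy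
  inv_mem' := by
    rintro a ⟨x, hx, rfl⟩
    have hp : ∀ n : ℕ, ∃ w ∈ l, D.el w = D.el x ^ n := by
      intro n
      induction n with
      | zero => exact ⟨0, hone, by rw [D.el_one, pow_zero]⟩
      | succ n ih =>
        obtain ⟨w, hw, e⟩ := ih
        refine ⟨mul k w x, ?_, by rw [D.el_mul (hlt w hw) (hlt x hx), e, pow_succ]⟩
        simpa using List.all_eq_true.1 (List.all_eq_true.1 hcl w hw) x hx
    obtain ⟨w, hw, e⟩ := hp (orderOf (D.el x) - 1)
    refine ⟨w, hw, e.trans (inv_eq_of_mul_eq_one_right ?_).symm⟩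
    rw [← pow_succ', Nat.sub_add_cancel (orderOf_pos _), pow_orderOf_eq_one]

theorem mem_listSubgroup [Finite G] {l : List ℕ} {hlt hone hcl} {g : G} :
    g ∈ D.listSubgroup l hlt hone hcl ↔ ∃ x ∈ l, D.el x = g := Iff.rfl

theorem card_listSubgroup [Finite G] {l : List ℕ} {hlt hone hcl} (hnd : l.Nodup) :
    Nat.card (D.listSubgroup l hlt hone hcl) = l.length := by
  classical
  have e : Nat.card (D.listSubgroup l hlt hone hcl) = Nat.card (D.el '' (l.toFinset : Set ℕ) : Set G) :=
    Nat.card_congr (Equiv.subtypeEquivRight fun g => by simp [mem_listSubgroup])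
  rw [e, Nat.card_coe_set_eq, Set.InjOn.ncard_image, Set.ncard_coe_finset,
    List.toFinset_card_of_nodup hnd]
  intro x hx y hy h
  exact D.el_inj (hlt x (by simpa using hx)) (hlt y (by simpa using hy)) h

/-- The elements of the centraliser commuting with one of them. -/
theorem mem_cent {x : ℕ} (hx : x < 192) {g : G} :
    g ∈ centralizer ({s} : Set G) ⊓ centralizer ({D.el x} : Set G) ↔ ∃ y ∈ centL k x, D.el y = g := by
  simp only [mem_inf, D.mem', mem_centralizer_singleton_iff, centL, List.mem_filter, List.mem_range]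
  constructor
  · rintro ⟨⟨y, hy, rfl⟩, h⟩
    exact ⟨y, ⟨hy, (D.commute_iff hx hy).1 h.symm⟩, rfl⟩
  · rintro ⟨y, ⟨hy, h⟩, rfl⟩
    exact ⟨⟨y, hy, rfl⟩, ((D.commute_iff hx hy).2 h).eq.symm⟩

theorem card_cent [Finite G] {x : ℕ} (hx : x < 192) :
    Nat.card ↥(centralizer ({s} : Set G) ⊓ centralizer ({D.el x} : Set G)) = (centL k x).length := by
  classical
  have e : Nat.card ↥(centralizer ({s} : Set G) ⊓ centralizer ({D.el x} : Set G)) =
      Nat.card (D.el '' ((centL k x).toFinset : Set ℕ) : Set G) :=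
    Nat.card_congr (Equiv.subtypeEquivRight fun g => by rw [D.mem_cent hx]; simp)
  rw [e, Nat.card_coe_set_eq, Set.InjOn.ncard_image, Set.ncard_coe_finset,
    List.toFinset_card_of_nodup (show (centL k x).Nodup from List.nodup_range.filter _)]
  intro a ha b hb h
  simp only [Set.mem_setOf_eq, List.coe_toFinset, centL, List.mem_filter, List.mem_range] at ha hb
  exact D.el_inj ha.1 hb.1 h

theorem isConj_of_mem_classL {x y : ℕ} (hx : x < 192) (h : y ∈ classL k x) :
    IsConj (D.el x) (D.el y) := by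
  simp only [classL, List.mem_filter, List.mem_range, List.any_eq_true, beq_iff_eq] at h
  obtain ⟨hy, g, hg, e⟩ := h
  exact isConj_iff.2 ⟨D.el g, D.conj_eq hg hx hy e⟩

/-- An automorphism of the model gives another table. -/
def reindex (σ : ℕ → ℕ) (hlt : ∀ x < 192, σ x < 192)
    (hmul : ∀ x < 192, ∀ y < 192, σ (mul k x y) = mul k (σ x) (σ y))
    (hsurj : ∀ y < 192, ∃ x < 192, σ x = y) (hinj : ∀ x < 192, ∀ y < 192, σ x = σ y → x = y)
    (h1 : σ 1 = 1) : Local k s where
  el x := D.el (σ x)
  mul' x hx y hy := by rw [hmul x hx y hy, D.el_mul (hlt x hx) (hlt y hy)]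
  inj' x hx y hy h := hinj x hx y hy (D.el_inj (hlt x hx) (hlt y hy) h)
  mem' g := by
    rw [D.mem']
    constructor
    · rintro ⟨y, hy, rfl⟩
      obtain ⟨x, hx, rfl⟩ := hsurj y hy
      exact ⟨x, hx, rfl⟩
    · rintro ⟨x, hx, rfl⟩
      exact ⟨σ x, hlt x hx, rfl⟩
  s_eq := by rw [h1, D.s_eq]

end Local

end Cfsg.Agent.ExtraThirtyTwo
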