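import Mathlib

/-!
The four groups of order 192 which may be the centraliser of an involution with core extraspecial
of order 32 and quotient the symmetric group of degree three, written on codes below 192.

A code is `v + 32 * (i + 3 * j)` for the element `v * x ^ i * t ^ j`, where `v` codes
`s ^ c * a₁ ^ p * b₁ ^ q * a₂ ^ r * b₂ ^ l` by its binary digits `c`, `p`, `q`, `r`, `l`.
-/

set_option autoImplicit false

namespace Cfsg.Agent.ExtraThirtyTwo

/-- The four parameters: the action of `t`, and the square of `t`. -/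
inductive Kind where
  | A0 | B0 | A1 | B1
  deriving DecidableEq

/-- A binary digit. -/
def dig (k v : ℕ) : ℕ := v / 2 ^ k % 2

/-- Product in the extraspecial group. -/
def qmul (u v : ℕ) : ℕ :=
  Nat.xor (Nat.xor u v) ((dig 1 v * dig 4 u + dig 2 v * dig 3 u) % 2) % 32

/-- The code of the element with given exponents. -/
def enc (c p q r l : ℕ) : ℕ := c % 2 + 2 * (p % 2) + 4 * (q % 2) + 8 * (r % 2) + 16 * (l % 2)

/-- The endomorphism with the given images of the generators other than `s`. -/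
def lin (A B C D : ℕ) (v : ℕ) : ℕ :=
  qmul (qmul (qmul (qmul (dig 0 v) (dig 1 v * A)) (dig 2 v * B)) (dig 3 v * C)) (dig 4 v * D)

/-- Conjugation by `x`. -/
def sig (v : ℕ) : ℕ := lin 4 6 16 24 v

/-- Whether `t` exchanges the two planes. -/
def Kind.swaps : Kind → Bool
  | .B0 | .B1 => true
  | _ => false

/-- The exponent of `s` in the square of `t`. -/
def Kind.sq : Kind → ℕ
  | .A1 | .B1 => 1
  | _ => 0

/-- Conjugation by `t`. -/
def tau (k : Kind) (v : ℕ) : ℕ := if k.swaps then lin 8 24 2 6 v else lin 2 6 8 24 v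

/-- The conjugation by `x ^ i * t ^ j`. -/
def act (k : Kind) (i j v : ℕ) : ℕ :=
  let w := if j = 1 then tau k v else v
  if i = 1 then sig w else if i = 2 then sig (sig w) else w

/-- The exponent of `x` in a product. -/
def xexp (i j i' : ℕ) : ℕ := (i + if j = 1 then 3 - i' else i') % 3

/-- The part in the extraspecial group. -/
def vOf (g : ℕ) : ℕ := g % 32

/-- The exponent of `x`. -/
def iOf (g : ℕ) : ℕ := g / 32 % 3

/-- The exponent of `t`. -/
def jOf (g : ℕ) : ℕ := g / 96 % 2

/-- Product of codes. -/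
def mul (k : Kind) (g h : ℕ) : ℕ :=
  qmul (qmul (vOf g) (act k (iOf g) (jOf g) (vOf h))) (k.sq * jOf g * jOf h) +
    32 * (xexp (iOf g) (jOf g) (iOf h) + 3 * ((jOf g + jOf h) % 2))

theorem qmul_lt (u v : ℕ) : qmul u v < 32 := Nat.mod_lt _ (by norm_num)

theorem mul_lt (k : Kind) (g h : ℕ) : mul k g h < 192 := by
  unfold mul xexp
  have := qmul_lt (qmul (vOf g) (act k (iOf g) (jOf g) (vOf h))) (k.sq * jOf g * jOf h)
  omega

theorem qmul_assoc_range : ((List.range 32).all fun u => (List.range 32).all fun v =>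
    (List.range 32).all fun w => qmul (qmul u v) w == qmul u (qmul v w)) = true := by
  decide +kernel

theorem qmul_assoc {u v w : ℕ} (hu : u < 32) (hv : v < 32) (hw : w < 32) :
    qmul (qmul u v) w = qmul u (qmul v w) := by
  simpa using List.all_eq_true.1 (List.all_eq_true.1
    (List.all_eq_true.1 qmul_assoc_range u (List.mem_range.2 hu)) v (List.mem_range.2 hv)) w
      (List.mem_range.2 hw)

theorem qmul_basic : ∀ v < 32, qmul 0 v = v ∧ qmul v 0 = v ∧
    enc (dig 0 v) (dig 1 v) (dig 2 v) (dig 3 v) (dig 4 v) = v ∧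
    qmul 1 v = enc (dig 0 v + 1) (dig 1 v) (dig 2 v) (dig 3 v) (dig 4 v) ∧
    qmul 2 v = enc (dig 0 v) (dig 1 v + 1) (dig 2 v) (dig 3 v) (dig 4 v) ∧
    qmul 4 v = enc (dig 0 v) (dig 1 v) (dig 2 v + 1) (dig 3 v) (dig 4 v) ∧
    qmul 8 v = enc (dig 0 v + dig 2 v) (dig 1 v) (dig 2 v) (dig 3 v + 1) (dig 4 v) ∧
    qmul 16 v = enc (dig 0 v + dig 1 v) (dig 1 v) (dig 2 v) (dig 3 v) (dig 4 v + 1) := by
  decide +kernel

/-- Every code below 32 is a product of the five generators. -/
theorem qmul_decomp : ∀ v < 32, v = qmul (dig 0 v) (qmul (2 * dig 1 v) (qmul (4 * dig 2 v)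
    (qmul (8 * dig 3 v) (16 * dig 4 v)))) := by
  decide +kernel

end Cfsg.Agent.ExtraThirtyTwo
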