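import Cfsg.Agent.Lib.ExtraThirtyTwo.Setup

/-!
A core with an involution outside the centre is one of the four models.
-/

set_option autoImplicit false

namespace Cfsg.Agent.ExtraThirtyTwo

open Subgroup

universe u

variable {G : Type u} [Group G]

/-- A four group in the core permuted transitively by `x`. -/
structure Plane (s : G) (Q : Subgroup G) (x a : G) : Prop where
  mem : a ∈ Q
  sq : a * a = 1
  ne_one : a ≠ 1
  ne_s : a ≠ s
  comm : a * (x * a * x⁻¹) = x * a * x⁻¹ * a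
  rot : x * (x * a * x⁻¹) * x⁻¹ = a * (x * a * x⁻¹)

/-- Two elements of the core do not commute. -/
def Anti (s g h : G) : Prop := g * h = s * h * g

variable {s : G} {Q : Subgroup G} {x t : G} {e : ℕ} (C : Core s Q x t e)

namespace Core

include C

theorem Qcent {q : G} (hq : q ∈ Q) : q ∈ centralizer ({s} : Set G) :=
  mem_centralizer_singleton_iff.2 (C.cen q hq).symm

theorem conj_s {g : G} (hg : g ∈ centralizer ({s} : Set G)) : g * s * g⁻¹ = s := by
  rw [mem_centralizer_singleton_iff.1 hg, mul_inv_cancel_right]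

theorem anti_symm {g h : G} (a : Anti s g h) : Anti s h g := by
  unfold Anti at *
  rw [mul_assoc, a, ← mul_assoc, ← mul_assoc, C.s_sq, one_mul]

theorem not_comm_anti {g h : G} (a : Anti s g h) : g * h ≠ h * g := fun hc => by
  unfold Anti at a
  rw [hc, mul_assoc, right_eq_mul] at a
  exact C.s_ne a

theorem comm_or {g h : G} (hg : g ∈ Q) (hh : h ∈ Q) : g * h = h * g ∨ Anti s g h :=
  C.comm g hg h hh

theorem s_left {g : G} (hg : g ∈ Q) (y : G) : g * (s * y) = s * (g * y) := by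
  rw [← mul_assoc, ← C.cen g hg, mul_assoc]

theorem comm_mul {u g h : G} (hu : u ∈ Q) (hg : g ∈ Q) (a : Anti s u g) (b : Anti s u h) :
    u * (g * h) = g * h * u := by
  unfold Anti at *
  rw [← mul_assoc, a, mul_assoc (s * g), b, mul_assoc, mul_assoc s h u, C.s_left hg, ← mul_assoc,
    C.s_sq, one_mul, mul_assoc]

theorem anti_mul_left {u g h : G} (hu : u ∈ Q) (a : Anti s u g) (b : u * h = h * u) :
    Anti s u (g * h) := by
  unfold Anti at *
  rw [← mul_assoc, a, mul_assoc (s * g), b]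
  simp only [mul_assoc]

theorem anti_mul_right {u g h : G} (hu : u ∈ Q) (hg : g ∈ Q) (a : u * g = g * u) (b : Anti s u h) :
    Anti s u (g * h) := by
  unfold Anti at *
  rw [← mul_assoc, a, mul_assoc, b, mul_assoc s h u, C.s_left hg]
  simp only [mul_assoc]

theorem anti_conj {g h w : G} (hw : w ∈ centralizer ({s} : Set G)) (a : Anti s g h) :
    Anti s (w * g * w⁻¹) (w * h * w⁻¹) := by
  unfold Anti at *
  have e1 : w * g * w⁻¹ * (w * h * w⁻¹) = w * (g * h) * w⁻¹ := by group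
  have e2 : s * (w * h * w⁻¹) * (w * g * w⁻¹) = s * w * (h * g) * w⁻¹ := by group
  rw [e1, e2, a, mul_assoc s h g, ← mul_assoc w s, mem_centralizer_singleton_iff.1 hw]

omit C in
theorem comm_conj {g h w : G} (a : g * h = h * g) :
    w * g * w⁻¹ * (w * h * w⁻¹) = w * h * w⁻¹ * (w * g * w⁻¹) := by
  have e : ∀ g h : G, w * g * w⁻¹ * (w * h * w⁻¹) = w * (g * h) * w⁻¹ := fun g h => by group
  rw [e, e, a]

theorem x_cube_conj (g : G) : x * (x * (x * g * x⁻¹) * x⁻¹) * x⁻¹ = g := by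
  have e : x * (x * (x * g * x⁻¹) * x⁻¹) * x⁻¹ = x * x * x * g * (x * x * x)⁻¹ := by group
  have h3 : x * x * x = 1 := by rw [← C.x_cube, pow_three, mul_assoc]
  rw [e, h3, one_mul, inv_one, mul_one]

theorem t_conj_x (g : G) : x * (t * g * t⁻¹) * x⁻¹ = t * (x * (x * g * x⁻¹) * x⁻¹) * t⁻¹ := by
  have h : x * t = t * x ^ 2 := by
    have h1 : t * x ^ 2 = x ^ 2 * (x ^ 2 * t) := by
      rw [pow_two, ← mul_assoc t, C.t_x, mul_assoc, C.t_x]
      simp only [pow_two]
    rw [h1, ← mul_assoc, ← pow_add, show 2 + 2 = 3 + 1 from rfl, pow_add, C.x_cube, one_mul,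
      pow_one]
  rw [pow_two] at h
  calc x * (t * g * t⁻¹) * x⁻¹ = x * t * g * (x * t)⁻¹ := by group
    _ = t * (x * x) * g * (t * (x * x))⁻¹ := by rw [h]
    _ = _ := by group

theorem conj_one_or_s {w q : G} (hw : w ∈ centralizer ({s} : Set G))
    (h : w * q * w⁻¹ = 1 ∨ w * q * w⁻¹ = s) : q = 1 ∨ q = s := by
  rcases h with h | h
  · exact Or.inl (conj_eq_one_iff.1 h)
  · refine Or.inr ((MulAut.conj w).injective ?_)
    simp only [MulAut.conj_apply]
    rw [h, C.conj_s hw]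

theorem plane_of_involution {q : G} (hq : q ∈ Q) (h2 : q * q = 1) (h1 : q ≠ 1) (hqs : q ≠ s) :
    ∃ a, (a = q ∨ a = s * q) ∧ Plane s Q x a := by
  have hxm := C.x_mem
  have hb : ∀ a ∈ Q, x * a * x⁻¹ ∈ Q := fun a ha => C.norm x hxm a ha
  set p := q * (x * q * x⁻¹) * (x * (x * q * x⁻¹) * x⁻¹) with hp
  have hpQ : p ∈ Q := mul_mem (mul_mem hq (hb _ hq)) (hb _ (hb _ hq))
  have hpx : x * p * x⁻¹ = q⁻¹ * p * q := by
    have e : x * p * x⁻¹ = x * q * x⁻¹ * (x * (x * q * x⁻¹) * x⁻¹) *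
        (x * (x * (x * q * x⁻¹) * x⁻¹) * x⁻¹) := by rw [hp]; group
    rw [e, C.x_cube_conj, hp]; group
  have hp1 : p = 1 ∨ p = s := by
    refine C.fpf p hpQ ?_
    rw [hpx]
    rcases C.comm_or hpQ hq with h | h
    · left; rw [mul_assoc, h, inv_mul_cancel_left]
    · right
      have hqs' : q⁻¹ * s = s * q⁻¹ := ((show Commute s q from C.cen q hq).inv_right).eq.symm
      calc q⁻¹ * p * q = q⁻¹ * (p * q) := mul_assoc _ _ _
        _ = q⁻¹ * s * (q * p) := by rw [show p * q = s * q * p from h]; group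
        _ = s * p := by rw [hqs', mul_assoc s q⁻¹, inv_mul_cancel_left]
  have key : ∀ a ∈ Q, a * a = 1 → a ≠ 1 → a ≠ s →
      a * (x * a * x⁻¹) * (x * (x * a * x⁻¹) * x⁻¹) = 1 → Plane s Q x a := by
    intro a ha a2 a1 as hprod
    have hx : ∀ g : G, g * g = 1 → x * g * x⁻¹ * (x * g * x⁻¹) = 1 := fun g hg => by
      have e : x * g * x⁻¹ * (x * g * x⁻¹) = x * (g * g) * x⁻¹ := by group
      rw [e, hg, mul_one, mul_inv_cancel]
    have hc := hx _ (hx a a2)
    have hab : a * (x * a * x⁻¹) = x * (x * a * x⁻¹) * x⁻¹ := by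
      rw [eq_inv_of_mul_eq_one_left hprod, inv_eq_of_mul_eq_one_right hc]
    refine ⟨ha, a2, a1, as, ?_, hab.symm⟩
    have h3 : a * (x * a * x⁻¹) * (a * (x * a * x⁻¹)) = 1 := by rw [hab]; exact hc
    have h4 : a * (x * a * x⁻¹) = (a * (x * a * x⁻¹))⁻¹ := (inv_eq_of_mul_eq_one_right h3).symm
    rw [h4, mul_inv_rev, inv_eq_of_mul_eq_one_right a2, inv_eq_of_mul_eq_one_right (hx a a2)]
  rcases hp1 with h | h
  · exact ⟨q, Or.inl rfl, key q hq h2 h1 hqs h⟩
  · refine ⟨s * q, Or.inr rfl, key _ (mul_mem C.sQ hq) ?_ ?_ ?_ ?_⟩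
    · rw [mul_assoc, C.s_left hq, ← mul_assoc, C.s_sq, one_mul, h2]
    · intro e'
      apply hqs
      rw [← C.s_sq] at e'
      exact mul_left_cancel e'
    · exact fun e' => h1 (mul_eq_left.1 e')
    · have hxs : ∀ g : G, x * (s * g) * x⁻¹ = s * (x * g * x⁻¹) := fun g => by
        rw [← mul_assoc x s g, mem_centralizer_singleton_iff.1 hxm]; group
      have key2 : ∀ y z : G, y ∈ Q → s * q * (s * y) * (s * z) = s * (q * y * z) := fun y z hy => by
        rw [mul_assoc s q, C.s_left hq, ← mul_assoc s s, C.s_sq, one_mul, C.s_left (mul_mem hq hy)]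
      rw [hxs, hxs, key2 _ _ (hb q hq), ← hp, h, C.s_sq]

variable {a : G} (P : Plane s Q x a)
include P

theorem b_mem : x * a * x⁻¹ ∈ Q := C.norm x C.x_mem a P.mem

theorem b_sq : x * a * x⁻¹ * (x * a * x⁻¹) = 1 := by
  have e : x * a * x⁻¹ * (x * a * x⁻¹) = x * (a * a) * x⁻¹ := by group
  rw [e, P.sq, mul_one, mul_inv_cancel]

theorem b_ne : x * a * x⁻¹ ≠ 1 ∧ x * a * x⁻¹ ≠ s ∧ x * a * x⁻¹ ≠ a ∧ x * a * x⁻¹ ≠ s * a := by
  refine ⟨fun h => P.ne_one (conj_eq_one_iff.1 h), fun h => ?_, fun h => ?_, fun h => ?_⟩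
  · rcases C.conj_one_or_s C.x_mem (Or.inr h) with h' | h'
    exacts [P.ne_one h', P.ne_s h']
  · rcases C.fpf a P.mem (Or.inl h) with h' | h'
    exacts [P.ne_one h', P.ne_s h']
  · rcases C.fpf a P.mem (Or.inr h) with h' | h'
    exacts [P.ne_one h', P.ne_s h']

theorem rotate : Plane s Q x (x * a * x⁻¹) := by
  refine ⟨C.b_mem P, C.b_sq P, (C.b_ne P).1, (C.b_ne P).2.1, ?_, ?_⟩
  · rw [P.rot, ← mul_assoc, ← P.comm]
  · rw [C.x_cube_conj, P.rot, P.comm, ← mul_assoc, C.b_sq P, one_mul]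

theorem transfer : Plane s Q x (t * a * t⁻¹) := by
  refine ⟨C.norm t C.t_mem a P.mem, ?_, fun h => P.ne_one (conj_eq_one_iff.1 h), fun h => ?_, ?_, ?_⟩
  · rw [show t * a * t⁻¹ * (t * a * t⁻¹) = t * (a * a) * t⁻¹ by group, P.sq, mul_one, mul_inv_cancel]
  · rcases C.conj_one_or_s C.t_mem (Or.inr h) with h' | h'
    exacts [P.ne_one h', P.ne_s h']
  · rw [C.t_conj_x, P.rot]
    refine comm_conj ?_
    rw [mul_assoc a, ← P.comm]
  · rw [C.t_conj_x, C.t_conj_x, C.x_cube_conj, P.rot]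
    rw [show t * a * t⁻¹ * (t * (a * (x * a * x⁻¹)) * t⁻¹) = t * (a * a * (x * a * x⁻¹)) * t⁻¹ by group,
      P.sq, one_mul]

/-- The eight elements of the plane and the centre. -/
def eight (g : G) : Prop :=
  g ∈ Subgroup.closure ({s, a, x * a * x⁻¹} : Set G)

theorem eight_le : Subgroup.closure ({s, a, x * a * x⁻¹} : Set G) ≤ Q := by
  rw [closure_le]
  rintro g (rfl | rfl | rfl)
  exacts [C.sQ, P.mem, C.b_mem P]

theorem exists_anti : ∃ g₁ g₂ g₃, (g₁ ∈ Q ∧ g₂ ∈ Q ∧ g₃ ∈ Q) ∧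
    (Anti s g₁ a ∧ g₁ * (x * a * x⁻¹) = x * a * x⁻¹ * g₁) ∧
    (g₂ * a = a * g₂ ∧ Anti s g₂ (x * a * x⁻¹)) ∧ Anti s g₃ a ∧ Anti s g₃ (x * a * x⁻¹) := by
  obtain ⟨g, hg, hga⟩ : ∃ g ∈ Q, Anti s g a := by
    by_contra h
    push Not at h
    rcases C.center a P.mem fun r hr => ((C.comm_or hr P.mem).resolve_right (h r hr)).symm with h' | h'
    exacts [P.ne_one h', P.ne_s h']
  have hx := C.x_mem
  have hg' := C.norm x hx g hg
  have hg'' := C.norm x hx _ hg'
  have h1 : Anti s (x * g * x⁻¹) (x * a * x⁻¹) := C.anti_conj hx hga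
  have h2 := C.anti_conj hx h1
  rw [P.rot] at h2
  have e : x * (a * (x * a * x⁻¹)) * x⁻¹ = a := by
    rw [show x * (a * (x * a * x⁻¹)) * x⁻¹ = x * a * x⁻¹ * (x * (x * a * x⁻¹) * x⁻¹) by group, P.rot,
      P.comm, ← mul_assoc, C.b_sq P, one_mul]
  rcases C.comm_or hg (C.b_mem P) with hb | hb
  · -- `g` meets the first coordinate only
    have hc : Anti s g (a * (x * a * x⁻¹)) := C.anti_mul_left hg hga hb
    have h3 : x * g * x⁻¹ * (a * (x * a * x⁻¹)) = a * (x * a * x⁻¹) * (x * g * x⁻¹) := by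
      rw [← P.rot]; exact comm_conj hb
    have h4 : Anti s (x * g * x⁻¹) a := by
      have := C.anti_conj hx hc
      rwa [e] at this
    have h5 : x * (x * g * x⁻¹) * x⁻¹ * a = a * (x * (x * g * x⁻¹) * x⁻¹) := by
      have := comm_conj (w := x) h3
      rwa [e] at this
    have h6 : Anti s (x * (x * g * x⁻¹) * x⁻¹) (x * a * x⁻¹) := C.anti_conj hx h4
    exact ⟨g, _, x * g * x⁻¹, ⟨hg, hg'', hg'⟩, ⟨hga, hb⟩, ⟨h5, h6⟩, h4, h1⟩
  · have hc : g * (a * (x * a * x⁻¹)) = a * (x * a * x⁻¹) * g := C.comm_mul hg P.mem hga hb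
    have h3 : Anti s (x * g * x⁻¹) (a * (x * a * x⁻¹)) := by
      rw [← P.rot]; exact C.anti_conj hx hb
    have h4 : x * g * x⁻¹ * a = a * (x * g * x⁻¹) := by
      have := comm_conj (w := x) hc
      rwa [e] at this
    have h5 : Anti s (x * (x * g * x⁻¹) * x⁻¹) a := by
      have := C.anti_conj hx h3
      rwa [e] at this
    have h6 : x * (x * g * x⁻¹) * x⁻¹ * (x * a * x⁻¹) = x * a * x⁻¹ * (x * (x * g * x⁻¹) * x⁻¹) :=
      comm_conj h4
    exact ⟨_, x * g * x⁻¹, g, ⟨hg'', hg', hg⟩, ⟨h5, h6⟩, ⟨h4, h1⟩, hga, hb⟩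

theorem eight_card [Finite G] : 5 ≤ Nat.card (Subgroup.closure ({s, a, x * a * x⁻¹} : Set G)) := by
  classical
  obtain ⟨hb1, hbs, hba, hbsa⟩ := C.b_ne P
  let S : Finset G := {1, s, a, s * a, x * a * x⁻¹}
  have hS : S.card = 5 := by
    have h1 : (1 : G) ≠ s := C.s_ne.symm
    have h2 : (1 : G) ≠ a := P.ne_one.symm
    have h3 : (1 : G) ≠ s * a := fun h => P.ne_s (by
      rw [← C.s_sq] at h; exact (mul_left_cancel h).symm)
    have h5 : s ≠ a := P.ne_s.symm
    have h6 : s ≠ s * a := fun h => P.ne_one (left_eq_mul.1 h)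
    have h8 : a ≠ s * a := fun h => C.s_ne (right_eq_mul.1 h)
    simp only [S]
    rw [Finset.card_insert_of_notMem (by simp [h1, h2, h3, hb1.symm]),
      Finset.card_insert_of_notMem (by simp [h5, h6, hbs.symm]),
      Finset.card_insert_of_notMem (by simp [h8, hba.symm]),
      Finset.card_insert_of_notMem (by simp [hbsa.symm]), Finset.card_singleton]
  have hsub : (S : Set G) ⊆ Subgroup.closure ({s, a, x * a * x⁻¹} : Set G) := by
    intro g hg
    simp only [S, Finset.coe_insert, Finset.coe_singleton, Set.mem_insert_iff,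
      Set.mem_singleton_iff] at hg
    rcases hg with rfl | rfl | rfl | rfl | rfl
    · exact one_mem _
    · exact subset_closure (by simp)
    · exact subset_closure (by simp)
    · exact mul_mem (subset_closure (by simp)) (subset_closure (by simp))
    · exact subset_closure (by simp)
  calc 5 = (S : Set G).ncard := by rw [Set.ncard_coe_finset, hS]
    _ ≤ _ := by
      refine (Set.ncard_le_ncard hsub (Set.toFinite _)).trans (le_of_eq ?_)
      exact Nat.card_coe_set_eq _

theorem mem_eight [Finite G] {w : G} (hw : w ∈ Q) (ha : w * a = a * w)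
    (hb : w * (x * a * x⁻¹) = x * a * x⁻¹ * w) :
    w ∈ Subgroup.closure ({s, a, x * a * x⁻¹} : Set G) := by
  classical
  set E := Subgroup.closure ({s, a, x * a * x⁻¹} : Set G)
  set Z := Q ⊓ centralizer ({a, x * a * x⁻¹} : Set G) with hZ
  have hEQ : E ≤ Q := C.eight_le P
  have hEZ : E ≤ Z := by
    rw [closure_le]
    rintro g (rfl | rfl | rfl) <;> refine ⟨?_, mem_centralizer_iff.2 ?_⟩ <;>
      first | exact C.sQ | exact P.mem | exact C.b_mem P | (rintro h (rfl | rfl))
    · exact (C.cen _ P.mem).symm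
    · exact (C.cen _ (C.b_mem P)).symm
    · rfl
    · exact P.comm.symm
    · exact P.comm
    · rfl
  obtain ⟨g₁, g₂, g₃, ⟨m1, m2, m3⟩, ⟨a1, b1⟩, ⟨a2, b2⟩, a3, b3⟩ := C.exists_anti P
  have hrel : 4 ≤ Z.relIndex Q := by
    let gs : Fin 4 → Q := ![1, ⟨g₁, m1⟩, ⟨g₂, m2⟩, ⟨g₃, m3⟩]
    let f : Fin 4 → Q ⧸ Z.subgroupOf Q := fun i => QuotientGroup.mk (gs i)
    have key : ∀ g ∈ Q, ∀ h ∈ Q, g⁻¹ * h ∈ Z → ∀ c ∈ ({a, x * a * x⁻¹} : Set G),
        (g * c = c * g ↔ h * c = c * h) := by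
      intro g hg h hh hz c hc
      have hcz : Commute c (g⁻¹ * h) := mem_centralizer_iff.1 (mem_inf.1 hz).2 c hc
      constructor
      · intro hgc
        have : Commute c (g * (g⁻¹ * h)) := (Commute.mul_right (Commute.symm hgc) hcz)
        rwa [mul_inv_cancel_left, commute_iff_eq, eq_comm] at this
      · intro hhc
        have : Commute c (h * (g⁻¹ * h)⁻¹) := (Commute.mul_right (Commute.symm hhc) hcz.inv_right)
        rwa [mul_inv_rev, inv_inv, mul_inv_cancel_left, commute_iff_eq, eq_comm] at this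
    have hf : Function.Injective f := by
      intro i j hij
      rw [QuotientGroup.eq, mem_subgroupOf, coe_mul, coe_inv] at hij
      have ka := key _ (gs i).2 _ (gs j).2 hij a (by simp)
      have kb := key _ (gs i).2 _ (gs j).2 hij (x * a * x⁻¹) (by simp)
      have n1 := C.not_comm_anti a1
      have n2 := C.not_comm_anti b2
      have n3 := C.not_comm_anti a3
      have n4 := C.not_comm_anti b3
      fin_cases i <;> fin_cases j <;> simp [gs] at ka kb ⊢ <;>
        simp [a2, b1, n1, n2, n3, n4] at ka kb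
    have := Nat.card_le_card_of_injective f hf
    rw [Nat.card_fin] at this
    exact this
  have hZQ : Nat.card Z * Z.relIndex Q = 32 := by
    rw [← C.card, ← Subgroup.relIndex_bot_left, ← Subgroup.relIndex_bot_left]
    exact Subgroup.relIndex_mul_relIndex ⊥ Z Q bot_le inf_le_left
  have hE5 := C.eight_card P
  have hdvd : Nat.card E ∣ 32 := by rw [← C.card]; exact Subgroup.card_dvd_of_le hEQ
  have hE8 : 8 ≤ Nat.card E := by
    obtain ⟨m, hm, hm'⟩ := (Nat.dvd_prime_pow Nat.prime_two (m := 5)).1 hdvd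
    rw [hm'] at hE5 ⊢
    interval_cases m <;> simp_all
  have hZ8 : Nat.card Z ≤ 8 := by nlinarith
  have : E = Z := eq_of_le_of_card_ge hEZ (hZ8.trans hE8)
  rw [this]
  refine ⟨hw, mem_centralizer_iff.2 ?_⟩
  rintro c (rfl | rfl)
  exacts [ha.symm, hb.symm]

omit P in
theorem card_eight_le [Finite G] {a : G} (P : Plane s Q x a) :
    Nat.card (Subgroup.closure ({s, a, x * a * x⁻¹} : Set G)) ≠ 32 := by
  intro h
  obtain ⟨g, _, _, ⟨hg, _, _⟩, ⟨ha, _⟩, _⟩ := C.exists_anti P
  have e : Subgroup.closure ({s, a, x * a * x⁻¹} : Set G) = Q :=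
    eq_of_le_of_card_ge (C.eight_le P) (by rw [h, C.card])
  have hle : Q ≤ centralizer ({a} : Set G) := by
    rw [← e, closure_le]
    rintro c (rfl | rfl | rfl) <;> refine mem_centralizer_singleton_iff.2 ?_
    · exact C.cen a P.mem
    · rfl
    · exact P.comm.symm
  exact C.not_comm_anti ha (mem_centralizer_singleton_iff.1 (hle hg))

theorem eight_stable {y : G} (hy : y ∈ Subgroup.closure ({s, a, x * a * x⁻¹} : Set G)) :
    x * y * x⁻¹ ∈ Subgroup.closure ({s, a, x * a * x⁻¹} : Set G) := by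
  induction hy using Subgroup.closure_induction with
  | mem g hg =>
    rcases hg with rfl | rfl | rfl
    · rw [C.conj_s C.x_mem]; exact subset_closure (by simp)
    · exact subset_closure (by simp)
    · rw [P.rot]; exact mul_mem (subset_closure (by simp)) (subset_closure (by simp))
  | one => simp
  | mul g h _ _ ihg ihh =>
    rw [show x * (g * h) * x⁻¹ = x * g * x⁻¹ * (x * h * x⁻¹) by group]; exact mul_mem ihg ihh
  | inv g _ ih => rw [show x * g⁻¹ * x⁻¹ = (x * g * x⁻¹)⁻¹ by group]; exact inv_mem ih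

/-- A second plane. -/
theorem exists_second [Finite G] :
    ∃ c, Plane s Q x c ∧ c ∉ Subgroup.closure ({s, a, x * a * x⁻¹} : Set G) := by
  classical
  set E := Subgroup.closure ({s, a, x * a * x⁻¹} : Set G) with hE
  obtain ⟨v, hv, hvE⟩ : ∃ v ∈ Q, v ∉ E := by
    by_contra h
    push Not at h
    exact C.card_eight_le P (le_antisymm ((Subgroup.card_le_of_le (C.eight_le P)).trans C.card.le)
      (C.card ▸ Subgroup.card_le_of_le h))
  obtain ⟨q, hq, hqE, hq2⟩ : ∃ q ∈ Q, q ∉ E ∧ q * q = 1 := by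
    rcases C.sq v hv with h | h
    · exact ⟨v, hv, hvE, h⟩
    have key : ∀ u ∈ Q, u ∈ E → u * u = 1 → Anti s v u → u * v ∈ Q ∧ u * v ∉ E ∧
        u * v * (u * v) = 1 := by
      intro u hu huE hu2 ha
      refine ⟨mul_mem hu hv, fun hh => hvE ?_, ?_⟩
      · have := mul_mem (inv_mem huE) hh
        rwa [inv_mul_cancel_left] at this
      · unfold Anti at ha
        rw [mul_assoc u v, ← mul_assoc v u, ha, mul_assoc (s * u), h, ← mul_assoc, ← mul_assoc,
          ← C.cen u hu, mul_assoc s u u, hu2, mul_one, C.s_sq]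
    rcases C.comm_or hv P.mem with h1 | h1
    · rcases C.comm_or hv (C.b_mem P) with h2 | h2
      · exact absurd (C.mem_eight P hv h1 h2) hvE
      · exact ⟨_, key _ (C.b_mem P) (subset_closure (by simp)) (C.b_sq P) h2⟩
    · exact ⟨_, key _ P.mem (subset_closure (by simp)) P.sq h1⟩
  have hq1 : q ≠ 1 := fun h => hqE (h ▸ one_mem _)
  have hqs : q ≠ s := fun h => hqE (h ▸ subset_closure (by simp))
  obtain ⟨c, hc, Pc⟩ := C.plane_of_involution hq hq2 hq1 hqs
  refine ⟨c, Pc, fun h => hqE ?_⟩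
  rcases hc with rfl | rfl
  · exact h
  · have h' : s * (s * q) ∈ E := mul_mem (subset_closure (by simp)) h
    rwa [← mul_assoc, C.s_sq, one_mul] at h'

/-- An image of the plane inside it is a rotation of the plane. -/
theorem plane_in_eight [Finite G] {c : G} (Pc : Plane s Q x c)
    (hc : c ∈ Subgroup.closure ({s, a, x * a * x⁻¹} : Set G)) :
    c = a ∨ c = x * a * x⁻¹ ∨ c = a * (x * a * x⁻¹) := by
  set b := x * a * x⁻¹ with hbdef
  have hsa : s * a = a * s := C.cen a P.mem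
  have hsb : s * b = b * s := C.cen b (C.b_mem P)
  have hab : a * b = b * a := P.comm
  have hform : ∃ i j l : ℕ, i < 2 ∧ j < 2 ∧ l < 2 ∧ c = s ^ i * a ^ j * b ^ l := by
    clear Pc
    induction hc using Subgroup.closure_induction with
    | mem g hg =>
      rcases hg with rfl | rfl | rfl
      · exact ⟨1, 0, 0, by norm_num, by norm_num, by norm_num, by simp⟩
      · exact ⟨0, 1, 0, by norm_num, by norm_num, by norm_num, by simp⟩
      · exact ⟨0, 0, 1, by norm_num, by norm_num, by norm_num, by simp [hbdef]⟩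
    | one => exact ⟨0, 0, 0, by norm_num, by norm_num, by norm_num, by simp⟩
    | mul g h _ _ ihg ihh =>
      obtain ⟨i, j, l, -, -, -, rfl⟩ := ihg
      obtain ⟨i', j', l', -, -, -, rfl⟩ := ihh
      refine ⟨(i + i') % 2, (j + j') % 2, (l + l') % 2, Nat.mod_lt _ (by norm_num),
        Nat.mod_lt _ (by norm_num), Nat.mod_lt _ (by norm_num), ?_⟩
      rw [Gens.pow_mod_two C.s_sq, Gens.pow_mod_two P.sq, Gens.pow_mod_two (show b * b = 1 from C.b_sq P), pow_add,
        pow_add, pow_add]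
      have c1 : Commute (b ^ l) (s ^ i') := ((show Commute b s from hsb.symm).pow_left l).pow_right i'
      have c2 : Commute (b ^ l) (a ^ j') := ((show Commute b a from hab.symm).pow_left l).pow_right j'
      have c3 : Commute (a ^ j) (s ^ i') := ((show Commute a s from hsa.symm).pow_left j).pow_right i'
      simp only [mul_assoc]
      rw [← mul_assoc (b ^ l) (s ^ i'), c1.eq, mul_assoc (s ^ i'), ← mul_assoc (a ^ j) (s ^ i'), c3.eq,
        mul_assoc (s ^ i'), ← mul_assoc (b ^ l) (a ^ j'), c2.eq, mul_assoc (a ^ j')]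
    | inv g _ ih =>
      obtain ⟨i, j, l, hi, hj, hl, rfl⟩ := ih
      refine ⟨i, j, l, hi, hj, hl, ?_⟩
      have c1 : Commute (s ^ i * a ^ j) (b ^ l) :=
        (((show Commute s b from hsb).pow_left i).pow_right l).mul_left
          (((show Commute a b from hab).pow_left j).pow_right l)
      have c2 : Commute (s ^ i) (a ^ j) := ((show Commute s a from hsa).pow_left i).pow_right j
      rw [mul_inv_rev, mul_inv_rev, inv_pow_eq C.s_sq, inv_pow_eq P.sq, inv_pow_eq (C.b_sq P),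
        ← c2.eq, ← c1.eq]
  obtain ⟨i, j, l, hi, hj, hl, rfl⟩ := hform
  interval_cases i
  · interval_cases j <;> interval_cases l <;> simp at Pc ⊢
    · exact absurd rfl Pc.ne_one
  · exfalso
    have hrot := Pc.rot
    have hcomm := Pc.comm
    have hxs : ∀ g : G, x * (s * g) * x⁻¹ = s * (x * g * x⁻¹) := fun g => by
      rw [← mul_assoc x s g, mem_centralizer_singleton_iff.1 C.x_mem]; group
    set d := a ^ j * b ^ l with hd
    have hd' : s ^ 1 * a ^ j * b ^ l = s * d := by rw [hd, pow_one, mul_assoc]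
    rw [hd'] at hrot hcomm Pc
    have hdQ : d ∈ Q := mul_mem (pow_mem P.mem _) (pow_mem (C.b_mem P) _)
    rw [hxs, hxs, mul_assoc s d, C.s_left hdQ, ← mul_assoc s s, C.s_sq, one_mul] at hrot
    have hcases : d = 1 ∨ d = a ∨ d = b ∨ d = a * b := by
      interval_cases j <;> interval_cases l <;> simp [hd]
    have hdd : x * (x * d * x⁻¹) * x⁻¹ = d * (x * d * x⁻¹) := by
      rcases hcases with h | h | h | h
      · exact absurd (by rw [h, mul_one]) Pc.ne_s
      · rw [h]; exact P.rot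
      · rw [h]; exact (C.rotate P).rot
      · rw [h, ← P.rot]; exact (C.rotate (C.rotate P)).rot
    rw [hdd, mul_eq_right] at hrot
    exact C.s_ne hrot
where
  inv_pow_eq {g : G} (h : g * g = 1) {n : ℕ} : (g ^ n)⁻¹ = g ^ n := by
    rw [← inv_pow, inv_eq_of_mul_eq_one_right h]

end Core

end Cfsg.Agent.ExtraThirtyTwo
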