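import Cfsg.Agent.Lib.ExtraThirtyTwo.Model

/-!
A group with generators satisfying the relations of one of the four models is an image of the model.
-/

set_option autoImplicit false

namespace Cfsg.Agent.ExtraThirtyTwo

universe u

variable {G : Type u} [Group G]

/-- Generators satisfying the relations of the model. -/
structure Gens (k : Kind) (s : G) where
  /-- The first generator of the first plane. -/
  a₁ : G
  /-- The second generator of the first plane. -/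
  b₁ : G
  /-- The first generator of the second plane. -/
  a₂ : G
  /-- The second generator of the second plane. -/
  b₂ : G
  /-- The element of order three. -/
  x : G
  /-- The element outside. -/
  t : G
  s_sq : s * s = 1
  a₁_sq : a₁ * a₁ = 1
  b₁_sq : b₁ * b₁ = 1
  a₂_sq : a₂ * a₂ = 1
  b₂_sq : b₂ * b₂ = 1
  s_a₁ : s * a₁ = a₁ * s
  s_b₁ : s * b₁ = b₁ * s
  s_a₂ : s * a₂ = a₂ * s
  s_b₂ : s * b₂ = b₂ * s
  a₁_b₁ : a₁ * b₁ = b₁ * a₁
  a₂_b₂ : a₂ * b₂ = b₂ * a₂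
  a₂_a₁ : a₂ * a₁ = a₁ * a₂
  a₂_b₁ : a₂ * b₁ = s * b₁ * a₂
  b₂_a₁ : b₂ * a₁ = s * a₁ * b₂
  b₂_b₁ : b₂ * b₁ = b₁ * b₂
  x_cube : x ^ 3 = 1
  x_s : x * s = s * x
  x_a₁ : x * a₁ = b₁ * x
  x_b₁ : x * b₁ = a₁ * b₁ * x
  x_a₂ : x * a₂ = b₂ * x
  x_b₂ : x * b₂ = a₂ * b₂ * x
  t_sq : t * t = s ^ k.sq
  t_s : t * s = s * t
  t_x : t * x = x ^ 2 * t
  t_a₁ : t * a₁ = (if k.swaps then a₂ else a₁) * t
  t_b₁ : t * b₁ = (if k.swaps then a₂ * b₂ else a₁ * b₁) * t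
  t_a₂ : t * a₂ = (if k.swaps then a₁ else a₂) * t
  t_b₂ : t * b₂ = (if k.swaps then a₁ * b₁ else a₂ * b₂) * t

namespace Gens

variable {k : Kind} {s : G} (P : Gens k s)

/-- The element of the extraspecial group with a given code. -/
def ph (v : ℕ) : G :=
  s ^ dig 0 v * P.a₁ ^ dig 1 v * P.b₁ ^ dig 2 v * P.a₂ ^ dig 3 v * P.b₂ ^ dig 4 v

/-- The element with a given code. -/
def el (g : ℕ) : G := P.ph (vOf g) * P.x ^ iOf g * P.t ^ jOf g

theorem pow_mod_two {g : G} (h : g * g = 1) (n : ℕ) : g ^ (n % 2) = g ^ n :=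
  (pow_eq_pow_mod n (by rw [pow_two]; exact h)).symm

theorem ph_enc (c p q r l : ℕ) :
    P.ph (enc c p q r l) = s ^ c * P.a₁ ^ p * P.b₁ ^ q * P.a₂ ^ r * P.b₂ ^ l := by
  have e : dig 0 (enc c p q r l) = c % 2 ∧ dig 1 (enc c p q r l) = p % 2 ∧
      dig 2 (enc c p q r l) = q % 2 ∧ dig 3 (enc c p q r l) = r % 2 ∧
      dig 4 (enc c p q r l) = l % 2 := by
    simp only [dig, enc, pow_zero, Nat.div_one]
    omega
  obtain ⟨h0, h1, h2, h3, h4⟩ := e
  rw [ph, h0, h1, h2, h3, h4, pow_mod_two P.s_sq, pow_mod_two P.a₁_sq, pow_mod_two P.b₁_sq,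
    pow_mod_two P.a₂_sq, pow_mod_two P.b₂_sq]

theorem gen_values : P.ph 0 = 1 ∧ P.ph 1 = s ∧ P.ph 2 = P.a₁ ∧ P.ph 4 = P.b₁ ∧ P.ph 8 = P.a₂ ∧
    P.ph 16 = P.b₂ ∧ P.ph 6 = P.a₁ * P.b₁ ∧ P.ph 24 = P.a₂ * P.b₂ := by
  simp [ph, dig]

theorem mul_pow_comm {g h : G} (e : g * h = h * g) (n : ℕ) : g * h ^ n = h ^ n * g :=
  ((Commute.pow_right (show Commute g h from e)) n).eq

theorem twisted_pow {g h : G} (hs : Commute s h) (e : g * h = s * h * g) :
    ∀ n : ℕ, g * h ^ n = s ^ n * h ^ n * g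
  | 0 => by simp
  | n + 1 => by
    rw [pow_succ' h n, ← mul_assoc, e, mul_assoc (s * h), twisted_pow hs e n, pow_succ' s n]
    have := (hs.symm.pow_right n).eq
    simp only [← mul_assoc] at *
    rw [mul_assoc s h, this, ← mul_assoc]

/-- Multiplication on the left by each of the generators. -/
theorem ph_gen (v : ℕ) (hv : v < 32) :
    P.ph (qmul 1 v) = P.ph 1 * P.ph v ∧ P.ph (qmul 2 v) = P.ph 2 * P.ph v ∧
    P.ph (qmul 4 v) = P.ph 4 * P.ph v ∧ P.ph (qmul 8 v) = P.ph 8 * P.ph v ∧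
    P.ph (qmul 16 v) = P.ph 16 * P.ph v := by
  obtain ⟨-, -, henc, e1, e2, e4, e8, e16⟩ := qmul_basic v hv
  obtain ⟨-, g1, g2, g4, g8, g16, -, -⟩ := P.gen_values
  have hvv : P.ph v = s ^ dig 0 v * P.a₁ ^ dig 1 v * P.b₁ ^ dig 2 v * P.a₂ ^ dig 3 v *
      P.b₂ ^ dig 4 v := rfl
  rw [e1, e2, e4, e8, e16, g1, g2, g4, g8, g16, P.ph_enc, P.ph_enc, P.ph_enc, P.ph_enc, P.ph_enc, hvv]
  generalize dig 0 v = c, dig 1 v = p, dig 2 v = q, dig 3 v = r, dig 4 v = l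
  have hcA : Commute s P.a₁ := P.s_a₁
  have hcB : Commute s P.b₁ := P.s_b₁
  have hcC : Commute s P.a₂ := P.s_a₂
  have hcD : Commute s P.b₂ := P.s_b₂
  refine ⟨?_, ?_, ?_, ?_, ?_⟩
  · rw [pow_succ']
    simp only [mul_assoc]
  · simp only [← mul_assoc]
    rw [← (hcA.pow_left c).eq, mul_assoc (s ^ c) P.a₁, ← pow_succ']
  · simp only [← mul_assoc]
    rw [← (hcB.pow_left c).eq, mul_assoc (s ^ c) P.b₁, mul_pow_comm P.a₁_b₁.symm p, ← mul_assoc,
      mul_assoc _ P.b₁ (P.b₁ ^ q), ← pow_succ']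
  · simp only [← mul_assoc]
    rw [← (hcC.pow_left c).eq, mul_assoc (s ^ c) P.a₂, mul_pow_comm P.a₂_a₁ p, ← mul_assoc,
      mul_assoc _ P.a₂ (P.b₁ ^ q), twisted_pow hcB P.a₂_b₁ q, pow_add]
    simp only [← mul_assoc]
    rw [mul_assoc (s ^ c) (P.a₁ ^ p) (s ^ q), ((hcA.pow_left q).pow_right p).eq.symm, ← mul_assoc]
    rw [mul_assoc _ P.a₂ (P.a₂ ^ r), ← pow_succ']
  · simp only [← mul_assoc]
    rw [← (hcD.pow_left c).eq, mul_assoc (s ^ c) P.b₂, twisted_pow hcA P.b₂_a₁ p, pow_add]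
    simp only [← mul_assoc]
    rw [mul_assoc _ P.b₂ (P.b₁ ^ q), mul_pow_comm P.b₂_b₁ q, ← mul_assoc,
      mul_assoc _ P.b₂ (P.a₂ ^ r), mul_pow_comm P.a₂_b₂.symm r, ← mul_assoc,
      mul_assoc _ P.b₂ (P.b₂ ^ l), ← pow_succ']

theorem ph_mul {u v : ℕ} (hu : u < 32) (hv : v < 32) : P.ph (qmul u v) = P.ph u * P.ph v := by
  let good (w : ℕ) : Prop := w < 32 ∧ ∀ v < 32, P.ph (qmul w v) = P.ph w * P.ph v
  have hgen : ∀ n : ℕ, ∀ m ∈ [1, 2, 4, 8, 16], good (m * (n % 2)) := by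
    intro n m hm
    rcases Nat.mod_two_eq_zero_or_one n with e | e <;> rw [e]
    · rw [Nat.mul_zero]
      exact ⟨by norm_num, fun v hv => by rw [(qmul_basic v hv).1, P.gen_values.1, one_mul]⟩
    · rw [Nat.mul_one]
      simp only [List.mem_cons, List.not_mem_nil, or_false] at hm
      refine ⟨by omega, fun v hv => ?_⟩
      obtain ⟨h1, h2, h4, h8, h16⟩ := P.ph_gen v hv
      rcases hm with rfl | rfl | rfl | rfl | rfl <;> assumption
  have hmul : ∀ a b, good a → good b → good (qmul a b) := by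
    intro a b ha hb
    refine ⟨qmul_lt a b, fun v hv => ?_⟩
    rw [qmul_assoc ha.1 hb.1 hv, ha.2 _ (qmul_lt b v), hb.2 v hv, ha.2 b hb.1, mul_assoc]
  have hu' : good u := by
    have d : ∀ k, dig k u % 2 = dig k u := fun k => Nat.mod_mod _ _
    rw [qmul_decomp u hu]
    refine hmul _ _ ?_ (hmul _ _ ?_ (hmul _ _ ?_ (hmul _ _ ?_ ?_)))
    · simpa [d] using hgen (dig 0 u) 1 (by simp)
    · simpa [d] using hgen (dig 1 u) 2 (by simp)
    · simpa [d] using hgen (dig 2 u) 4 (by simp)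
    · simpa [d] using hgen (dig 3 u) 8 (by simp)
    · simpa [d] using hgen (dig 4 u) 16 (by simp)
  exact hu'.2 v hv

theorem ph_lin {A B C D : ℕ} (hA : A < 32) (hB : B < 32) (hC : C < 32) (hD : D < 32) {v : ℕ}
    (hv : v < 32) :
    P.ph (lin A B C D v) = s ^ dig 0 v * P.ph A ^ dig 1 v * P.ph B ^ dig 2 v * P.ph C ^ dig 3 v *
      P.ph D ^ dig 4 v := by
  have h2 : ∀ k, dig k v = 0 ∨ dig k v = 1 := fun k => Nat.mod_two_eq_zero_or_one _
  have hb : ∀ k X, X < 32 → dig k v * X < 32 ∧ P.ph (dig k v * X) = P.ph X ^ dig k v := by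
    intro k X hX
    rcases h2 k with e | e <;> rw [e]
    · rw [Nat.zero_mul, pow_zero]; exact ⟨by norm_num, P.gen_values.1⟩
    · rw [Nat.one_mul, pow_one]; exact ⟨hX, rfl⟩
  have hc : dig 0 v < 32 ∧ P.ph (dig 0 v) = s ^ dig 0 v := by
    have := hb 0 1 (by norm_num)
    rwa [Nat.mul_one, P.gen_values.2.1] at this
  obtain ⟨a, ea⟩ := hb 1 A hA
  obtain ⟨b, eb⟩ := hb 2 B hB
  obtain ⟨c, ec⟩ := hb 3 C hC
  obtain ⟨d, ed⟩ := hb 4 D hD
  rw [lin, P.ph_mul (qmul_lt _ _) d, P.ph_mul (qmul_lt _ _) c, P.ph_mul (qmul_lt _ _) b,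
    P.ph_mul hc.1 a, hc.2, ea, eb, ec, ed]

theorem conj_pow_eq {g h h' : G} (e : g * h = h' * g) (n : ℕ) : g * h ^ n = h' ^ n * g := by
  exact (SemiconjBy.pow_right (show SemiconjBy g h h' from e) n).eq

theorem x_ph {v : ℕ} (hv : v < 32) : P.x * P.ph v = P.ph (sig v) * P.x := by
  rw [sig, P.ph_lin (by norm_num) (by norm_num) (by norm_num) (by norm_num) hv]
  obtain ⟨-, -, -, g4, -, g16, g6, g24⟩ := P.gen_values
  rw [g4, g6, g16, g24, ph]
  exact ((((SemiconjBy.pow_right (show SemiconjBy P.x s s from P.x_s) _).mul_right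
    (SemiconjBy.pow_right (show SemiconjBy P.x P.a₁ P.b₁ from P.x_a₁) _)).mul_right
    (SemiconjBy.pow_right (show SemiconjBy P.x P.b₁ _ from P.x_b₁) _)).mul_right
    (SemiconjBy.pow_right (show SemiconjBy P.x P.a₂ _ from P.x_a₂) _)).mul_right
    (SemiconjBy.pow_right (show SemiconjBy P.x P.b₂ _ from P.x_b₂) _)

theorem t_ph {v : ℕ} (hv : v < 32) : P.t * P.ph v = P.ph (tau k v) * P.t := by
  obtain ⟨-, -, g2, -, g8, -, g6, g24⟩ := P.gen_values
  have hA := P.t_a₁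
  have hB := P.t_b₁
  have hC := P.t_a₂
  have hD := P.t_b₂
  rw [tau]
  split <;> rename_i hk <;> simp only [hk, if_true, Bool.false_eq_true, if_false] at hA hB hC hD <;>
    rw [P.ph_lin (by norm_num) (by norm_num) (by norm_num) (by norm_num) hv, g2, g6, g8, g24, ph] <;>
    exact ((((SemiconjBy.pow_right (show SemiconjBy P.t s s from P.t_s) _).mul_right
    (SemiconjBy.pow_right (show SemiconjBy P.t P.a₁ _ from hA) _)).mul_right
    (SemiconjBy.pow_right (show SemiconjBy P.t P.b₁ _ from hB) _)).mul_right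
    (SemiconjBy.pow_right (show SemiconjBy P.t P.a₂ _ from hC) _)).mul_right
    (SemiconjBy.pow_right (show SemiconjBy P.t P.b₂ _ from hD) _)

theorem lin_lt (A B C D v : ℕ) : lin A B C D v < 32 := qmul_lt _ _

theorem tau_lt (k : Kind) (v : ℕ) : tau k v < 32 := by
  unfold tau; split <;> exact lin_lt _ _ _ _ _

theorem act_lt (k : Kind) (i j : ℕ) {v : ℕ} (hv : v < 32) : act k i j v < 32 := by
  unfold act sig
  dsimp only
  have := tau_lt k v
  split_ifs <;> first | exact lin_lt _ _ _ _ _ | assumption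

theorem xt_ph (i j : ℕ) (hi : i < 3) (hj : j < 2) {v : ℕ} (hv : v < 32) :
    P.x ^ i * P.t ^ j * P.ph v = P.ph (act k i j v) * (P.x ^ i * P.t ^ j) := by
  have hsig : ∀ w, sig w < 32 := fun w => lin_lt _ _ _ _ _
  have ht : ∀ w < 32, P.t * P.ph w = P.ph (tau k w) * P.t := fun w hw => P.t_ph hw
  have hx : ∀ w < 32, P.x * P.ph w = P.ph (sig w) * P.x := fun w hw => P.x_ph hw
  have hx2 : ∀ w < 32, P.x ^ 2 * P.ph w = P.ph (sig (sig w)) * P.x ^ 2 := fun w hw => by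
    rw [pow_two, mul_assoc, hx w hw, ← mul_assoc, hx _ (hsig w), mul_assoc]
  interval_cases i <;> interval_cases j <;> simp only [act, pow_zero, pow_one, one_mul, mul_one,
    if_true, if_false, Nat.reduceEqDiff, OfNat.ofNat_ne_zero, zero_ne_one, one_ne_zero]
  · exact ht v hv
  · exact hx v hv
  · rw [mul_assoc, ht v hv, ← mul_assoc, hx _ (tau_lt k v), mul_assoc]
  · exact hx2 v hv
  · rw [mul_assoc, ht v hv, ← mul_assoc, hx2 _ (tau_lt k v), mul_assoc]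

theorem t_pow_x (j i : ℕ) (hj : j < 2) (hi : i < 3) :
    P.t ^ j * P.x ^ i = P.x ^ (if j = 1 then 3 - i else i) * P.t ^ j := by
  interval_cases j
  · simp
  · simp only [pow_one, if_true]
    interval_cases i
    · simp [P.x_cube]
    · simpa using P.t_x
    · rw [pow_two, ← mul_assoc, P.t_x, mul_assoc, P.t_x, ← mul_assoc, ← pow_add,
        show 2 + 2 = 3 + 1 from rfl, pow_add, P.x_cube, one_mul]

theorem x_pow_mod (n : ℕ) : P.x ^ (n % 3) = P.x ^ n := (pow_eq_pow_mod n P.x_cube).symm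

theorem el_mul (g h : ℕ) : P.el (mul k g h) = P.el g * P.el h := by
  have hv : vOf g < 32 := Nat.mod_lt _ (by norm_num)
  have hv' : vOf h < 32 := Nat.mod_lt _ (by norm_num)
  have hi : iOf g < 3 := Nat.mod_lt _ (by norm_num)
  have hi' : iOf h < 3 := Nat.mod_lt _ (by norm_num)
  have hj : jOf g < 2 := Nat.mod_lt _ (by norm_num)
  have hj' : jOf h < 2 := Nat.mod_lt _ (by norm_num)
  have hc : k.sq * jOf g * jOf h < 2 := by
    have h2 := Nat.mul_le_mul (show k.sq ≤ 1 by cases k <;> simp [Kind.sq])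
      (Nat.mul_le_mul (Nat.le_of_lt_succ hj) (Nat.le_of_lt_succ hj'))
    rw [mul_assoc]
    omega
  have hq := qmul_lt (qmul (vOf g) (act k (iOf g) (jOf g) (vOf h))) (k.sq * jOf g * jOf h)
  have hx3 : xexp (iOf g) (jOf g) (iOf h) < 3 := Nat.mod_lt _ (by norm_num)
  have e1 : vOf (mul k g h) = qmul (qmul (vOf g) (act k (iOf g) (jOf g) (vOf h)))
      (k.sq * jOf g * jOf h) ∧ iOf (mul k g h) = xexp (iOf g) (jOf g) (iOf h) ∧
      jOf (mul k g h) = (jOf g + jOf h) % 2 := by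
    simp only [vOf, iOf, jOf, mul] at hq hx3 ⊢
    omega
  have hphc : P.ph (k.sq * jOf g * jOf h) = s ^ (k.sq * jOf g * jOf h) := by
    interval_cases k.sq * jOf g * jOf h <;> simp [P.gen_values.1, P.gen_values.2.1]
  have htt : P.t ^ jOf g * P.t ^ jOf h = s ^ (k.sq * jOf g * jOf h) * P.t ^ ((jOf g + jOf h) % 2) := by
    interval_cases jOf g <;> interval_cases jOf h <;> simp [P.t_sq]
  have hxs : ∀ a b : ℕ, P.x ^ a * s ^ b = s ^ b * P.x ^ a := fun a b =>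
    (((show Commute P.x s from P.x_s).pow_left a).pow_right b).eq
  rw [el, el, el, e1.1, e1.2.1, e1.2.2,
    P.ph_mul (qmul_lt _ _) (lt_trans hc (by norm_num)), P.ph_mul hv (act_lt _ _ _ hv'), hphc]
  symm
  calc P.ph (vOf g) * P.x ^ iOf g * P.t ^ jOf g * (P.ph (vOf h) * P.x ^ iOf h * P.t ^ jOf h)
      = P.ph (vOf g) * (P.x ^ iOf g * P.t ^ jOf g * P.ph (vOf h)) * (P.x ^ iOf h * P.t ^ jOf h) := by
        simp only [mul_assoc]
    _ = P.ph (vOf g) * P.ph (act k (iOf g) (jOf g) (vOf h)) * P.x ^ iOf g *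
          (P.t ^ jOf g * P.x ^ iOf h) * P.t ^ jOf h := by
        rw [P.xt_ph _ _ hi hj hv']; simp only [mul_assoc]
    _ = P.ph (vOf g) * P.ph (act k (iOf g) (jOf g) (vOf h)) *
          P.x ^ (iOf g + if jOf g = 1 then 3 - iOf h else iOf h) * (P.t ^ jOf g * P.t ^ jOf h) := by
        rw [P.t_pow_x _ _ hj hi', pow_add]; simp only [mul_assoc]
    _ = _ := by
        rw [htt, xexp, P.x_pow_mod]
        simp only [← mul_assoc]
        rw [mul_assoc (P.ph (vOf g) * _), hxs, ← mul_assoc]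

end Gens

end Cfsg.Agent.ExtraThirtyTwo
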