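import Cfsg.Agent.Lib.ExtraThirtyTwo.Local
import Cfsg.Agent.Lib.Cores.Basic
import Cfsg.Agent.Lib.CharP.Sylow
import Cfsg.Prelude.Def_Solvable
import Cfsg.Prelude.Def_Transfer

/-!
From an extraspecial core of order 32 with quotient the symmetric group of degree three to the models.
-/

set_option autoImplicit false

namespace Cfsg.Agent.ExtraThirtyTwo

open Subgroup
open scoped commutatorElement

universe u

variable {G : Type u} [Group G] [Finite G]

/-- The facts about the core which are used to find the generators. -/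
structure Core (s : G) (Q : Subgroup G) (x t : G) (e : ℕ) : Prop where
  card : Nat.card Q = 32
  sQ : s ∈ Q
  s_sq : s * s = 1
  s_ne : s ≠ 1
  cen : ∀ q ∈ Q, s * q = q * s
  center : ∀ q ∈ Q, (∀ r ∈ Q, q * r = r * q) → q = 1 ∨ q = s
  comm : ∀ q ∈ Q, ∀ r ∈ Q, q * r = r * q ∨ q * r = s * r * q
  sq : ∀ q ∈ Q, q * q = 1 ∨ q * q = s
  norm : ∀ g ∈ centralizer ({s} : Set G), ∀ q ∈ Q, g * q * g⁻¹ ∈ Q
  x_mem : x ∈ centralizer ({s} : Set G)
  x_cube : x ^ 3 = 1
  fpf : ∀ q ∈ Q, (x * q * x⁻¹ = q ∨ x * q * x⁻¹ = s * q) → q = 1 ∨ q = s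
  t_mem : t ∈ centralizer ({s} : Set G)
  e_lt : e < 2
  t_sq : t * t = s ^ e
  t_x : t * x = x ^ 2 * t
  card_cent : Nat.card (centralizer ({s} : Set G)) = 192
  span : ∀ g ∈ centralizer ({s} : Set G), ∃ i j : ℕ, i < 3 ∧ j < 2 ∧ g * (x ^ i * t ^ j)⁻¹ ∈ Q

omit [Finite G] in
/-- A group of order two. -/
theorem eq_of_card_two {H : Subgroup G} (h : Nat.card H = 2) {z g : G} (hz : z ∈ H) (hz1 : z ≠ 1)
    (hg : g ∈ H) : g = 1 ∨ g = z := by
  by_contra hcon
  push Not at hcon
  have : Finite H := Nat.finite_of_card_ne_zero (by omega)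
  let f : Fin 3 → H := ![1, ⟨z, hz⟩, ⟨g, hg⟩]
  have hf : Function.Injective f := by
    intro i j hij
    fin_cases i <;> fin_cases j <;>
      simp_all [f, Subtype.ext_iff, eq_comm]
  have := Nat.card_le_card_of_injective f hf
  rw [Nat.card_fin, h] at this
  omega

theorem perm_three : ∀ p : Equiv.Perm (Fin 3), p ^ 3 = 1 → p ≠ 1 →
    Equiv.swap 0 1 * p * Equiv.swap 0 1 ≠ p ∧ ∀ π : Equiv.Perm (Fin 3),
      ∃ i : Fin 3, ∃ j : Fin 2, π = p ^ (i : ℕ) * Equiv.swap 0 1 ^ (j : ℕ) := by
  decide +kernel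

/-- The hypotheses give a core. -/
theorem exists_core (s : G) (hs : orderOf s = 2) (L : Subgroup G)
    (hL : L = centralizer ({s} : Set G))
    (Q : Subgroup G) (hQ : Q = (Cfsg.pCore 2 L).map L.subtype)
    (hQex : Cfsg.IsExtraspecial 2 Q) (hQcard : Nat.card Q = 32)
    (f0 : L ⧸ Cfsg.pCore 2 L ≃* Equiv.Perm (Fin 3))
    (X : Sylow 3 L)
    (hCQX : Q ⊓ centralizer (((X : Subgroup L).map L.subtype : Subgroup G) : Set G) = zpowers s) :
    ∃ (x t : G) (e : ℕ), Core s Q x t e := by
  classical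
  have : Fact (Nat.Prime 2) := ⟨Nat.prime_two⟩
  have : Fact (Nat.Prime 3) := ⟨Nat.prime_three⟩
  have hs2 := Involutions.Basic.inv_sq_one hs
  have hs1 := Involutions.Basic.ne_one hs
  set R := Cfsg.pCore 2 L with hR
  have hQL : Q ≤ L := hQ ▸ Subgroup.map_subtype_le _
  have hsQ : s ∈ Q := by
    have : s ∈ Q ⊓ centralizer (((X : Subgroup L).map L.subtype : Subgroup G) : Set G) := by
      rw [hCQX]; exact mem_zpowers s
    exact (mem_inf.1 this).1
  have hcen : ∀ q ∈ Q, s * q = q * s := fun q hq => (mem_centralizer_singleton_iff.1 (hL ▸ hQL hq)).symm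
  obtain ⟨⟨-, -, hcomm⟩, hZ⟩ := hQex
  have hZmem : (⟨s, hsQ⟩ : Q) ∈ center Q :=
    mem_center_iff.2 fun q => Subtype.ext (hcen q q.2).symm
  have hZcases : ∀ q : Q, q ∈ center Q → (q : G) = 1 ∨ (q : G) = s := by
    intro q hq
    rcases eq_of_card_two hZ hZmem (by simpa [Subtype.ext_iff] using hs1) hq with rfl | rfl
    · exact Or.inl rfl
    · exact Or.inr rfl
  have hcomm' : ∀ q ∈ Q, ∀ r ∈ Q, q * r = r * q ∨ q * r = s * r * q := by
    intro q hq r hr
    have hc : (⟨q, hq⟩ : Q) * ⟨r, hr⟩ * (⟨q, hq⟩ : Q)⁻¹ * (⟨r, hr⟩ : Q)⁻¹ ∈ center Q := by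
      rw [← hcomm, ← commutatorElement_def, _root_.commutator_def]
      exact commutator_mem_commutator (mem_top _) (mem_top _)
    rcases hZcases _ hc with h | h <;> simp only [coe_mul, coe_inv] at h
    · left
      have := mul_inv_eq_one.1 h
      exact mul_inv_eq_iff_eq_mul.1 this
    · right
      rw [← h]; group
  have hsq : ∀ q ∈ Q, q * q = 1 ∨ q * q = s := by
    intro q hq
    refine hZcases (⟨q, hq⟩ * ⟨q, hq⟩) (mem_center_iff.2 fun r => Subtype.ext ?_)
    show (r : G) * (q * q) = q * q * r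
    rcases hcomm' q hq r r.2 with h | h
    · rw [← mul_assoc, ← h, mul_assoc, ← h, ← mul_assoc]
    · have h' : (r : G) * q = s * q * r := by
        have e : s * (q * r) = (r : G) * q := by rw [h, ← mul_assoc, ← mul_assoc, hs2, one_mul]
        rw [← e, mul_assoc]
      rw [← mul_assoc, h', mul_assoc (s * q), h', ← mul_assoc, ← mul_assoc]
      congr 1
      rw [mul_assoc s q s, ← hcen q hq, ← mul_assoc s s q, hs2, one_mul]
  have hRn : R.Normal := Cores.pCore_normal 2
  let f : L →* Equiv.Perm (Fin 3) := f0.toMonoidHom.comp (QuotientGroup.mk' R)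
  have hfker : ∀ g : L, f g = 1 ↔ (g : G) ∈ Q := by
    intro g
    have e1 : f g = 1 ↔ g ∈ R := by simp [f]
    rw [e1, hQ, ← Subgroup.mem_map_iff_mem (f := L.subtype) L.subtype_injective]
    rfl
  have hfsurj : Function.Surjective f := f0.surjective.comp (QuotientGroup.mk'_surjective R)
  have hnorm : ∀ g ∈ L, ∀ q ∈ Q, g * q * g⁻¹ ∈ Q := by
    intro g hg q hq
    have := (hfker (⟨g, hg⟩ * ⟨q, hQL hq⟩ * ⟨g, hg⟩⁻¹)).1 (by
      rw [map_mul, map_mul, map_inv, (hfker ⟨q, hQL hq⟩).2 hq, mul_one, mul_inv_cancel])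
    exact this
  have hcardR : Nat.card R = 32 := by
    rw [← hQcard, hQ]
    exact Nat.card_congr (R.equivMapOfInjective L.subtype L.subtype_injective).toEquiv
  have hcardL : Nat.card L = 192 := by
    rw [Subgroup.card_eq_card_quotient_mul_card_subgroup R, hcardR, Nat.card_congr f0.toEquiv,
      Nat.card_perm, Nat.card_fin]
    rfl
  have hX : Nat.card (X : Subgroup L) = 3 := by
    rw [X.card_eq_multiplicity, hcardL]
    have : Nat.factorization 192 3 = 1 := by
      rw [show (192 : ℕ) = 3 * 2 ^ 6 by norm_num, Nat.factorization_mul (by norm_num) (by norm_num),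
        Finsupp.add_apply, Nat.Prime.factorization_self Nat.prime_three,
        Nat.factorization_eq_zero_of_not_dvd (by norm_num)]
    rw [this, pow_one]
  obtain ⟨⟨xL, hxX⟩, hx1⟩ : ∃ y : (X : Subgroup L), y ≠ 1 := by
    have : Nontrivial (X : Subgroup L) := Finite.one_lt_card_iff_nontrivial.1 (by omega)
    exact exists_ne 1
  have hx1' : xL ≠ 1 := fun h => hx1 (Subtype.ext h)
  have hx3 : xL ^ 3 = 1 := by
    have := pow_card_eq_one' (G := (X : Subgroup L)) (x := ⟨xL, hxX⟩)
    rw [hX] at this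
    simpa [Subtype.ext_iff] using congrArg Subtype.val this
  have hXz : (X : Subgroup L) = zpowers xL := by
    refine (eq_of_le_of_card_ge (zpowers_le.2 hxX) ?_).symm
    rw [hX, Nat.card_zpowers, orderOf_eq_prime hx3 hx1']
  have hfx : f xL ≠ 1 := by
    intro h
    have h32 : orderOf xL ∣ 32 := by
      have hm : (⟨(xL : G), (hfker xL).1 h⟩ : Q) ^ 32 = 1 := by
        rw [← hQcard]; exact pow_card_eq_one'
      refine orderOf_dvd_of_pow_eq_one (Subtype.ext ?_)
      simpa using congrArg Subtype.val hm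
    rw [orderOf_eq_prime hx3 hx1'] at h32
    norm_num at h32
  have hfx3 : f xL ^ 3 = 1 := by rw [← map_pow, hx3, map_one]
  obtain ⟨hswap, hall⟩ := perm_three _ hfx3 hfx
  -- elements of the core commuting with `x`
  have hCx : ∀ g : L, (g : G) ∈ Q → g * xL = xL * g → (g : G) = 1 ∨ (g : G) = s := by
    intro g hg hgx
    have hmem : (g : G) ∈ Q ⊓ centralizer (((X : Subgroup L).map L.subtype : Subgroup G) : Set G) := by
      refine mem_inf.2 ⟨hg, mem_centralizer_iff.2 ?_⟩
      rintro _ ⟨y, hy, rfl⟩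
      rw [SetLike.mem_coe, hXz] at hy
      obtain ⟨n, rfl⟩ := hy
      exact congrArg Subtype.val ((show Commute g xL from hgx).zpow_right n).eq.symm
    rw [hCQX] at hmem
    exact eq_of_card_two (by rw [Nat.card_zpowers, hs]) (mem_zpowers s) hs1 hmem
  -- the normaliser of `X` in `L`
  set N := normalizer ((X : Subgroup L) : Set L) with hN
  have hpow : ∀ g ∈ N, ∃ m < 3, g * xL * g⁻¹ = xL ^ m := by
    intro g hg
    have hz : g * xL * g⁻¹ ∈ zpowers xL := hXz ▸ (mem_normalizer_iff.1 hg xL).1 hxX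
    rw [mem_zpowers_iff_mem_range_orderOf, orderOf_eq_prime hx3 hx1', Finset.mem_image] at hz
    obtain ⟨m, hm, e⟩ := hz
    exact ⟨m, Finset.mem_range.1 hm, e.symm⟩
  have hNker : ∀ g ∈ N, f g = 1 → (g : G) = 1 ∨ (g : G) = s := by
    intro g hg h1
    refine hCx g ((hfker g).1 h1) ?_
    obtain ⟨m, hm, e⟩ := hpow g hg
    have e' : f xL = f xL ^ m := by
      rw [← map_pow, ← e, map_mul, map_mul, map_inv, h1, one_mul, inv_one, mul_one]
    interval_cases m
    · exact absurd (by simpa using e') hfx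
    · exact mul_inv_eq_iff_eq_mul.1 (by simpa using e)
    · rw [pow_two, right_eq_mul] at e'
      exact absurd e' hfx
  have hN12 : ∃ g ∈ N, f g = Equiv.swap 0 1 := by
    let φ : N →* Equiv.Perm (Fin 3) := f.comp N.subtype
    have hk : Nat.card φ.ker ≤ 2 := by
      let ι : φ.ker → ({1, s} : Set G) := fun g => ⟨(((g : N) : L) : G), by
        simpa using hNker ((g : N) : L) (g : N).2 (MonoidHom.mem_ker.1 g.2)⟩
      have hι : Function.Injective ι := fun a b h => by
        have h' : (((a : N) : L) : G) = (((b : N) : L) : G) := Subtype.mk.inj h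
        exact Subtype.ext (Subtype.ext (Subtype.ext h'))
      refine (Nat.card_le_card_of_injective ι hι).trans ?_
      rw [Nat.card_coe_set_eq]
      exact (Set.ncard_insert_le _ _).trans (by simp)
    have hcard := Subgroup.card_eq_card_quotient_mul_card_subgroup φ.ker
    rw [Nat.card_congr (QuotientGroup.quotientKerEquivRange φ).toEquiv] at hcard
    have hn3 : Nat.card (Sylow 3 L) = N.index := X.card_eq_index_normalizer
    have hmod := card_sylow_modEq_one 3 L
    rw [hn3] at hmod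
    have hidx : Nat.card N * N.index = 192 := by rw [N.card_mul_index, hcardL]
    have hr6 : Nat.card φ.range ≤ 6 := by
      refine (Subgroup.card_le_card_group _).trans ?_
      rw [Nat.card_perm, Nat.card_fin]
      rfl
    by_contra hcon
    push Not at hcon
    have hr : Nat.card φ.range ≠ 6 := by
      intro h6
      have htop : φ.range = ⊤ := Subgroup.eq_top_of_card_eq _ (by
        rw [h6, Nat.card_perm, Nat.card_fin]; rfl)
      obtain ⟨g, hg⟩ := htop ▸ Subgroup.mem_top (Equiv.swap (0 : Fin 3) 1)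
      exact hcon g g.2 hg
    have hr3 : Nat.card φ.range ∣ 6 := by
      refine (Subgroup.card_subgroup_dvd_card _).trans (dvd_of_eq ?_)
      rw [Nat.card_perm, Nat.card_fin]
      rfl
    have hr' : Nat.card φ.range ≤ 3 := by
      rcases hr3 with ⟨c, hc⟩
      rcases c with _ | _ | c
      · omega
      · omega
      · nlinarith [hc]
    have hNle : Nat.card N ≤ 6 := by rw [hcard]; nlinarith
    have h6 : 3 ∣ Nat.card N := by
      have := Subgroup.card_dvd_of_le (le_normalizer (H := (X : Subgroup L)))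
      rwa [hX] at this
    unfold Nat.ModEq at hmod
    obtain ⟨c, hc⟩ := h6
    have hc2 : c ≤ 2 := by omega
    interval_cases c
    · simp only [hc, Nat.mul_zero, Nat.zero_mul] at hidx; omega
    · have : N.index = 64 := by rw [hc] at hidx; omega
      have hN3 : Nat.card N = 3 := hc
      have hsN : (⟨s, hQL hsQ⟩ : L) ∈ N := by
        refine mem_normalizer_iff.2 fun y => ?_
        have : (⟨s, hQL hsQ⟩ : L) * y = y * ⟨s, hQL hsQ⟩ :=
          Subtype.ext (mem_centralizer_singleton_iff.1 (hL ▸ y.2)).symm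
        rw [this, mul_inv_cancel_right]
      have h2 := Subgroup.orderOf_dvd_natCard _ hsN
      rw [hN3, ← orderOf_injective L.subtype L.subtype_injective] at h2
      simp [hs] at h2
    · have : N.index = 32 := by rw [hc] at hidx; omega
      rw [this] at hmod; omega
  obtain ⟨tL, htN, hft⟩ := hN12
  have htx : tL * xL * tL⁻¹ = xL ^ 2 := by
    obtain ⟨m, hm, e⟩ := hpow tL htN
    have e' : Equiv.swap 0 1 * f xL * Equiv.swap 0 1 = f xL ^ m := by
      rw [← map_pow, ← e, map_mul, map_mul, map_inv, hft, Equiv.swap_inv]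
    interval_cases m
    · exfalso
      apply hfx
      rw [pow_zero] at e
      have h1 : xL = 1 := by simpa using e
      rw [h1, map_one]
    · exact absurd (by simpa using e') hswap
    · exact e
  have htsq : ((tL * tL : L) : G) = 1 ∨ ((tL * tL : L) : G) = s :=
    hNker _ (mul_mem htN htN) (by rw [map_mul, hft, Equiv.swap_mul_self])
  have hxcube : (xL : G) ^ 3 = 1 := by simpa using congrArg Subtype.val hx3
  have htxG : (tL : G) * xL * (tL : G)⁻¹ = (xL : G) ^ 2 := by
    simpa using congrArg Subtype.val htx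
  obtain ⟨e, he, hte⟩ : ∃ e < 2, (tL : G) * tL = s ^ e := by
    rcases htsq with h | h
    · exact ⟨0, by norm_num, by simpa using h⟩
    · exact ⟨1, by norm_num, by simpa using h⟩
  refine ⟨xL, tL, e, ⟨hQcard, hsQ, hs2, hs1, hcen, ?_, hcomm', hsq, fun g hg => hnorm g (hL ▸ hg), hL ▸ xL.2, hxcube, ?_, hL ▸ tL.2,
    he, hte, mul_inv_eq_iff_eq_mul.1 htxG, hL ▸ hcardL, ?_⟩⟩
  · intro q hq h
    exact hZcases ⟨q, hq⟩ (mem_center_iff.2 fun r => Subtype.ext (h r r.2).symm)
  · intro q hq h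
    rcases h with h | h
    · exact hCx ⟨q, hQL hq⟩ hq (Subtype.ext (mul_inv_eq_iff_eq_mul.1 h).symm)
    · exfalso
      apply hs1
      have hxs : (xL : G) * s = s * xL := mem_centralizer_singleton_iff.1 (hL ▸ xL.2)
      have h2 : ∀ y : G, (xL : G) * (s * y) * (xL : G)⁻¹ = s * ((xL : G) * y * (xL : G)⁻¹) := by
        intro y; rw [← mul_assoc (xL : G) s y, hxs]; group
      have hconj : ∀ y : G, (xL : G) * y * (xL : G)⁻¹ = s * y →
          (xL : G) ^ 2 * y * ((xL : G) ^ 2)⁻¹ = y := by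
        intro y hy
        rw [pow_two, mul_inv_rev, show (xL : G) * xL * y * ((xL : G)⁻¹ * (xL : G)⁻¹) =
          xL * (xL * y * (xL : G)⁻¹) * (xL : G)⁻¹ by group, hy, h2, hy, ← mul_assoc, hs2, one_mul]
      have h4 := hconj q h
      have h5 : (xL : G) ^ 3 * q * ((xL : G) ^ 3)⁻¹ = s * q := by
        rw [pow_succ', mul_inv_rev, show (xL : G) * (xL : G) ^ 2 * q *
          (((xL : G) ^ 2)⁻¹ * (xL : G)⁻¹) = xL * ((xL : G) ^ 2 * q * ((xL : G) ^ 2)⁻¹) * (xL : G)⁻¹
          by group, h4, h]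
      rw [hxcube, one_mul, inv_one, mul_one, right_eq_mul] at h5
      exact h5
  · intro g hg0
    have hg : g ∈ L := hL ▸ hg0
    obtain ⟨i, j, hij⟩ := hall (f ⟨g, hg⟩)
    refine ⟨i, j, i.2, j.2, ?_⟩
    have := (hfker (⟨g, hg⟩ * (xL ^ (i : ℕ) * tL ^ (j : ℕ))⁻¹)).1 (by
      rw [map_mul, map_inv, map_mul, map_pow, map_pow, hft, ← hij, mul_inv_cancel])
    simpa using this

end Cfsg.Agent.ExtraThirtyTwo
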